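import Cfsg.Prelude.Def_SporadicB
import Cfsg.Agent.AltMult.Main
import Cfsg.Agent.AltMult.Pres

/-!
Double covers of alternating groups: double transpositions lift to elements of order four, and
lifts of disjoint even permutations commute.
-/

set_option autoImplicit false

namespace Cfsg.Agent.CoverDegree

open Equiv Equiv.Perm Cfsg.Agent.AltMult

/-- A double cover of the alternating group with its projection. -/
structure Cov (H : Type*) [Group H] (n : ℕ) where
  π : H →* alternatingGroup (Fin n)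
  z : H
  surj : Function.Surjective π
  z_ne : z ≠ 1
  z_sq : z * z = 1
  z_comm : ∀ g, g * z = z * g
  z_ker : π z = 1
  ker : ∀ g, π g = 1 → g = 1 ∨ g = z
  dbl : ∀ g, ∀ a b c d : Fin n, a ≠ b → a ≠ c → a ≠ d → b ≠ c → b ≠ d → c ≠ d →
    (π g : Perm (Fin n)) = swap a b * swap c d → g * g = z

section doubleSwap

variable {α : Type*} [Fintype α] [DecidableEq α]

theorem double_disjoint {a b c d : α} (hab : a ≠ b) (hac : a ≠ c) (had : a ≠ d) (hbc : b ≠ c)
    (hbd : b ≠ d) (hcd : c ≠ d) : Disjoint (swap a b) (swap c d) := by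
  rw [disjoint_iff_disjoint_support, support_swap hab, support_swap hcd]
  simp [Finset.disjoint_left, hac, had, hbc, hbd]

theorem double_cycleType {a b c d : α} (hab : a ≠ b) (hac : a ≠ c) (had : a ≠ d) (hbc : b ≠ c)
    (hbd : b ≠ d) (hcd : c ≠ d) : (swap a b * swap c d).cycleType = {2, 2} := by
  rw [(double_disjoint hab hac had hbc hbd hcd).cycleType_mul, (isCycle_swap hab).cycleType,
    (isCycle_swap hcd).cycleType, support_swap hab, support_swap hcd, Finset.card_pair hab,
    Finset.card_pair hcd]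
  rfl

theorem double_support_card {a b c d : α} (hab : a ≠ b) (hac : a ≠ c) (had : a ≠ d) (hbc : b ≠ c)
    (hbd : b ≠ d) (hcd : c ≠ d) : (swap a b * swap c d).support.card = 4 := by
  rw [← sum_cycleType, double_cycleType hab hac had hbc hbd hcd]
  rfl

theorem sign_double {a b c d : α} (hab : a ≠ b) (hcd : c ≠ d) :
    swap a b * swap c d ∈ alternatingGroup α := by
  rw [mem_alternatingGroup, map_mul, sign_swap hab, sign_swap hcd, Int.units_mul_self]

end doubleSwap

variable {H : Type*} [Group H] [Finite H]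

theorem exists_cov {n : ℕ} (hn : 5 ≤ n)
    (h : Cfsg.IsNonsplitDoubleCover H (alternatingGroup (Fin n))) :
    ∃ C : Cov H n, ∀ g ∈ Subgroup.center H, g = 1 ∨ g = C.z := by
  classical
  obtain ⟨m, rfl⟩ : ∃ m, n = m + 2 := ⟨n - 2, by omega⟩
  obtain ⟨hc2, ⟨e⟩, hns⟩ := h
  let π : H →* alternatingGroup (Fin (m + 2)) :=
    e.toMonoidHom.comp (QuotientGroup.mk' (Subgroup.center H))
  have hsurj : Function.Surjective π := e.surjective.comp (QuotientGroup.mk'_surjective _)
  have hker : π.ker = Subgroup.center H := by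
    ext g
    rw [MonoidHom.mem_ker]
    show e (QuotientGroup.mk' (Subgroup.center H) g) = 1 ↔ _
    rw [EmbeddingLike.map_eq_one_iff, QuotientGroup.mk'_apply, QuotientGroup.eq_one_iff]
  obtain ⟨z', hz1, hzall⟩ : ∃ z : Subgroup.center H, z ≠ 1 ∧ ∀ g : Subgroup.center H, g = 1 ∨ g = z := by
    obtain ⟨a, b, hab, hset⟩ := Nat.card_eq_two_iff.mp hc2
    have all2 : ∀ g : Subgroup.center H, g = a ∨ g = b := fun g => by
      have : g ∈ ({a, b} : Set (Subgroup.center H)) := hset ▸ Set.mem_univ g
      simpa using this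
    rcases all2 1 with h1 | h1
    · exact ⟨b, fun hb => hab (h1.symm.trans hb.symm), fun g => (all2 g).imp (fun hg => hg.trans h1.symm) id⟩
    · exact ⟨a, fun ha => hab (ha.trans h1), fun g => (all2 g).symm.imp (fun hg => hg.trans h1.symm) id⟩
  set z : H := z'.1 with hz
  have hzne : z ≠ 1 := fun h => hz1 (Subtype.ext h)
  have hzc : ∀ g, g * z = z * g := fun g => Subgroup.mem_center_iff.1 z'.2 g
  have hk : ∀ g, π g = 1 → g = 1 ∨ g = z := fun g hg => by
    have hg' : g ∈ Subgroup.center H := hker ▸ MonoidHom.mem_ker.2 hg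
    exact (hzall ⟨g, hg'⟩).imp (congrArg Subtype.val) (congrArg Subtype.val)
  have hzk : π z = 1 := MonoidHom.mem_ker.1 (hker ▸ z'.2)
  have hz2 : z * z = 1 := by
    rcases hzall (z' * z') with h' | h'
    · exact congrArg Subtype.val h'
    · exact absurd (mul_left_cancel (a := z') (h'.trans (mul_one z').symm)) hz1
  have hgen3 : ∀ i < m, gen m i ^ 3 = 1 := fun i hi => by
    apply Subtype.ext
    rw [SubgroupClass.coe_pow, gen_val hi, OneMemClass.coe_one]
    exact cyc_pow_three zero_ne_one' (pt_ne_zero hi).symm (pt_ne_one hi).symm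
  have hlift : ∀ i, ∃ y : H, i < m → π y = gen m i ∧ y ^ 3 = 1 := by
    intro i
    by_cases hi : i < m
    · obtain ⟨y, hy⟩ := hsurj (gen m i)
      refine ⟨y ^ 4, fun _ => ⟨?_, ?_⟩⟩
      · rw [map_pow, hy, pow_succ, hgen3 i hi, one_mul]
      · rw [← pow_mul, show 4 * 3 = 3 * 4 by rfl, pow_mul]
        rcases hk (y ^ 3) (by rw [map_pow, hy, hgen3 i hi]) with h' | h'
        · rw [h', one_pow]
        · rw [h', show (4 : ℕ) = 2 + 2 by rfl, pow_add, pow_two, hz2, one_mul]
    · exact ⟨1, fun h => absurd h hi⟩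
  choose E hE using hlift
  set b := fun i j => (E i * E j) ^ 2 with hb
  have hbcases : ∀ i j, i < m → j < m → i ≠ j → b i j = 1 ∨ b i j = z := fun i j hi hj hij =>
    hk _ (by rw [hb, map_pow, map_mul, (hE i hi).1, (hE j hj).1, gen_mul_sq hi hj hij])
  have h0 : (0 : ℕ) < m := by omega
  have h1 : (1 : ℕ) < m := by omega
  have hkey : ∀ {i j : ℕ}, i < m → j < m → i ≠ j →
      cyc 0 1 (pt m i) * cyc 0 1 (pt m j) = swap 0 (pt m i) * swap 1 (pt m j) := by
    intro i j hi hj hij
    have h' := swap_apply_apply (swap (0 : Fin (m + 2)) 1) 0 (pt m j)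
    rw [swap_apply_left, swap_apply_of_ne_of_ne (pt_ne_zero hj) (pt_ne_one hj), swap_inv] at h'
    rw [h']
    simp only [cyc, mul_assoc]
  have hcomp : ∀ {i j : ℕ}, i < m → j < m → i ≠ j →
      ((gen m i * gen m j : alternatingGroup (Fin (m + 2))) : Perm (Fin (m + 2))).cycleType = {2, 2} := by
    intro i j hi hj hij
    have hpq : pt m i ≠ pt m j := fun e => hij (pt_inj hi hj e)
    rw [Subgroup.coe_mul, gen_val hi, gen_val hj, hkey hi hj hij]
    exact double_cycleType (pt_ne_zero hi).symm zero_ne_one' (pt_ne_zero hj).symm (pt_ne_one hi)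
      hpq (pt_ne_one hj).symm
  have hall : ∀ g : H, ((π g : Perm (Fin (m + 2))).cycleType = {2, 2}) → g * g = b 0 1 := by
    intro g hg
    have hw : π (E 0 * E 1) = gen m 0 * gen m 1 := by rw [map_mul, (hE 0 h0).1, (hE 1 h1).1]
    have hct := hcomp h0 h1 (by norm_num)
    obtain ⟨π₀, hπ₀⟩ := isConj_iff.1 (isConj_iff_cycleType_eq.2 (hct.trans hg.symm))
    obtain ⟨σ, hσ⟩ : ∃ σ : alternatingGroup (Fin (m + 2)),
        σ * (gen m 0 * gen m 1) * σ⁻¹ = π g := by
      rcases Int.units_eq_one_or (Perm.sign π₀) with h | h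
      · exact ⟨⟨π₀, mem_alternatingGroup.2 h⟩, Subtype.ext hπ₀⟩
      · have hcm : Commute (swap (0 : Fin (m + 2)) (pt m 0))
            (gen m 0 * gen m 1 : alternatingGroup (Fin (m + 2))).1 := by
          rw [Subgroup.coe_mul, gen_val h0, gen_val h1, hkey h0 h1 (by norm_num)]
          exact (Commute.refl _).mul_right
            (double_disjoint (pt_ne_zero h0).symm zero_ne_one' (pt_ne_zero h1).symm (pt_ne_one h0)
              (fun e => absurd (pt_inj h0 h1 e) (by norm_num)) (pt_ne_one h1).symm).commute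
        refine ⟨⟨π₀ * swap 0 (pt m 0), ?_⟩, Subtype.ext ?_⟩
        · rw [mem_alternatingGroup, map_mul, h, sign_swap (pt_ne_zero h0).symm, Int.units_mul_self]
        · rw [← hπ₀]
          show π₀ * swap 0 (pt m 0) * _ * (π₀ * swap 0 (pt m 0))⁻¹ = _
          rw [mul_assoc π₀, hcm.eq, ← mul_assoc π₀, mul_inv_rev]
          group
    obtain ⟨y, rfl⟩ := hsurj σ
    have hcase : y * (E 0 * E 1) * y⁻¹ = g ∨ y * (E 0 * E 1) * y⁻¹ = g * z := by
      rcases hk (g⁻¹ * (y * (E 0 * E 1) * y⁻¹))
        (by rw [map_mul, map_mul, map_mul, map_inv, map_inv, hw, hσ, inv_mul_cancel]) with h' | h'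
      · exact Or.inl (inv_mul_eq_one.1 h').symm
      · exact Or.inr (inv_mul_eq_iff_eq_mul.1 h')
    have hsq : g * g = (y * (E 0 * E 1) * y⁻¹) * (y * (E 0 * E 1) * y⁻¹) := by
      rcases hcase with h' | h' <;> rw [h']
      rw [mul_assoc g z, ← mul_assoc z g z, ← hzc g, mul_assoc g z z, hz2, mul_one]
    rw [hsq, show y * (E 0 * E 1) * y⁻¹ * (y * (E 0 * E 1) * y⁻¹) = y * b 0 1 * y⁻¹ by
      simp only [hb, pow_two]; group]
    rcases hbcases 0 1 h0 h1 (by norm_num) with h' | h' <;> rw [h']
    · group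
    · rw [hzc, mul_inv_cancel_right]
  have hball : ∀ i j, i < m → j < m → i ≠ j → b i j = b 0 1 := fun i j hi hj hij => by
    rw [← hall (E i * E j) (by rw [map_mul, (hE i hi).1, (hE j hj).1]; exact hcomp hi hj hij)]
    exact pow_two _
  have hb01 : b 0 1 = z := by
    rcases hbcases 0 1 h0 h1 (by norm_num) with h' | h'
    swap
    · exact h'
    exfalso
    set L := Subgroup.closure (E '' Set.Iio m) with hL
    have hmap : L.map π = ⊤ := gen_closure _ fun i hi =>
      ⟨E i, Subgroup.subset_closure ⟨i, hi, rfl⟩, (hE i hi).1⟩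
    have hle := two_mul_card_closure_le m E (fun i hi => (hE i hi).2)
      (fun i j hi hj hij => (hball i j hi hj hij).trans h')
    rw [← hL] at hle
    have hA : 2 * Nat.card (alternatingGroup (Fin (m + 2))) = (m + 2).factorial := by
      rw [two_mul_nat_card_alternatingGroup, Nat.card_perm, Nat.card_fin]
    have hge : Nat.card (alternatingGroup (Fin (m + 2))) ≤ Nat.card L := by
      rw [← Subgroup.card_top (G := alternatingGroup (Fin (m + 2))), ← hmap]
      exact Nat.le_of_dvd Nat.card_pos (Subgroup.card_map_dvd L π)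
    have hLc : Nat.card L = Nat.card (alternatingGroup (Fin (m + 2))) := by omega
    have hcard : Nat.card H = 2 * Nat.card (alternatingGroup (Fin (m + 2))) := by
      rw [Subgroup.card_eq_card_quotient_mul_card_subgroup (Subgroup.center H), hc2,
        Nat.card_congr e.toEquiv, mul_comm]
    have hzL : z ∉ L := by
      intro hzL
      have : L = ⊤ := eq_top_iff.2 fun g _ => by
        obtain ⟨l, hl, hle'⟩ := (hmap ▸ Subgroup.mem_top (π g) : π g ∈ L.map π)
        rcases hk (l⁻¹ * g) (by rw [map_mul, map_inv, hle', inv_mul_cancel]) with h'' | h''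
        · rw [← inv_mul_eq_one.1 h'']; exact hl
        · rw [inv_mul_eq_iff_eq_mul.1 h'']; exact mul_mem hl hzL
      rw [this, Subgroup.card_top, hcard] at hLc
      have : 0 < Nat.card (alternatingGroup (Fin (m + 2))) := Nat.card_pos
      omega
    refine hns L (Subgroup.isComplement'_of_card_mul_and_disjoint ?_ ?_)
    · rw [hc2, hLc, hcard]
    · rw [Subgroup.disjoint_def]
      intro g hg hgL
      rcases hzall ⟨g, hg⟩ with h'' | h''
      · exact congrArg Subtype.val h''
      · exact absurd (by rw [show z = g from (congrArg Subtype.val h'').symm]; exact hgL) hzL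
  refine ⟨⟨π, z, hsurj, hzne, hz2, hzc, hzk, hk, fun g a b' c d h₁ h₂ h₃ h₄ h₅ h₆ hg => ?_⟩,
    fun g hg => (hzall ⟨g, hg⟩).imp (congrArg Subtype.val) (congrArg Subtype.val)⟩
  rw [hall g (hg ▸ double_cycleType h₁ h₂ h₃ h₄ h₅ h₆), hb01]

variable {n : ℕ} (C : Cov H n)

omit [Finite H]

namespace Cov

/-- The permutation of an element. -/
def p : H →* Perm (Fin n) := (alternatingGroup (Fin n)).subtype.comp C.π

theorem p_mem (g : H) : C.p g ∈ alternatingGroup (Fin n) := (C.π g).2

theorem exists_lift {s : Perm (Fin n)} (hs : s ∈ alternatingGroup (Fin n)) : ∃ g, C.p g = s := by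
  obtain ⟨g, hg⟩ := C.surj ⟨s, hs⟩
  exact ⟨g, congrArg Subtype.val hg⟩

theorem p_eq_one {g : H} (h : C.p g = 1) : g = 1 ∨ g = C.z := C.ker g (Subtype.ext h)

theorem p_z : C.p C.z = 1 := congrArg Subtype.val C.z_ker

theorem p_eq {g h : H} (e : C.p g = C.p h) : g = h ∨ g = h * C.z := by
  rcases C.p_eq_one (g := h⁻¹ * g) (by rw [map_mul, map_inv, e, inv_mul_cancel]) with h' | h'
  · exact Or.inl (inv_mul_eq_one.1 h').symm
  · exact Or.inr (inv_mul_eq_iff_eq_mul.1 h')

theorem commute_z (g : H) : Commute C.z g := (C.z_comm g).symm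

theorem z_pow_odd {m : ℕ} (h : Odd m) : C.z ^ m = C.z := by
  obtain ⟨k, rfl⟩ := h
  rw [pow_succ, pow_mul, pow_two, C.z_sq, one_pow, one_mul]

/-- An element of odd order in the quotient commutes with what it commutes with there. -/
theorem commute_of_odd {x r : H} (hc : Commute (C.p x) (C.p r)) {m : ℕ} (hm : Odd m)
    (hr : C.p r ^ m = 1) : Commute x r := by
  rcases C.p_eq (g := x * r * x⁻¹) (h := r)
    (by rw [map_mul, map_mul, map_inv, hc.eq, mul_inv_cancel_right]) with h | h
  · exact mul_inv_eq_iff_eq_mul.1 h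
  · exfalso
    have hrm : r ^ m = 1 ∨ r ^ m = C.z := C.p_eq_one (by rw [map_pow, hr])
    have h1 : x * r ^ m * x⁻¹ = r ^ m * C.z := by
      rw [← conj_pow, h, (C.commute_z r).symm.mul_pow, C.z_pow_odd hm]
    rcases hrm with h2 | h2 <;> rw [h2] at h1
    · rw [mul_one, mul_inv_cancel, one_mul] at h1; exact C.z_ne h1.symm
    · rw [(C.commute_z x).symm.eq, mul_inv_cancel_right, C.z_sq] at h1; exact C.z_ne h1

/-- Lifts of disjoint even permutations commute. -/
theorem commute_of_disjoint {x r : H} (hd : Disjoint (C.p x) (C.p r)) : Commute x r := by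
  classical
  set S := (C.p r).support
  have hfix : ∀ {c : Perm (Fin n)}, c.support ⊆ S → Commute (C.p x) c := fun {c} hc =>
    (Perm.Disjoint.mono hd (Finset.Subset.refl _) hc).commute
  -- the lifts of elements supported in `S` commuting with `x`
  let K : Subgroup (Perm (Fin n)) :=
    (Subgroup.centralizer ({x} : Set H)).map C.p
  suffices hmem : C.p r ∈ K by
    obtain ⟨g, hg, hge⟩ := hmem
    have hgx : Commute x g := (Subgroup.mem_centralizer_singleton_iff.1 hg).symm
    rcases C.p_eq hge.symm with h | h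
    · rwa [h]
    · rw [h]; exact hgx.mul_right (C.commute_z x).symm
  let q : Fin n → Prop := fun i => i ∈ S
  have hq : ∀ i, q (C.p r i) ↔ q i := fun i => apply_mem_support
  have hr' : (C.p r).subtypePerm hq ∈ alternatingGroup (Subtype q) := by
    rw [mem_alternatingGroup]
    convert (sign_subtypePerm (C.p r) hq fun i hi => mem_support.2 hi).trans
      (mem_alternatingGroup.1 (C.p_mem r))
  rw [← closure_three_cycles_eq_alternating] at hr'
  have hmap := Subgroup.mem_map_of_mem (ofSubtype (p := q)) hr'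
  rw [ofSubtype_subtypePerm hq fun i hi => mem_support.2 hi, MonoidHom.map_closure] at hmap
  refine (Subgroup.closure_le K).2 ?_ hmap
  rintro _ ⟨c, hc, rfl⟩
  have hc3 : (ofSubtype c).cycleType = {3} := cycleType_ofSubtype.trans hc
  have h3 : IsThreeCycle (ofSubtype c) := hc3
  obtain ⟨g, hg⟩ := C.exists_lift h3.mem_alternatingGroup
  refine ⟨g, Subgroup.mem_centralizer_singleton_iff.2 ?_, hg⟩
  refine (C.commute_of_odd (m := 3) ?_ (by decide) ?_).eq.symm
  · rw [hg]
    refine hfix fun i hi => ?_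
    by_contra hiS
    exact mem_support.1 hi (ofSubtype_apply_of_not_mem c hiS)
  · rw [hg, ← h3.orderOf, pow_orderOf_eq_one]

end Cov

end Cfsg.Agent.CoverDegree
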