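import Mathlib

/-!
Linear permutations of the space of eight vectors are even.
-/

set_option autoImplicit false
set_option maxRecDepth 100000
set_option maxHeartbeats 0

namespace Cfsg.Agent.CoverDegree

open Equiv

/-- The linear map with given values on the three unit vectors. -/
def lin8 (a b c i : Fin 8) : Fin 8 :=
  (bif i.val.testBit 0 then a else 0) ^^^ (bif i.val.testBit 1 then b else 0) ^^^
    (bif i.val.testBit 2 then c else 0)

/-- A transposition as a function. -/
def sw8 (i j x : Fin 8) : Fin 8 := bif x.val == i.val then j else (bif x.val == j.val then i else x)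

/-- Apply a list of transpositions. -/
def app8 : List (Fin 8 × Fin 8) → Fin 8 → Fin 8
  | [], x => x
  | p :: l, x => sw8 p.1 p.2 (app8 l x)

/-- Factor a permutation into transpositions. -/
def fac8 : List (Fin 8) → (Fin 8 → Fin 8) → List (Fin 8 × Fin 8)
  | [], _ => []
  | i :: r, f => bif (f i).val == i.val then fac8 r f
      else (i, f i) :: fac8 r (fun x => sw8 i (f i) (f x))

/-- The check for one map. -/
def chk8 (a b c : Fin 8) : Bool :=
  let f := lin8 a b c
  let l := fac8 (List.finRange 8) f
  (List.finRange 8).any (fun x => (List.finRange 8).any fun y => x.val != y.val && (f x).val == (f y).val) ||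
    (l.length % 2 == 0 && l.all (fun p => p.1.val != p.2.val) &&
      (List.finRange 8).all fun x => (app8 l x).val == (f x).val)

theorem chk8_ok : ∀ a b c : Fin 8, chk8 a b c = true := by decide +kernel

theorem app8_eq (l : List (Fin 8 × Fin 8)) (x : Fin 8) :
    app8 l x = (l.map fun p => swap p.1 p.2).prod x := by
  induction l with
  | nil => rfl
  | cons p l ih =>
    rw [List.map_cons, List.prod_cons, Perm.mul_apply, ← ih, app8, sw8, swap_apply_def]
    generalize app8 l x = y
    by_cases h1 : y = p.1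
    · simp [h1]
    · by_cases h2 : y = p.2
      · simp [h2, Fin.ext_iff]
      · have n1 : y.val ≠ p.1.val := fun e => h1 (Fin.ext e)
        have n2 : y.val ≠ p.2.val := fun e => h2 (Fin.ext e)
        simp [h1, h2, beq_eq_false_iff_ne.2 n1, beq_eq_false_iff_ne.2 n2]

/-- A linear permutation is even. -/
theorem sign_linear (π : Perm (Fin 8)) (h : ∀ i j, π (i ^^^ j) = π i ^^^ π j) : Perm.sign π = 1 := by
  have hlin : ∀ i, π i = lin8 (π 1) (π 2) (π 4) i := by
    have h0 : π 0 = 0 := by
      have := h 0 0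
      have key : ∀ x : Fin 8, x ^^^ x = 0 := by decide
      rw [show (0 : Fin 8) ^^^ 0 = 0 from by decide, key] at this
      exact this
    have key1 : ∀ x : Fin 8, x ^^^ 0 = x := by decide
    have key2 : ∀ x : Fin 8, (0 : Fin 8) ^^^ x = x := by decide
    intro i
    fin_cases i
    · show π 0 = 0 ^^^ 0 ^^^ 0
      rw [key1, key1, h0]
    · show π 1 = π 1 ^^^ 0 ^^^ 0
      rw [key1, key1]
    · show π 2 = 0 ^^^ π 2 ^^^ 0
      rw [key1, key2]
    · show π (1 ^^^ 2) = π 1 ^^^ π 2 ^^^ 0
      rw [key1, h]
    · show π 4 = 0 ^^^ 0 ^^^ π 4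
      rw [key1, key2]
    · show π (1 ^^^ 4) = π 1 ^^^ 0 ^^^ π 4
      rw [key1, h]
    · show π (2 ^^^ 4) = 0 ^^^ π 2 ^^^ π 4
      rw [key2, h]
    · show π (1 ^^^ 2 ^^^ 4) = π 1 ^^^ π 2 ^^^ π 4
      rw [h, h]
  have hc := chk8_ok (π 1) (π 2) (π 4)
  simp only [chk8, Bool.or_eq_true, Bool.and_eq_true, List.any_eq_true, List.all_eq_true,
    List.mem_finRange, true_and, beq_iff_eq, bne_iff_ne, ne_eq, forall_true_left] at hc
  rcases hc with ⟨x, y, hxy, he⟩ | ⟨⟨hlen, hne⟩, happ⟩
  · exfalso
    rw [← hlin, ← hlin] at he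
    exact hxy (congrArg Fin.val (π.injective (Fin.ext he)))
  · set l := fac8 (List.finRange 8) (lin8 (π 1) (π 2) (π 4))
    have e : π = (l.map fun p => swap p.1 p.2).prod :=
      Equiv.ext fun x => by rw [hlin, ← app8_eq]; exact (Fin.ext (happ x)).symm
    rw [e, map_list_prod, List.map_map, List.eq_replicate_iff.2 ⟨List.length_map _, fun u hu => by
      obtain ⟨p, hp, rfl⟩ := List.mem_map.1 hu
      exact Perm.sign_swap fun e => hne p hp (congrArg Fin.val e)⟩, List.prod_replicate]
    exact Even.neg_one_pow (Nat.even_iff.2 hlen)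

end Cfsg.Agent.CoverDegree
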