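import Cfsg.Agent.CoverDegree.Large
import Cfsg.Agent.CoverDegree.Linear8

/-!
Degrees nine and ten: the fixed points of a noncentral involution and the subgroup fixing the last
points.
-/

set_option autoImplicit false
set_option linter.unusedSectionVars false

namespace Cfsg.Agent.CoverDegree

open Equiv Equiv.Perm Cfsg.Agent.AltMult

variable {H : Type*} [Group H] {n : ℕ} (C : Cov H n)

/-- The points from eight on. -/
def high (n : ℕ) : Finset (Fin n) := Finset.univ.filter fun i => 8 ≤ i.val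

theorem mem_high {i : Fin n} : i ∈ high n ↔ 8 ≤ i.val := by simp [high]

theorem card_high (hn : 9 ≤ n ∧ n ≤ 10) : (high n).card = n - 8 := by
  obtain ⟨h1, h2⟩ := hn
  interval_cases n <;> rfl

/-- The lifts fixing the points from eight on. -/
def Low : Subgroup H where
  carrier := {g | ∀ i : Fin n, 8 ≤ i.val → C.p g i = i}
  one_mem' := fun i _ => by rw [map_one, Perm.one_apply]
  mul_mem' := fun hg hh i hi => by rw [map_mul, Perm.mul_apply, hh i hi, hg i hi]
  inv_mem' := fun {g} hg i hi => by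
    rw [map_inv]; conv_lhs => rw [← hg i hi]
    exact (C.p g).symm_apply_apply i

theorem z_mem_Low : C.z ∈ Low C := fun i _ => by rw [C.p_z, Perm.one_apply]

namespace NInv

variable {C} (T : NInv C) (hn : 9 ≤ n ∧ n ≤ 10)
include hn

theorem fixed_card : T.τ.supportᶜ.card = n - 8 := by
  have h6 := T.six_le
  obtain ⟨k, ⟨j, rfl⟩, hk⟩ := T.even_support
  have := Finset.card_le_univ T.τ.support
  rw [Fintype.card_fin] at this
  rw [Finset.card_compl, Fintype.card_fin]
  omega

theorem fixed_eq (hT : T.t ∈ Low C) : T.τ.supportᶜ = high n := by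
  refine (Finset.eq_of_subset_of_card_le (fun i hi => ?_) ?_).symm
  · rw [Finset.mem_compl, mem_support, not_not]
    exact hT i (mem_high.1 hi)
  · rw [T.fixed_card hn, card_high hn]

theorem fixed_iff (hT : T.t ∈ Low C) (i : Fin n) : T.τ i = i ↔ 8 ≤ i.val := by
  rw [← mem_high, ← T.fixed_eq hn hT, Finset.mem_compl, mem_support, not_not]

theorem exists_conj_Low : ∃ c : H, c * T.t * c⁻¹ ∈ Low C := by
  classical
  have hc : Fintype.card {x // x ∈ T.τ.supportᶜ} = Fintype.card {x // x ∈ high n} := by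
    rw [Fintype.card_coe, Fintype.card_coe, T.fixed_card hn, card_high hn]
  obtain ⟨π, hπ⟩ : ∃ π : Perm (Fin n), ∀ x ∈ T.τ.supportᶜ, π x ∈ high n :=
    ⟨(Fintype.equivOfCardEq hc).extendSubtype, fun x hx => Equiv.extendSubtype_mem _ x hx⟩
  have himg : T.τ.supportᶜ.image π = high n := by
    refine Finset.eq_of_subset_of_card_le (fun y hy => ?_) ?_
    · obtain ⟨x, hx, rfl⟩ := Finset.mem_image.1 hy; exact hπ x hx
    · rw [Finset.card_image_of_injective _ π.injective, T.fixed_card hn, card_high hn]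
  obtain ⟨σ, hσA, hσ⟩ : ∃ σ ∈ alternatingGroup (Fin n), ∀ i, 8 ≤ i.val → T.τ (σ⁻¹ i) = σ⁻¹ i := by
    have hπi : ∀ i, 8 ≤ i.val → T.τ (π⁻¹ i) = π⁻¹ i := fun i hi => by
      obtain ⟨x, hx, rfl⟩ := Finset.mem_image.1 (himg ▸ mem_high.2 hi)
      rw [inv_apply_apply']
      rwa [Finset.mem_compl, mem_support, not_not] at hx
    rcases Int.units_eq_one_or (Perm.sign π) with h | h
    · exact ⟨π, mem_alternatingGroup.2 h, hπi⟩
    · obtain ⟨a, ha⟩ := Finset.card_pos.1 (show 0 < T.τ.support.card by have := T.six_le; omega)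
      rw [mem_support] at ha
      refine ⟨π * swap a (T.τ a), ?_, fun i hi => ?_⟩
      · rw [mem_alternatingGroup, map_mul, h, sign_swap ha.symm, Int.units_mul_self]
      · rw [mul_inv_rev, swap_inv, Perm.mul_apply,
          swap_apply_of_ne_of_ne (fun e => ha (by rw [← e]; exact hπi i hi))
            (fun e => T.τ_moved ha (by rw [← e]; exact hπi i hi))]
        exact hπi i hi
  obtain ⟨c, hc'⟩ := C.exists_lift hσA
  refine ⟨c, fun i hi => ?_⟩
  rw [map_mul, map_mul, map_inv, hc', Perm.mul_apply, Perm.mul_apply, show C.p T.t = T.τ from rfl,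
    hσ i hi, apply_inv_apply']

/-- An element carrying one fixed point set to the other. -/
theorem maps_high (hT : T.t ∈ Low C) {g : H} (hg : g * T.t * g⁻¹ ∈ Low C) {i : Fin n}
    (hi : 8 ≤ i.val) : 8 ≤ (C.p g⁻¹ i).val := by
  rw [← T.fixed_iff hn hT]
  have h := hg i hi
  rw [map_mul, map_mul, map_inv, Perm.mul_apply, Perm.mul_apply] at h
  have h2 := congrArg (⇑(C.p g)⁻¹) h
  rw [inv_apply_apply'] at h2
  rw [map_inv]
  exact h2

end NInv

theorem card_four_le (T : NInv C) : Nat.card ({g | g = 1 ∨ g = C.z ∨ g = T.t ∨ g = T.t * C.z} : Set H) ≤ 4 := by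
  classical
  have : ({g | g = 1 ∨ g = C.z ∨ g = T.t ∨ g = T.t * C.z} : Set H) =
      ↑({1, C.z, T.t, T.t * C.z} : Finset H) := by ext; simp
  rw [this, Nat.card_coe_set_eq, Set.ncard_coe_finset]
  exact Finset.card_le_four

/-- An elementary subgroup of order sixteen is conjugate into the lifts fixing the last points. -/
theorem exists_conj_elem (hn : 9 ≤ n ∧ n ≤ 10) [Finite H] {P : Subgroup H} (hP : Nat.card P = 16)
    (h2 : ∀ x ∈ P, x * x = 1) (hz : C.z ∈ P) : ∃ c : H, ∀ x ∈ P, c * x * c⁻¹ ∈ Low C := by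
  classical
  obtain ⟨t, htP, ht1, htz⟩ : ∃ t ∈ P, t ≠ 1 ∧ t ≠ C.z := by
    by_contra! hc
    have : Nat.card P ≤ 2 := by
      rw [← Nat.card_fin 2]
      refine Nat.card_le_card_of_injective (fun x : P => if (x : H) = 1 then (0 : Fin 2) else 1)
        fun a b e => Subtype.ext ?_
      by_cases ha : (a : H) = 1 <;> by_cases hb : (b : H) = 1
      · exact ha.trans hb.symm
      · simp [ha, hb] at e
      · simp [ha, hb] at e
      · exact (hc a a.2 ha).trans (hc b b.2 hb).symm
    omega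
  let T₀ : NInv C := ⟨t, h2 t htP, ht1, htz⟩
  obtain ⟨c, hc⟩ := T₀.exists_conj_Low hn
  refine ⟨c, fun x hx => ?_⟩
  let Q := P.map (MulAut.conj c).toMonoidHom
  have hQ : Nat.card Q = 16 := by rw [Subgroup.card_map_of_injective (MulAut.conj c).injective, hP]
  have hQ2 : ∀ x ∈ Q, x * x = 1 := by rintro _ ⟨x, hx, rfl⟩; rw [← map_mul, h2 x hx, map_one]
  have hQc : ∀ a ∈ Q, ∀ b ∈ Q, Commute a b := fun a ha b hb => by
    have := hQ2 _ (mul_mem ha hb)
    show a * b = b * a
    calc a * b = (a * b)⁻¹ := eq_inv_of_mul_eq_one_left this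
      _ = b⁻¹ * a⁻¹ := mul_inv_rev _ _
      _ = b * a := by rw [inv_eq_of_mul_eq_one_right (hQ2 a ha), inv_eq_of_mul_eq_one_right (hQ2 b hb)]
  have hu : c * t * c⁻¹ ∈ Q := ⟨t, htP, rfl⟩
  let T : NInv C := ⟨c * t * c⁻¹, hQ2 _ hu, fun e => ht1 (conj_eq_one_iff.1 e), fun e => htz (by
    have h := congrArg (fun y => c⁻¹ * y * c) e
    simp only [mul_assoc, inv_mul_cancel_left, inv_mul_cancel, mul_one] at h
    rw [h, ← C.z_comm c, inv_mul_cancel_left])⟩
  have hT : T.t ∈ Low C := hc
  have hTQ : T.t ∈ Q := hu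
  suffices hall : ∀ b ∈ Q, b ∈ Low C from hall _ ⟨x, hx, rfl⟩
  have hpres : ∀ b ∈ Q, ∀ i : Fin n, 8 ≤ i.val → 8 ≤ (C.p b i).val := fun b hb i hi => by
    have h : b⁻¹ * T.t * b⁻¹⁻¹ ∈ Low C := by
      rw [inv_inv, mul_assoc, (hQc _ hTQ b hb).eq, inv_mul_cancel_left]; exact hT
    have := T.maps_high hn hT h hi
    rwa [inv_inv] at this
  intro b hb i hi
  by_contra hbi
  set j := C.p b i with hj
  have hji : j ≠ i := hbi
  have hjh : 8 ≤ j.val := hpres b hb i hi
  have hcard : (high n).card ≤ 2 := by rw [card_high hn]; omega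
  have hpair : high n = {i, j} := (Finset.eq_of_subset_of_card_le
    (fun x hx => by
      simp only [Finset.mem_insert, Finset.mem_singleton] at hx
      rcases hx with rfl | rfl <;> rw [mem_high] <;> assumption)
    (by rw [Finset.card_pair hji.symm]; exact hcard)).symm
  have htwo : ∀ k : Fin n, 8 ≤ k.val → k = i ∨ k = j := fun k hk => by
    have := mem_high.2 hk
    rw [hpair] at this
    simpa using this
  have hn10 : n = 10 := by
    have := card_high hn
    rw [hpair, Finset.card_pair hji.symm] at this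
    omega
  have hbb : C.p b j = i := by
    rw [hj, ← Perm.mul_apply, ← map_mul, hQ2 b hb, map_one, Perm.one_apply]
  have hswap : ∀ a ∈ Q, a ∉ Low C → C.p a i = j ∧ C.p a j = i := by
    intro a ha hna
    have h1 := htwo _ (hpres a ha i hi)
    have h3 := htwo _ (hpres a ha j hjh)
    rcases h1 with h1 | h1
    · exfalso
      rcases h3 with h3 | h3
      · exact hji ((C.p a).injective (h3.trans h1.symm))
      · exact hna fun k hk => by
          rcases htwo k hk with rfl | rfl
          exacts [h1, h3]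
    · refine ⟨h1, h3.resolve_right fun h => hji ((C.p a).injective (h.trans h1.symm))⟩
  obtain ⟨d, hdQ, hdL, hd4⟩ : ∃ d ∈ Q, d ∈ Low C ∧ ¬ (d = 1 ∨ d = C.z ∨ d = T.t ∨ d = T.t * C.z) := by
    by_contra! hc'
    have hsub : ∀ a : Q, ∃ q : ({g | g = 1 ∨ g = C.z ∨ g = T.t ∨ g = T.t * C.z} : Set H) × Fin 2,
        (a : H) = b ^ (q.2 : ℕ) * q.1 := by
      intro a
      by_cases ha : (a : H) ∈ Low C
      · exact ⟨(⟨a, hc' a a.2 ha⟩, 0), by simp⟩
      · have hba : b * a ∈ Low C := fun k hk => by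
          obtain ⟨e1, e2⟩ := hswap a a.2 ha
          rw [map_mul, Perm.mul_apply]
          rcases htwo k hk with rfl | rfl
          · rw [e1, hbb]
          · rw [e2]
        exact ⟨(⟨b * a, hc' _ (mul_mem hb a.2) hba⟩, 1), by
          show (a : H) = b ^ 1 * (b * a)
          rw [pow_one, ← mul_assoc, hQ2 b hb, one_mul]⟩
    choose q hq using hsub
    have := Nat.card_le_card_of_injective q fun a a' e => Subtype.ext (by rw [hq a, hq a', e])
    rw [Nat.card_prod, Nat.card_fin, hQ] at this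
    have := card_four_le C T
    omega
  simp only [not_or] at hd4
  let D : NInv C := ⟨d, hQ2 d hdQ, hd4.1, hd4.2.1⟩
  let E : NInv C := ⟨T.t * d, hQ2 _ (mul_mem hTQ hdQ), fun e => hd4.2.2.1 (by
      rw [eq_inv_of_mul_eq_one_right e, inv_eq_of_mul_eq_one_right T.sq]),
    fun e => hd4.2.2.2 (by rw [← e, ← mul_assoc, T.sq, one_mul])⟩
  have hEL : E.t ∈ Low C := mul_mem hT hdL
  let B : NInv C := ⟨b, hQ2 b hb, fun e => hji (by rw [hj, e, map_one, Perm.one_apply]),
    fun e => hji (by rw [hj, e, C.p_z, Perm.one_apply])⟩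
  have hB := B.fixed_card hn
  obtain ⟨x, hx⟩ := Finset.card_pos.1 (show 0 < B.τ.supportᶜ.card by omega)
  have hx' : C.p b x = x := by rwa [Finset.mem_compl, mem_support, not_not] at hx
  have hxlow : ¬ 8 ≤ x.val := fun h => by
    rcases htwo x h with rfl | rfl
    · exact hji hx'
    · exact hji (hx'.symm.trans hbb)
  have hmem : ∀ a ∈ Q, C.p a x ∈ B.τ.supportᶜ := fun a ha => by
    rw [Finset.mem_compl, mem_support, not_not]
    show C.p b (C.p a x) = C.p a x
    rw [← Perm.mul_apply, ← map_mul, (hQc b hb a ha).eq, map_mul, Perm.mul_apply, hx']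
  have n1 : T.τ x ≠ x := fun h => hxlow ((T.fixed_iff hn hT x).1 h)
  have n2 : D.τ x ≠ x := fun h => hxlow ((D.fixed_iff hn hdL x).1 h)
  have n3 : T.τ x ≠ D.τ x := fun h => hxlow ((E.fixed_iff hn hEL x).1 (by
    show C.p (T.t * d) x = x
    rw [map_mul, Perm.mul_apply, show C.p d x = D.τ x from rfl, ← h]
    exact T.τ_τ x))
  have hsub : ({x, T.τ x, D.τ x} : Finset (Fin n)) ⊆ B.τ.supportᶜ := by
    intro y hy
    simp only [Finset.mem_insert, Finset.mem_singleton] at hy
    rcases hy with rfl | rfl | rfl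
    exacts [hx, hmem _ hTQ, hmem _ hdQ]
  have := Finset.card_le_card hsub
  rw [Finset.card_eq_three.2 ⟨x, T.τ x, D.τ x, n1.symm, n2.symm, n3, rfl⟩, hB] at this
  omega

/-- An even permutation normalising a regular elementary group on the low points fixes the others. -/
theorem fixes_high (hn : 9 ≤ n ∧ n ≤ 10) (e : Fin 8 → Perm (Fin n)) (hsign : ∀ i, e i ∈ alternatingGroup (Fin n))
    (hmul : ∀ i j, e i * e j = e (i ^^^ j)) (hfix : ∀ i, ∀ k : Fin n, 8 ≤ k.val → e i k = k)
    (hfree : ∀ i, ∀ k : Fin n, k.val < 8 → e i k = k → i = 0) {σ : Perm (Fin n)}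
    (hσ : σ ∈ alternatingGroup (Fin n)) (hhigh : ∀ k : Fin n, 8 ≤ k.val → 8 ≤ (σ k).val)
    (hnorm : ∀ i, ∃ j, σ * e i * σ⁻¹ = e j) : ∀ k : Fin n, 8 ≤ k.val → σ k = k := by
  classical
  have hxx : ∀ i : Fin 8, i ^^^ i = 0 := by decide
  have hx0 : ∀ i j : Fin 8, i ^^^ j = 0 → i = j := by decide
  have he0 : e 0 = 1 := by
    have := hmul 0 0
    rw [hxx] at this
    exact mul_eq_left.1 this
  have hinv : ∀ i, (e i)⁻¹ = e i := fun i => inv_eq_of_mul_eq_one_right (by rw [hmul, hxx, he0])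
  have hlow : ∀ i, ∀ k : Fin n, k.val < 8 → (e i k).val < 8 := fun i k hk => by
    by_contra h
    rw [not_lt] at h
    have h1 := hfix i _ h
    rw [← Perm.mul_apply, hmul, hxx, he0, Perm.one_apply] at h1
    rw [← h1] at h
    omega
  have hσlow : ∀ k : Fin n, k.val < 8 → (σ k).val < 8 := fun k hk => by
    by_contra h
    rw [not_lt] at h
    have hsur : (high n).image σ = high n := Finset.eq_of_subset_of_card_le
      (fun y hy => by
        obtain ⟨x, hx, rfl⟩ := Finset.mem_image.1 hy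
        exact mem_high.2 (hhigh x (mem_high.1 hx)))
      (by rw [Finset.card_image_of_injective _ σ.injective])
    obtain ⟨x, hx, hxk⟩ := Finset.mem_image.1 (hsur.symm.subset (mem_high.2 h))
    rw [σ.injective hxk, mem_high] at hx
    omega
  let p₀ : Fin n := ⟨0, by omega⟩
  let β : Fin 8 → {k : Fin n // k.val < 8} := fun i => ⟨e i p₀, hlow i p₀ (by show 0 < 8; omega)⟩
  have hβ : Function.Bijective β := by
    refine (Fintype.bijective_iff_injective_and_card β).2 ⟨fun i j h => hx0 i j ?_, ?_⟩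
    · have h' : e i p₀ = e j p₀ := congrArg Subtype.val h
      refine hfree _ p₀ (by show 0 < 8; omega) ?_
      rw [← hmul, Perm.mul_apply, ← h', ← Perm.mul_apply, hmul, hxx, he0, Perm.one_apply]
    · rw [Fintype.card_fin, Fintype.card_congr
        (⟨fun k => ⟨k.1.val, k.2⟩, fun k => ⟨⟨k.val, by omega⟩, k.2⟩, fun _ => rfl, fun _ => rfl⟩ :
          {k : Fin n // k.val < 8} ≃ Fin 8), Fintype.card_fin]
  let B := Equiv.ofBijective β hβ
  obtain ⟨j₀, hj₀⟩ := hβ.2 ⟨σ p₀, hσlow p₀ (by show 0 < 8; omega)⟩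
  set ρ := e j₀ * σ with hρ
  clear_value ρ
  have hρfix : ρ p₀ = p₀ := by
    rw [hρ, Perm.mul_apply, ← show e j₀ p₀ = σ p₀ from congrArg Subtype.val hj₀, ← Perm.mul_apply, hmul,
      hxx, he0, Perm.one_apply]
  have hcomm : ∀ i j, e i * e j = e j * e i := fun i j => by
    rw [hmul, hmul]; congr 1; exact (by decide : ∀ a b : Fin 8, a ^^^ b = b ^^^ a) i j
  choose φ hφ using hnorm
  have hρn : ∀ i, ρ * e i * ρ⁻¹ = e (φ i) := fun i => by
    rw [hρ, show e j₀ * σ * e i * (e j₀ * σ)⁻¹ = e j₀ * (σ * e i * σ⁻¹) * (e j₀)⁻¹ by group, hφ, hcomm,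
      mul_inv_cancel_right]
  have hρβ : ∀ i, ρ (e i p₀) = e (φ i) p₀ := fun i => by
    rw [← hρn, Perm.mul_apply, Perm.mul_apply]
    have h0 := NInv.inv_apply_apply' ρ p₀
    rw [hρfix] at h0
    rw [h0]
  have einj : ∀ i j, e i = e j → i = j := fun i j h =>
    hβ.1 (Subtype.ext (by show e i p₀ = e j p₀; rw [h]))
  have hφinj : Function.Injective φ := fun i j h => einj i j (by
    have := (hρn i).trans ((congrArg e h).trans (hρn j).symm)
    exact mul_left_cancel (mul_right_cancel this))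
  let Φ : Perm (Fin 8) := Equiv.ofBijective φ (Finite.injective_iff_bijective.1 hφinj)
  have hadd : ∀ i j, Φ (i ^^^ j) = Φ i ^^^ Φ j := fun i j => einj _ _ (by
    show e (φ (i ^^^ j)) = e (φ i ^^^ φ j)
    rw [← hmul, ← hρn, ← hρn, ← hρn, ← hmul]; group)
  have hsΦ := sign_linear Φ hadd
  by_contra! hmov
  obtain ⟨a, ha, hna⟩ := hmov
  have hb := hhigh a ha
  have hpair : high n = {a, σ a} := (Finset.eq_of_subset_of_card_le
    (fun x hx => by
      simp only [Finset.mem_insert, Finset.mem_singleton] at hx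
      rcases hx with rfl | rfl <;> rw [mem_high] <;> assumption)
    (by rw [Finset.card_pair (Ne.symm hna), card_high hn]; omega)).symm
  have htwo : ∀ k : Fin n, 8 ≤ k.val → k = a ∨ k = σ a := fun k hk => by
    have := mem_high.2 hk
    rw [hpair] at this
    simpa using this
  have hσσ : σ (σ a) = a := (htwo _ (hhigh _ hb)).resolve_right fun h => hna (σ.injective h)
  set ψ := ρ * swap a (σ a) with hψ
  clear_value ψ
  have hψhigh : ∀ k : Fin n, 8 ≤ k.val → ψ k = k := fun k hk => by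
    rw [hψ, hρ, Perm.mul_apply, Perm.mul_apply]
    rcases htwo k hk with rfl | rfl
    · rw [swap_apply_left, hσσ, hfix _ _ ha]
    · rw [swap_apply_right, hfix _ _ hb]
  have hψlow : ∀ k : Fin n, k.val < 8 → ψ k = ρ k := fun k hk => by
    rw [hψ, Perm.mul_apply, swap_apply_of_ne_of_ne (fun h => by rw [h] at hk; omega)
      (fun h => by rw [h] at hk; omega)]
  have hq : ∀ k : Fin n, (ψ k).val < 8 ↔ k.val < 8 := fun k => by
    by_cases hk : k.val < 8
    · rw [hψlow k hk, hρ, Perm.mul_apply]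
      exact ⟨fun _ => hk, fun _ => hlow _ _ (hσlow k hk)⟩
    · rw [hψhigh k (by omega)]
  have hsub : ψ.subtypePerm (p := fun k : Fin n => k.val < 8) hq = B.permCongr Φ := by
    refine Equiv.ext fun k => ?_
    obtain ⟨i, rfl⟩ := B.surjective k
    rw [Equiv.permCongr_apply, B.symm_apply_apply]
    refine Subtype.ext ?_
    show ψ (e i p₀) = e (φ i) p₀
    rw [hψlow _ (hlow i p₀ (by show 0 < 8; omega)), hρβ]
  have h1 : Perm.sign ψ = 1 := by
    rw [← sign_subtypePerm ψ hq (fun k hk => lt_of_not_ge fun h => hk (hψhigh k h)), hsub,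
      sign_permCongr, hsΦ]
  rw [hψ, hρ, map_mul, map_mul, mem_alternatingGroup.1 (hsign j₀), mem_alternatingGroup.1 hσ,
    sign_swap (Ne.symm hna), one_mul, one_mul] at h1
  exact absurd h1 (by decide)

end Cfsg.Agent.CoverDegree
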