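import Cfsg.Agent.CoverDegree.Large
import Cfsg.Agent.Invol.ZStar
import Cfsg.Agent.Invol.Isolated

/-!
The degree of an involution centraliser which is a double cover of an alternating group: the degrees
below eight and from twelve on.
-/

set_option autoImplicit false
set_option linter.unusedSectionVars false

namespace Cfsg.Agent.CoverDegree

open Equiv Equiv.Perm

universe u

variable {G : Type u} [Group G] [Finite G]

/-- The centraliser. -/
abbrev HC (z : G) : Subgroup G := Subgroup.centralizer ({z} : Set G)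

/-- The involution is not isolated. -/
theorem exists_conj [IsSimpleGroup G] {n : ℕ} (hn : 5 ≤ n) {z : G} (hz : orderOf z = 2)
    (hcov : Cfsg.IsNonsplitDoubleCover (HC z) (alternatingGroup (Fin n))) :
    ∃ g : G, Commute z (g * z * g⁻¹) ∧ g * z * g⁻¹ ≠ z := by
  by_contra hc
  push Not at hc
  have hzs := fun g => Invol.zstar (show Cfsg.IsIsolatedInvolution z from ⟨hz, hc⟩) g
  rcases (Subgroup.Normal.eq_bot_or_eq_top (inferInstance : (Cfsg.pPrimeCore 2 G).Normal)) with h | h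
  · have hcomm : ∀ g : G, g * z = z * g := fun g => by
      have h1 := hzs g
      rw [show Cfsg.oddCore G = ⊥ from h, Subgroup.mem_bot, mul_inv_eq_one, mul_inv_eq_iff_eq_mul] at h1
      exact h1.symm
    rcases (Subgroup.Normal.eq_bot_or_eq_top
      (inferInstance : (Subgroup.center G).Normal)) with hb | ht
    · have h1 : z ∈ Subgroup.center G := Subgroup.mem_center_iff.2 hcomm
      rw [hb, Subgroup.mem_bot] at h1
      rw [h1, orderOf_one] at hz
      omega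
    · obtain ⟨hc2, ⟨e⟩, -⟩ := hcov
      have htop : Subgroup.center (HC z) = ⊤ := eq_top_iff.2 fun a _ =>
        Subgroup.mem_center_iff.2 fun b => Subtype.ext
          (Subgroup.mem_center_iff.1 (ht ▸ Subgroup.mem_top (a : G)) (b : G))
      have h1 : Nat.card (alternatingGroup (Fin n)) = 1 := by
        rw [← Nat.card_congr e.toEquiv, htop]
        exact Nat.card_eq_one_iff_unique.2
          ⟨QuotientGroup.subsingleton_quotient_top, ⟨1⟩⟩
      have : Nontrivial (Fin n) := Fin.nontrivial_iff_two_le.2 (by omega)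
      have h2 := two_mul_nat_card_alternatingGroup (α := Fin n)
      rw [h1, Nat.card_perm, Nat.card_fin] at h2
      have : 5 ≤ n.factorial := le_trans hn n.self_le_factorial
      omega
  · have hodd : (Nat.card (Cfsg.oddCore G)).Coprime 2 := Core.coprime_card_pPrimeCore (p := 2)
    rw [show Cfsg.oddCore G = ⊤ from h, Subgroup.card_top] at hodd
    have h2 : 2 ∣ Nat.card G := hz ▸ orderOf_dvd_natCard z
    rw [Nat.coprime_two_right] at hodd
    exact Nat.not_even_iff_odd.2 hodd (even_iff_two_dvd.2 h2)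

/-- The context. -/
structure Ctx (G : Type u) [Group G] (n : ℕ) where
  z : G
  order : orderOf z = 2
  C : Cov (HC z) n
  z_eq : (C.z : G) = z

theorem exists_ctx {n : ℕ} (hn : 5 ≤ n) {z : G} (hz : orderOf z = 2)
    (hcov : Cfsg.IsNonsplitDoubleCover (HC z) (alternatingGroup (Fin n))) :
    ∃ X : Ctx G n, X.z = z := by
  obtain ⟨C, hC⟩ := exists_cov hn hcov
  refine ⟨⟨z, hz, C, ?_⟩, rfl⟩
  have hzH : z ∈ HC z := Subgroup.mem_centralizer_singleton_iff.2 rfl
  rcases hC ⟨z, hzH⟩ (Subgroup.mem_center_iff.2 fun a => Subtype.ext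
    (Subgroup.mem_centralizer_singleton_iff.1 a.2)) with h | h
  · have h1 : z = 1 := congrArg Subtype.val h
    rw [h1, orderOf_one] at hz
    omega
  · exact (congrArg Subtype.val h).symm

variable {n : ℕ} (X : Ctx G n)

theorem Ctx.z_sq : X.z * X.z = 1 := by
  have := pow_orderOf_eq_one X.z
  rwa [X.order, pow_two] at this

theorem Ctx.z_ne : X.z ≠ 1 := fun h => by
  have := X.order
  rw [h, orderOf_one] at this
  omega

theorem Ctx.mem_HC {g : G} (h : Commute X.z g) : g ∈ HC X.z :=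
  Subgroup.mem_centralizer_singleton_iff.2 h.eq.symm

/-- A conjugate of the involution inside the centraliser. -/
noncomputable def Ctx.ninv {g : G} (h : Commute X.z (g * X.z * g⁻¹)) (hne : g * X.z * g⁻¹ ≠ X.z) :
    NInv X.C where
  t := ⟨g * X.z * g⁻¹, X.mem_HC h⟩
  sq := Subtype.ext (by
    show g * X.z * g⁻¹ * (g * X.z * g⁻¹) = 1
    rw [show g * X.z * g⁻¹ * (g * X.z * g⁻¹) = g * (X.z * X.z) * g⁻¹ by group, X.z_sq]
    group)
  ne_one := fun e => X.z_ne (conj_eq_one_iff.1 (congrArg Subtype.val e))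
  ne_z := fun e => hne ((congrArg Subtype.val e).trans X.z_eq)

theorem Ctx.lt_eight (hn : n ≤ 7) {g : G} (h : Commute X.z (g * X.z * g⁻¹))
    (hne : g * X.z * g⁻¹ ≠ X.z) : False := by
  have T := X.ninv h hne
  have h6 := T.six_le
  obtain ⟨k, ⟨j, rfl⟩, hk⟩ := T.even_support
  have := Finset.card_le_univ T.τ.support
  rw [Fintype.card_fin] at this
  omega

/-- From degree twelve on the two involutions are told apart. -/
theorem Ctx.large (hn : 12 ≤ n) {g : G} (h : Commute X.z (g * X.z * g⁻¹))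
    (hne : g * X.z * g⁻¹ ≠ X.z) : False := by
  have h' : Commute X.z (g⁻¹ * X.z * g⁻¹⁻¹) := by
    rw [inv_inv, ← Commute.conj_iff g, show g * (g⁻¹ * X.z * g) * g⁻¹ = X.z by group]
    exact h.symm
  have hne' : g⁻¹ * X.z * g⁻¹⁻¹ ≠ X.z := fun e => hne (by
    conv_lhs => rw [← e]
    group)
  set T := X.ninv h hne
  set T' := X.ninv h' hne'
  have hiff : ∀ w : HC X.z, w ∈ T.W ↔ Commute (w : G) (g * X.z * g⁻¹) := fun w =>
    T.mem_W.trans ⟨fun e => congrArg Subtype.val e, fun e => Subtype.ext e⟩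
  have hiff' : ∀ w : HC X.z, w ∈ T'.W ↔ Commute (w : G) (g⁻¹ * X.z * g⁻¹⁻¹) := fun w =>
    T'.mem_W.trans ⟨fun e => congrArg Subtype.val e, fun e => Subtype.ext e⟩
  -- conjugation by `g⁻¹` carries `W` to `W'`
  have hmapH : ∀ w : HC X.z, w ∈ T.W → g⁻¹ * (w : G) * g ∈ HC X.z := fun w hw => by
    refine X.mem_HC ?_
    rw [← Commute.conj_iff g, show g * (g⁻¹ * (w : G) * g) * g⁻¹ = (w : G) by group]
    exact ((hiff w).1 hw).symm
  have hmapH' : ∀ w : HC X.z, w ∈ T'.W → g * (w : G) * g⁻¹ ∈ HC X.z := fun w hw => by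
    refine X.mem_HC ?_
    have h1 := (Commute.conj_iff g).2 ((hiff' w).1 hw)
    rw [show g * (g⁻¹ * X.z * g⁻¹⁻¹) * g⁻¹ = X.z by group] at h1
    exact h1.symm
  let φ : T.W →* HC X.z :=
    { toFun := fun w => ⟨g⁻¹ * ((w : HC X.z) : G) * g, hmapH w w.2⟩
      map_one' := Subtype.ext (by simp)
      map_mul' := fun a b => Subtype.ext (by simp [mul_assoc]) }
  have hφinj : Function.Injective φ := fun a b e => Subtype.ext (Subtype.ext
    (mul_left_cancel (mul_right_cancel (congrArg Subtype.val e))))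
  have hφW : ∀ w, φ w ∈ T'.W := fun w => (hiff' _).2 (by
    show Commute (g⁻¹ * ((w : HC X.z) : G) * g) (g⁻¹ * X.z * g⁻¹⁻¹)
    rw [← Commute.conj_iff g, show g * (g⁻¹ * ((w : HC X.z) : G) * g) * g⁻¹ = (w : G) by group,
      show g * (g⁻¹ * X.z * g⁻¹⁻¹) * g⁻¹ = X.z by group]
    exact Subgroup.mem_centralizer_singleton_iff.1 (w : HC X.z).2)
  have hφsur : ∀ w' ∈ T'.W, ∃ w, φ w = w' := fun w' hw' => by
    refine ⟨⟨⟨g * (w' : G) * g⁻¹, hmapH' w' hw'⟩, (hiff _).2 ?_⟩, Subtype.ext ?_⟩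
    · show Commute (g * (w' : G) * g⁻¹) (g * X.z * g⁻¹)
      rw [Commute.conj_iff]
      exact Subgroup.mem_centralizer_singleton_iff.1 w'.2
    · show g⁻¹ * (g * (w' : G) * g⁻¹) * g = (w' : G)
      group
  have hzW : X.C.z ∈ T.W := T.mem_W.2 (X.C.commute_z _)
  have hzW' : X.C.z ∈ T'.W := T'.mem_W.2 (X.C.commute_z _)
  have htW : T.t ∈ T.W := T.mem_W.2 (Commute.refl _)
  have hφt : φ ⟨T.t, htW⟩ = X.C.z := Subtype.ext (by
    show g⁻¹ * (g * X.z * g⁻¹) * g = (X.C.z : G)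
    rw [X.z_eq]; group)
  have hφz : φ ⟨X.C.z, hzW⟩ = T'.t := Subtype.ext (by
    show g⁻¹ * (X.C.z : G) * g = g⁻¹ * X.z * g⁻¹⁻¹
    rw [X.z_eq, inv_inv])
  -- transporting normal subgroups
  let push : Subgroup (HC X.z) → Subgroup (HC X.z) := fun M => (M.subgroupOf T.W).map φ
  let pull : Subgroup (HC X.z) → Subgroup (HC X.z) := fun M => (M.comap φ).map T.W.subtype
  have push_le : ∀ M, push M ≤ T'.W := by rintro M _ ⟨w, -, rfl⟩; exact hφW w
  have pull_le : ∀ M, pull M ≤ T.W := fun M => Subgroup.map_subtype_le _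
  have push_n : ∀ M : Subgroup (HC X.z), (∀ w ∈ T.W, ∀ a ∈ M, w * a * w⁻¹ ∈ M) →
      ∀ w ∈ T'.W, ∀ a ∈ push M, w * a * w⁻¹ ∈ push M := by
    rintro M hM w hw _ ⟨a, ha, rfl⟩
    obtain ⟨v, rfl⟩ := hφsur w hw
    exact ⟨v * a * v⁻¹, hM v v.2 a ha, by rw [map_mul, map_mul, map_inv]⟩
  have pull_n : ∀ M : Subgroup (HC X.z), (∀ w ∈ T'.W, ∀ a ∈ M, w * a * w⁻¹ ∈ M) →
      ∀ w ∈ T.W, ∀ a ∈ pull M, w * a * w⁻¹ ∈ pull M := by
    rintro M hM w hw _ ⟨a, ha, rfl⟩
    refine ⟨⟨w, hw⟩ * a * ⟨w, hw⟩⁻¹, ?_, rfl⟩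
    show φ _ ∈ M
    rw [map_mul, map_mul, map_inv]
    exact hM _ (hφW _) _ ha
  have hfin : ∀ (T : NInv X.C), T.τ.support.card + T.τ.supportᶜ.card = n := fun T => by
    rw [Finset.card_add_card_compl, Fintype.card_fin]
  by_cases hA : 3 ≤ T.τ.supportᶜ.card ∧ T'.τ.supportᶜ.card ≠ 3
  · obtain ⟨r, hr, hr3, hr1⟩ := T.exists_three_in_R hA.1
    have := T'.z_mem_of_three hA.2 (push_le T.R) (push_n _ fun w hw a ha => T.R_normal hw ha)
      (r := φ ⟨r, hr.1⟩) ⟨⟨r, hr.1⟩, hr, rfl⟩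
      (by rw [← map_pow, show (⟨r, hr.1⟩ : T.W) ^ 3 = 1 from Subtype.ext hr3, map_one])
      (fun e => hr1 (congrArg Subtype.val (hφinj (e.trans (map_one φ).symm))))
    obtain ⟨v, hv, hve⟩ := this
    rw [← hφt] at hve
    rw [hφinj hve] at hv
    exact T.t_not_mem_R hv
  by_cases hB : 3 ≤ T'.τ.supportᶜ.card ∧ T.τ.supportᶜ.card ≠ 3
  · obtain ⟨r, hr, hr3, hr1⟩ := T'.exists_three_in_R hB.1
    obtain ⟨v, hv⟩ := hφsur r hr.1
    have := T.z_mem_of_three hB.2 (pull_le T'.R) (pull_n _ fun w hw a ha => T'.R_normal hw ha)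
      (r := (v : HC X.z)) ⟨v, show φ v ∈ T'.R by rw [hv]; exact hr, rfl⟩
      (congrArg Subtype.val (show v ^ 3 = 1 from hφinj (by rw [map_pow, hv, hr3, map_one])))
      (fun e => hr1 (by rw [← hv, show v = 1 from Subtype.ext e, map_one]))
    obtain ⟨w, hw, hwe⟩ := this
    have hw' : φ w ∈ T'.R := hw
    rw [show w = ⟨X.C.z, hzW⟩ from Subtype.ext hwe, hφz] at hw'
    exact T'.t_not_mem_R hw'
  have h1 := hfin T
  have h2 := hfin T'
  obtain ⟨k, -, hk⟩ := T'.even_support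
  have h10 : 10 ≤ T'.τ.support.card := by omega
  obtain ⟨x, hx, y, hy, hxy⟩ := T.exists_comm_z
  have hp : IsPGroup 2 (push T.K) := by
    refine IsPGroup.map ?_ φ
    exact T.K_pGroup.comap_of_injective T.W.subtype T.W.subtype_injective
  have hcm := T'.comm_cases h10 (by omega) (push_le T.K)
    (push_n _ fun w hw a ha => T.K_normal hw ha) hp
    (x := φ ⟨x, hx.1⟩) (y := φ ⟨y, hy.1⟩) ⟨⟨x, hx.1⟩, hx, rfl⟩ ⟨⟨y, hy.1⟩, hy, rfl⟩
  have he : φ ⟨x, hx.1⟩ * φ ⟨y, hy.1⟩ * (φ ⟨x, hx.1⟩)⁻¹ * (φ ⟨y, hy.1⟩)⁻¹ = T'.t := by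
    rw [← map_inv, ← map_inv, ← map_mul, ← map_mul, ← map_mul, ← hφz]
    exact congrArg φ (Subtype.ext hxy)
  rw [he] at hcm
  exact hcm.elim T'.ne_one T'.ne_z

end Cfsg.Agent.CoverDegree
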