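import Cfsg.Agent.CoverDegree.Basic

/-!
The centraliser of a noncentral involution in a double cover of an alternating group tells the two
involutions apart by its normal subgroups.
-/

set_option autoImplicit false
set_option linter.unusedSectionVars false
set_option linter.unusedSimpArgs false

namespace Cfsg.Agent.CoverDegree

open Equiv Equiv.Perm Cfsg.Agent.AltMult

variable {H : Type*} [Group H] {n : ℕ}

/-- A noncentral involution of the cover. -/
structure NInv (C : Cov H n) where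
  t : H
  sq : t * t = 1
  ne_one : t ≠ 1
  ne_z : t ≠ C.z

namespace NInv

variable {C : Cov H n} (T : NInv C)

/-- Its centraliser. -/
def W : Subgroup H := Subgroup.centralizer ({T.t} : Set H)

/-- Its permutation. -/
def τ : Perm (Fin n) := C.p T.t

theorem mem_W {g : H} : g ∈ T.W ↔ Commute g T.t :=
  Subgroup.mem_centralizer_singleton_iff

theorem τ_mul : T.τ * T.τ = 1 := by rw [τ, ← map_mul, T.sq, map_one]

theorem τ_τ (a : Fin n) : T.τ (T.τ a) = a := by rw [← Perm.mul_apply, T.τ_mul, Perm.one_apply]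

theorem τ_ne : T.τ ≠ 1 := fun h => (C.p_eq_one h).elim T.ne_one T.ne_z

theorem τ_moved {a : Fin n} (ha : T.τ a ≠ a) : T.τ (T.τ a) ≠ T.τ a := by
  rw [T.τ_τ]; exact ha.symm

theorem W_comm {w : H} (hw : w ∈ T.W) (a : Fin n) : C.p w (T.τ a) = T.τ (C.p w a) := by
  rw [τ, ← Perm.mul_apply, ← Perm.mul_apply, ← map_mul, ← map_mul, (T.mem_W.1 hw).eq]

theorem W_moved {w : H} (hw : w ∈ T.W) {a : Fin n} (ha : T.τ a ≠ a) :
    T.τ (C.p w a) ≠ C.p w a := by
  rw [← T.W_comm hw]; exact fun h => ha ((C.p w).injective h)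

theorem W_fixed {w : H} (hw : w ∈ T.W) {a : Fin n} (ha : T.τ a = a) :
    T.τ (C.p w a) = C.p w a := by rw [← T.W_comm hw, ha]

theorem inv_apply_apply' (f : Perm (Fin n)) (a : Fin n) : f⁻¹ (f a) = a := f.symm_apply_apply a

theorem apply_inv_apply' (f : Perm (Fin n)) (a : Fin n) : f (f⁻¹ a) = a := f.apply_symm_apply a

theorem mem_W_odd {g : H} (hc : Commute T.τ (C.p g)) {k : ℕ} (hk : Odd k) (hg : C.p g ^ k = 1) :
    g ∈ T.W :=
  T.mem_W.2 (C.commute_of_odd hc hk hg).symm

theorem split_disjoint {a b : Fin n} (ha : T.τ a ≠ a) (hb : T.τ b ≠ b) (hab : a ≠ b)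
    (hab' : T.τ a ≠ b) :
    Disjoint (swap a (T.τ a) * swap b (T.τ b)) (swap a (T.τ a) * swap b (T.τ b) * T.τ) := by
  have h1 : a ≠ T.τ b := fun e => hab' (by rw [e, T.τ_τ])
  have h2 : T.τ a ≠ T.τ b := fun e => hab (T.τ.injective e)
  intro x
  simp only [Perm.mul_apply]
  by_cases x1 : x = a
  · subst x1
    right
    rw [swap_apply_of_ne_of_ne hab' h2, swap_apply_right]
  by_cases x2 : x = T.τ a
  · subst x2
    right
    rw [T.τ_τ, swap_apply_of_ne_of_ne hab h1, swap_apply_left]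
  by_cases x3 : x = b
  · subst x3
    right
    rw [swap_apply_right, swap_apply_of_ne_of_ne hab.symm hab'.symm]
  by_cases x4 : x = T.τ b
  · subst x4
    right
    rw [T.τ_τ, swap_apply_left, swap_apply_of_ne_of_ne h1.symm h2.symm]
  left
  rw [swap_apply_of_ne_of_ne x3 x4, swap_apply_of_ne_of_ne x1 x2]

theorem double_sq {a b : Fin n} (ha : T.τ a ≠ a) (hb : T.τ b ≠ b) (hab : a ≠ b)
    (hab' : T.τ a ≠ b) {X : H} (hX : C.p X = swap a (T.τ a) * swap b (T.τ b)) : X * X = C.z :=
  C.dbl X a (T.τ a) b (T.τ b) ha.symm hab (fun e => hab' (by rw [e, T.τ_τ])) hab'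
    (fun e => hab (T.τ.injective e)) hb.symm hX

theorem double_mem_W {a b : Fin n} (ha : T.τ a ≠ a) (hb : T.τ b ≠ b) (hab : a ≠ b)
    (hab' : T.τ a ≠ b) {X : H} (hX : C.p X = swap a (T.τ a) * swap b (T.τ b)) : X ∈ T.W := by
  set x := swap a (T.τ a) * swap b (T.τ b) with hx
  obtain ⟨R, hR⟩ := C.exists_lift (s := x * T.τ) (mul_mem (hX ▸ C.p_mem X) (C.p_mem T.t))
  have hc : Commute X R := C.commute_of_disjoint (by rw [hX, hR]; exact T.split_disjoint ha hb hab hab')
  have hxx : x * x = 1 := by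
    rw [← hX, ← map_mul, T.double_sq ha hb hab hab' hX, C.p_z]
  have he : C.p T.t = C.p (X * R) := by
    rw [map_mul, hX, hR, ← mul_assoc, hxx, one_mul]; rfl
  refine T.mem_W.2 ?_
  rcases C.p_eq he with h | h <;> rw [h]
  · exact (Commute.refl X).mul_right hc
  · exact ((Commute.refl X).mul_right hc).mul_right (C.commute_z X).symm

theorem exists_double {a b : Fin n} (ha : T.τ a ≠ a) (hb : T.τ b ≠ b) (hab : a ≠ b)
    (hab' : T.τ a ≠ b) :
    ∃ X ∈ T.W, C.p X = swap a (T.τ a) * swap b (T.τ b) ∧ X * X = C.z := by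
  obtain ⟨X, hX⟩ := C.exists_lift (sign_double ha.symm hb.symm)
  exact ⟨X, T.double_mem_W ha hb hab hab' hX, hX, T.double_sq ha hb hab hab' hX⟩

theorem even_support : ∃ k, Even k ∧ T.τ.support.card = 2 * k := by
  have hall : ∀ x ∈ T.τ.cycleType, x = 2 := by
    intro x hx
    have h1 : x ∣ 2 := (dvd_of_mem_cycleType hx).trans
      (orderOf_dvd_of_pow_eq_one (by rw [pow_two, T.τ_mul]))
    have h2 := two_le_of_mem_cycleType hx
    have h3 := Nat.le_of_dvd two_pos h1
    omega
  have hrep := Multiset.eq_replicate_card.2 hall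
  refine ⟨T.τ.cycleType.card, ?_, ?_⟩
  · have h := mem_alternatingGroup.1 (C.p_mem T.t)
    rw [show C.p T.t = T.τ from rfl, sign_of_cycleType, hrep] at h
    simp only [Multiset.sum_replicate, Multiset.card_replicate, smul_eq_mul] at h
    have h' : ((-1 : ℤˣ)) ^ T.τ.cycleType.card = 1 := by
      rwa [pow_add, pow_mul', show ((-1 : ℤˣ)) ^ 2 = 1 from rfl, one_pow, one_mul] at h
    exact (neg_one_pow_eq_one_iff_even (by decide)).1 h'
  · rw [← sum_cycleType, hrep]
    simp [mul_comm]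

theorem six_le : 6 ≤ T.τ.support.card := by
  obtain ⟨k, ⟨j, rfl⟩, hk⟩ := T.even_support
  have h0 : T.τ.support.card ≠ 0 := by simp [T.τ_ne]
  by_contra hlt
  obtain ⟨a, ha⟩ := Finset.card_ne_zero.1 h0
  rw [mem_support] at ha
  obtain ⟨b, hb, hb2⟩ : ∃ b ∈ T.τ.support, b ∉ ({a, T.τ a} : Finset (Fin n)) :=
    Finset.exists_mem_notMem_of_card_lt_card (Finset.card_le_two.trans_lt (by omega))
  simp only [Finset.mem_insert, Finset.mem_singleton, not_or] at hb2
  rw [mem_support] at hb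
  have hab : a ≠ b := fun e => hb2.1 e.symm
  have hab' : T.τ a ≠ b := fun e => hb2.2 e.symm
  have hs : ({a, T.τ a, b, T.τ b} : Finset (Fin n)) = T.τ.support := by
    refine Finset.eq_of_subset_of_card_le (fun x hx => ?_) ?_
    · simp only [Finset.mem_insert, Finset.mem_singleton] at hx
      rcases hx with rfl | rfl | rfl | rfl <;> rw [mem_support]
      exacts [ha, T.τ_moved ha, hb, T.τ_moved hb]
    · rw [Finset.card_insert_of_notMem (by
          simp only [Finset.mem_insert, Finset.mem_singleton, not_or]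
          exact ⟨ha.symm, hab, fun e => hab' (by rw [e, T.τ_τ])⟩),
        Finset.card_insert_of_notMem (by
          simp only [Finset.mem_insert, Finset.mem_singleton, not_or]
          exact ⟨hab', fun e => hab (T.τ.injective e)⟩),
        Finset.card_pair hb.symm]
      omega
  have e : C.p T.t = swap a (T.τ a) * swap b (T.τ b) := by
    ext x
    have hd := T.split_disjoint ha hb hab hab' x
    by_cases hx : T.τ x = x
    · have hx' : x ∉ ({a, T.τ a, b, T.τ b} : Finset (Fin n)) := by rw [hs]; simpa using hx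
      simp only [Finset.mem_insert, Finset.mem_singleton, not_or] at hx'
      rw [Perm.mul_apply, swap_apply_of_ne_of_ne hx'.2.2.1 hx'.2.2.2,
        swap_apply_of_ne_of_ne hx'.1 hx'.2.1]
      exact congrArg Fin.val hx
    · have hx' : x ∈ ({a, T.τ a, b, T.τ b} : Finset (Fin n)) := by rw [hs]; simpa using hx
      simp only [Finset.mem_insert, Finset.mem_singleton] at hx'
      show (T.τ x : ℕ) = _
      rcases hx' with rfl | rfl | rfl | rfl
      · rw [Perm.mul_apply, swap_apply_of_ne_of_ne hab (fun e => hab' (by rw [e, T.τ_τ])), swap_apply_left]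
      · rw [Perm.mul_apply, swap_apply_of_ne_of_ne hab' (fun e => hab (T.τ.injective e)), swap_apply_right,
          T.τ_τ]
      · rw [Perm.mul_apply, swap_apply_left,
          swap_apply_of_ne_of_ne (fun e => hab' (T.τ.injective (by rw [e, T.τ_τ])))
            (fun e => hab (T.τ.injective e.symm))]
      · rw [Perm.mul_apply, swap_apply_right, swap_apply_of_ne_of_ne hab.symm hab'.symm, T.τ_τ]
  exact C.z_ne ((T.double_sq ha hb hab hab' e).symm.trans T.sq)

/-- The elements fixing every moved point. -/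
def R : Subgroup H where
  carrier := {g | g ∈ T.W ∧ ∀ a, T.τ a ≠ a → C.p g a = a}
  one_mem' := ⟨one_mem _, fun a _ => by rw [map_one, Perm.one_apply]⟩
  mul_mem' := fun hg hh => ⟨mul_mem hg.1 hh.1, fun a ha => by
    rw [map_mul, Perm.mul_apply, hh.2 a ha, hg.2 a ha]⟩
  inv_mem' := fun {g} hg => ⟨inv_mem hg.1, fun a ha => by
    rw [map_inv]; conv_lhs => rw [← hg.2 a ha, inv_apply_apply']⟩

theorem R_normal {w g : H} (hw : w ∈ T.W) (hg : g ∈ T.R) : w * g * w⁻¹ ∈ T.R :=
  ⟨mul_mem (mul_mem hw hg.1) (inv_mem hw), fun a ha => by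
    rw [map_mul, map_mul, Perm.mul_apply, Perm.mul_apply,
      hg.2 _ (T.W_moved (inv_mem hw) ha), map_inv, apply_inv_apply']⟩

theorem t_not_mem_R : T.t ∉ T.R := fun h => by
  obtain ⟨a, ha⟩ : ∃ a, T.τ a ≠ a := by
    by_contra hc
    push Not at hc
    exact T.τ_ne (Equiv.ext hc)
  exact ha (h.2 a ha)

theorem exists_three_in_R (hm : 3 ≤ T.τ.supportᶜ.card) : ∃ r ∈ T.R, r ^ 3 = 1 ∧ r ≠ 1 := by
  obtain ⟨u, hu, hu3⟩ := Finset.exists_subset_card_eq hm
  obtain ⟨a, b, c, hab, hac, hbc, rfl⟩ := Finset.card_eq_three.1 hu3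
  simp only [Finset.insert_subset_iff, Finset.singleton_subset_iff, Finset.mem_compl, mem_support,
    not_not] at hu
  obtain ⟨g, hg⟩ := C.exists_lift (s := cyc a b c) (mem_alternatingGroup.2 (sign_cyc hab hac))
  have h3 : C.p g ^ 3 = 1 := by rw [hg]; exact cyc_pow_three hab hac hbc
  have hcW : Commute T.τ (C.p g) := by
    rw [hg]
    refine Perm.Disjoint.commute fun x => ?_
    by_cases h : x = a ∨ x = b ∨ x = c
    · left; rcases h with rfl | rfl | rfl
      exacts [hu.1, hu.2.1, hu.2.2]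
    · right
      simp only [not_or] at h
      exact cyc_apply_of_ne h.1 h.2.1 h.2.2
  have hgR : g ∈ T.R := ⟨T.mem_W_odd hcW (by decide) h3, fun x hx => by
    rw [hg]
    exact cyc_apply_of_ne (fun e => hx (e ▸ hu.1)) (fun e => hx (e ▸ hu.2.1))
      (fun e => hx (e ▸ hu.2.2))⟩
  have hne : C.p g ≠ 1 := fun e => hab (by
    have := cyc_apply_left hab hbc (a := a) (b := b) (c := c)
    rw [← hg, e, Perm.one_apply] at this
    exact this)
  refine ⟨g ^ 4, pow_mem hgR 4, ?_, fun e => hne ?_⟩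
  · rw [← pow_mul, show 4 * 3 = 3 * 4 from rfl, pow_mul]
    rcases C.p_eq_one (g := g ^ 3) (by rw [map_pow, h3]) with h | h <;> rw [h]
    · exact one_pow 4
    · rw [show 4 = 2 * 2 from rfl, pow_mul, pow_two C.z, C.z_sq, one_pow]
  · have := congrArg C.p e
    rwa [map_pow, map_one, pow_succ, h3, one_mul] at this

theorem conj_pair {u v w a b c : Fin n} (q : Perm (Fin n)) (hd : Disjoint (swap a u) (swap c w))
    (hd' : Disjoint (swap b v) (swap c w)) (_hd'' : Disjoint (swap a u) (swap b v))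
    (e1 : q a = b) (e2 : q u = v) (e3 : q b = c) (e4 : q v = w) :
    q * (swap a u * swap b v) * q⁻¹ * (swap a u * swap b v)⁻¹ = swap a u * swap c w := by
  have h1 : q * (swap a u * swap b v) * q⁻¹ = swap b v * swap c w := by
    rw [show q * (swap a u * swap b v) * q⁻¹ = (q * swap a u * q⁻¹) * (q * swap b v * q⁻¹) by group,
      ← swap_apply_apply, ← swap_apply_apply, e1, e2, e3, e4]
  rw [h1, mul_inv_rev, swap_inv, swap_inv]
  calc swap b v * swap c w * (swap b v * swap a u)
      = swap c w * (swap b v * swap b v) * swap a u := by rw [hd'.commute.eq]; group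
    _ = swap a u * swap c w := by rw [swap_mul_self, mul_one, hd.commute.eq]

theorem v4 {a b c d : Fin n} (hab : a ≠ b) (hac : a ≠ c) (had : a ≠ d) (hbc : b ≠ c) (hbd : b ≠ d)
    (hcd : c ≠ d) : swap b c * swap a d * (swap a b * swap c d) = swap a c * swap b d := by
  ext y
  simp only [Perm.mul_apply]
  by_cases h1 : y = a
  · subst h1
    simp [swap_apply_of_ne_of_ne, *, hab.symm, hac.symm, had.symm, hbc.symm, hbd.symm, hcd.symm]
  by_cases h2 : y = b
  · subst h2
    simp [swap_apply_of_ne_of_ne, *, hab.symm, hac.symm, had.symm, hbc.symm, hbd.symm, hcd.symm]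
  by_cases h3 : y = c
  · subst h3
    simp [swap_apply_of_ne_of_ne, *, hab.symm, hac.symm, had.symm, hbc.symm, hbd.symm, hcd.symm]
  by_cases h4 : y = d
  · subst h4
    simp [swap_apply_of_ne_of_ne, *, hab.symm, hac.symm, had.symm, hbc.symm, hbd.symm, hcd.symm]
  simp [swap_apply_of_ne_of_ne, *]

theorem comm_mem {M : Subgroup H} (hMn : ∀ w ∈ T.W, ∀ g ∈ M, w * g * w⁻¹ ∈ M) {r X : H}
    (hr : r ∈ M) (hX : X ∈ T.W) : r * X * r⁻¹ * X⁻¹ ∈ M := by
  rw [show r * X * r⁻¹ * X⁻¹ = r * (X * r⁻¹ * X⁻¹) by group]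
  exact mul_mem hr (hMn X hX _ (inv_mem hr))

/-- A normal subgroup with an element of order three contains the central involution. -/
theorem z_mem_of_three (hm : T.τ.supportᶜ.card ≠ 3) {M : Subgroup H} (hM : M ≤ T.W)
    (hMn : ∀ w ∈ T.W, ∀ g ∈ M, w * g * w⁻¹ ∈ M) {r : H} (hr : r ∈ M) (h3 : r ^ 3 = 1) (h1 : r ≠ 1) :
    C.z ∈ M := by
  set q := C.p r with hq
  have hq3 : q ^ 3 = 1 := by rw [hq, ← map_pow, h3, map_one]
  have hqa : ∀ x, q (q (q x)) = x := fun x => by
    have := congrArg (fun f : Perm (Fin n) => f x) hq3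
    simpa [pow_succ, Perm.mul_apply] using this
  have hrW := hM hr
  obtain ⟨a, ha⟩ : ∃ a, q a ≠ a := by
    by_contra hc
    push Not at hc
    rcases C.p_eq_one (g := r) (Equiv.ext hc) with h | h
    · exact h1 h
    · rw [h, C.z_pow_odd (by decide)] at h3
      exact C.z_ne h3
  have fin : ∀ {X : H} {u v w x : Fin n}, X ∈ T.W → u ≠ v → u ≠ w → u ≠ x → v ≠ w → v ≠ x → w ≠ x →
      q * C.p X * q⁻¹ * (C.p X)⁻¹ = swap u v * swap w x → C.z ∈ M := by
    intro X u v w x hX n1 n2 n3 n4 n5 n6 he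
    have hmem := T.comm_mem hMn hr hX
    have := C.dbl _ u v w x n1 n2 n3 n4 n5 n6
      (show C.p (r * X * r⁻¹ * X⁻¹) = _ by simp only [map_mul, map_inv]; exact he)
    rw [← this]
    exact mul_mem hmem hmem
  set b := q a with hb
  set c := q b with hc
  have hca : q c = a := hqa a
  have hba : b ≠ a := ha
  have hcb : c ≠ b := fun e => hba (q.injective e)
  have hac : a ≠ c := fun e => hcb (by
    have : q a = q c := congrArg q e
    rw [← hb, hca] at this
    exact absurd this hba)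
  by_cases hmv : ∃ x, T.τ x ≠ x ∧ q x ≠ x
  · obtain ⟨x, hx, hqx⟩ := hmv
    set y := q x with hy
    set w := q y with hw
    have hτ : ∀ v, q (T.τ v) = T.τ (q v) := T.W_comm hrW
    have hwx : q w = x := hqa x
    have hyτ : T.τ x ≠ y := fun e => by
      have e2 : w = x := by rw [hw, ← e, hτ, ← hy, ← e, T.τ_τ]
      exact hqx (by rw [← e2] at hwx; exact hy.trans (by rw [← e2, hwx]))
    have hwy : w ≠ y := fun e => hqx (q.injective e)
    have hxw : x ≠ w := fun e => hqx (by rw [← e] at hwx; exact hwx)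
    have hwτ : T.τ x ≠ w := fun e => hyτ (by
      have h' : x = T.τ y := by rw [← hwx, ← e, hτ]
      rw [h', T.τ_τ])
    have hτyw : T.τ y ≠ w := fun e => hyτ (by
      apply q.injective
      rw [hτ, ← hy, e, ← hw])
    have hy' : T.τ y ≠ y := T.W_moved hrW hx
    have hw' : T.τ w ≠ w := T.W_moved hrW hy'
    obtain ⟨X, hX, hXp, -⟩ := T.exists_double hx hy' (Ne.symm hqx) hyτ
    have dj : ∀ {u v : Fin n}, T.τ u ≠ u → T.τ v ≠ v → u ≠ v → T.τ u ≠ v →
        Disjoint (swap u (T.τ u)) (swap v (T.τ v)) := fun hu hv n1 n2 =>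
      double_disjoint hu.symm n1 (fun e => n2 (by rw [e, T.τ_τ])) n2
        (fun e => n1 (T.τ.injective e)) hv.symm
    refine fin hX hx.symm hxw (fun e => hwτ (by rw [e, T.τ_τ])) hwτ (fun e => hxw (T.τ.injective e))
      hw'.symm ?_
    rw [hXp]
    exact conj_pair q (dj hx hw' hxw hwτ) (dj hy' hw' hwy.symm hτyw) (dj hx hy' (Ne.symm hqx) hyτ)
      rfl (hτ x) rfl (hτ y)
  push Not at hmv
  have hfix : ∀ x, q x ≠ x → T.τ x = x := fun x hx => by_contra fun h => hx (hmv x h)
  have haF := hfix a ha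
  have hbF : T.τ b = b := hfix b (fun e => hcb e)
  have hcF : T.τ c = c := hfix c (fun e => hac ((hca ▸ e : a = c)))
  obtain ⟨d, hdF, hd⟩ : ∃ d ∈ T.τ.supportᶜ, d ∉ ({a, b, c} : Finset (Fin n)) := by
    refine Finset.exists_mem_notMem_of_card_lt_card (Finset.card_le_three.trans_lt ?_)
    have hsub : ({a, b, c} : Finset (Fin n)) ⊆ T.τ.supportᶜ := by
      intro x hx
      simp only [Finset.mem_insert, Finset.mem_singleton] at hx
      rcases hx with rfl | rfl | rfl <;> simp [haF, hbF, hcF]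
    have := Finset.card_le_card hsub
    rw [Finset.card_eq_three.2 ⟨a, b, c, hba.symm, hac, hcb.symm, rfl⟩] at this
    omega
  simp only [Finset.mem_insert, Finset.mem_singleton, not_or] at hd
  simp only [Finset.mem_compl, mem_support, not_not] at hdF
  have inW : ∀ {u v w x : Fin n}, T.τ u = u → T.τ v = v → T.τ w = w → T.τ x = x → u ≠ v → w ≠ x →
      ∃ X ∈ T.W, C.p X = swap u v * swap w x := by
    intro u v w x fu fv fw fx n1 n2
    obtain ⟨X, hX⟩ := C.exists_lift (sign_double n1 n2)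
    refine ⟨X, T.mem_W.2 (C.commute_of_disjoint fun y => ?_), hX⟩
    by_cases hy : y = u ∨ y = v ∨ y = w ∨ y = x
    · right
      rcases hy with rfl | rfl | rfl | rfl
      exacts [fu, fv, fw, fx]
    · left
      simp only [not_or] at hy
      rw [hX, Perm.mul_apply, swap_apply_of_ne_of_ne hy.2.2.1 hy.2.2.2,
        swap_apply_of_ne_of_ne hy.1 hy.2.1]
  by_cases hqd : q d = d
  · obtain ⟨X, hX, hXp⟩ := inW haF hbF hcF hdF hba.symm (Ne.symm hd.2.2)
    refine fin hX hac hba.symm (Ne.symm hd.1) hcb (Ne.symm hd.2.2) (Ne.symm hd.2.1) ?_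
    rw [hXp, show q * (swap a b * swap c d) * q⁻¹ = (q * swap a b * q⁻¹) * (q * swap c d * q⁻¹) by group,
      ← swap_apply_apply, ← swap_apply_apply, ← hb, ← hc, hca, hqd, mul_inv_rev, swap_inv, swap_inv,
      (double_disjoint hba.symm hac (Ne.symm hd.1) hcb.symm (Ne.symm hd.2.1) (Ne.symm hd.2.2)).commute.eq.symm]
    exact v4 hba.symm hac (Ne.symm hd.1) hcb.symm (Ne.symm hd.2.1) (Ne.symm hd.2.2)
  · set e := q d with he
    set f := q e with hf
    have hfd : q f = d := hqa d
    have hinv : ∀ u, u ∈ ({a, b, c} : Finset (Fin n)) → q u ∈ ({a, b, c} : Finset (Fin n)) := by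
      intro u hu
      simp only [Finset.mem_insert, Finset.mem_singleton] at hu ⊢
      rcases hu with rfl | rfl | rfl
      exacts [Or.inr (Or.inl rfl), Or.inr (Or.inr rfl), Or.inl hca]
    have hdn : d ∉ ({a, b, c} : Finset (Fin n)) := by simpa using hd
    have hfn : f ∉ ({a, b, c} : Finset (Fin n)) := fun h => hdn (hfd ▸ hinv f h)
    have hen : e ∉ ({a, b, c} : Finset (Fin n)) := fun h => hfn (hinv e h)
    simp only [Finset.mem_insert, Finset.mem_singleton, not_or] at hfn hen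
    have hfe : f ≠ e := fun x => hqd (q.injective x)
    have hfd' : f ≠ d := fun x => hqd (by rw [x] at hfd; exact hfd)
    have heF : T.τ e = e := hfix e (fun x => hfe x)
    obtain ⟨X, hX, hXp⟩ := inW haF hdF hbF heF (Ne.symm hd.1) (Ne.symm hen.2.1)
    refine fin hX (Ne.symm hd.1) hac (Ne.symm hfn.1) hd.2.2 (Ne.symm hfd') (Ne.symm hfn.2.2) ?_
    rw [hXp]
    exact conj_pair q (double_disjoint (Ne.symm hd.1) hac (Ne.symm hfn.1) hd.2.2 hfd'.symm (Ne.symm hfn.2.2))
      (double_disjoint (Ne.symm hen.2.1) hcb.symm (Ne.symm hfn.2.1) hen.2.2 hfe.symm (Ne.symm hfn.2.2))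
      (double_disjoint (Ne.symm hd.1) hba.symm (Ne.symm hen.1) hd.2.1 (Ne.symm hqd) (Ne.symm hen.2.1))
      rfl rfl rfl rfl

/-- The elements fixing every transposition. -/
def K : Subgroup H where
  carrier := {g | g ∈ T.W ∧ ∀ a, C.p g a = a ∨ C.p g a = T.τ a}
  one_mem' := ⟨one_mem _, fun a => Or.inl (by rw [map_one, Perm.one_apply])⟩
  mul_mem' := fun {g h} hg hh => ⟨mul_mem hg.1 hh.1, fun a => by
    rw [map_mul, Perm.mul_apply]
    rcases hh.2 a with e | e <;> rw [e]
    · exact hg.2 a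
    · rw [T.W_comm hg.1]
      rcases hg.2 a with e' | e' <;> rw [e']
      · exact Or.inr rfl
      · exact Or.inl (T.τ_τ a)⟩
  inv_mem' := fun {g} hg => ⟨inv_mem hg.1, fun a => by
    rw [map_inv]
    rcases hg.2 a with e | e
    · left; conv_lhs => rw [← e, inv_apply_apply']
    · right
      apply (C.p g).injective
      rw [apply_inv_apply', T.W_comm hg.1, e, T.τ_τ]⟩

theorem K_normal {w g : H} (hw : w ∈ T.W) (hg : g ∈ T.K) : w * g * w⁻¹ ∈ T.K :=
  ⟨mul_mem (mul_mem hw hg.1) (inv_mem hw), fun a => by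
    rw [map_mul, map_mul, Perm.mul_apply, Perm.mul_apply]
    rcases hg.2 (C.p w⁻¹ a) with e | e <;> rw [e]
    · left; rw [map_inv, apply_inv_apply']
    · right; rw [T.W_comm hw, map_inv, apply_inv_apply']⟩

theorem K_pGroup : IsPGroup 2 T.K := by
  rintro ⟨g, hg⟩
  refine ⟨2, Subtype.ext ?_⟩
  have h2 : C.p (g * g) = 1 := by
    ext a
    rw [map_mul, Perm.mul_apply, Perm.one_apply]
    rcases hg.2 a with e | e <;> rw [e]
    · rw [e]
    · rw [T.W_comm hg.1, e, T.τ_τ]
  show g ^ (2 ^ 2) = 1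
  rw [show (2 : ℕ) ^ 2 = 2 * 2 from rfl, pow_mul, pow_two g]
  rcases C.p_eq_one h2 with h | h <;> rw [h]
  · exact one_pow 2
  · rw [pow_two, C.z_sq]

theorem exists_comm_z : ∃ x ∈ T.K, ∃ y ∈ T.K, x * y * x⁻¹ * y⁻¹ = C.z := by
  have h6 := T.six_le
  obtain ⟨a, ha⟩ := Finset.card_pos.1 (show 0 < T.τ.support.card by omega)
  obtain ⟨b, hb, hb'⟩ : ∃ b ∈ T.τ.support, b ∉ ({a, T.τ a} : Finset (Fin n)) :=
    Finset.exists_mem_notMem_of_card_lt_card (Finset.card_le_two.trans_lt (by omega))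
  obtain ⟨c, hc, hc'⟩ : ∃ c ∈ T.τ.support, c ∉ ({a, T.τ a, b, T.τ b} : Finset (Fin n)) :=
    Finset.exists_mem_notMem_of_card_lt_card (Finset.card_le_four.trans_lt (by omega))
  rw [mem_support] at ha hb hc
  simp only [Finset.mem_insert, Finset.mem_singleton, not_or] at hb' hc'
  obtain ⟨X, hX, hXp, hX2⟩ := T.exists_double ha hb (Ne.symm hb'.1) (Ne.symm hb'.2)
  obtain ⟨Y, hY, hYp, hY2⟩ := T.exists_double hb hc (Ne.symm hc'.2.2.1) (Ne.symm hc'.2.2.2)
  have hXY : X * Y * (X * Y) = C.z := by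
    refine T.double_sq ha hc (Ne.symm hc'.1) (Ne.symm hc'.2.1) ?_
    rw [map_mul, hXp, hYp]
    calc swap a (T.τ a) * swap b (T.τ b) * (swap b (T.τ b) * swap c (T.τ c))
        = swap a (T.τ a) * (swap b (T.τ b) * swap b (T.τ b)) * swap c (T.τ c) := by group
      _ = _ := by rw [swap_mul_self, mul_one]
  have inK : ∀ {u v : Fin n} {g : H}, T.τ u ≠ u → T.τ v ≠ v → u ≠ v → T.τ u ≠ v → g ∈ T.W →
      C.p g = swap u (T.τ u) * swap v (T.τ v) → g ∈ T.K := by
    refine fun {u v g} hu hv n1 n2 hg he => ⟨hg, fun x => ?_⟩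
    rw [he]
    rcases T.split_disjoint hu hv n1 n2 x with e | e
    · exact Or.inl e
    · right
      rw [Perm.mul_apply] at e
      have h1 := congrArg (swap u (T.τ u) * swap v (T.τ v)) e
      rw [← Perm.mul_apply, ← he, ← map_mul, T.double_sq hu hv n1 n2 he, C.p_z, Perm.one_apply, he] at h1
      exact h1.symm
  refine ⟨X, inK ha hb (Ne.symm hb'.1) (Ne.symm hb'.2) hX hXp,
    Y, inK hb hc (Ne.symm hc'.2.2.1) (Ne.symm hc'.2.2.2) hY hYp, ?_⟩
  have iX : X⁻¹ = X * C.z := inv_eq_of_mul_eq_one_right (by rw [← mul_assoc, hX2, C.z_sq])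
  have iY : Y⁻¹ = Y * C.z := inv_eq_of_mul_eq_one_right (by rw [← mul_assoc, hY2, C.z_sq])
  rw [iX, iY]
  calc X * Y * (X * C.z) * (Y * C.z) = X * Y * (X * (C.z * Y)) * C.z := by group
    _ = X * Y * (X * Y) * C.z * C.z := by rw [← C.z_comm Y]; group
    _ = C.z := by rw [mul_assoc, C.z_sq, mul_one, hXY]

/-- Same transposition. -/
def Same (a b : Fin n) : Prop := b = a ∨ b = T.τ a

theorem same_refl (a : Fin n) : T.Same a a := Or.inl rfl

theorem same_symm {a b : Fin n} (h : T.Same a b) : T.Same b a := by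
  rcases h with rfl | rfl
  · exact Or.inl rfl
  · exact Or.inr (T.τ_τ a).symm

theorem same_trans {a b c : Fin n} (h : T.Same a b) (h' : T.Same b c) : T.Same a c := by
  rcases h with rfl | rfl
  · exact h'
  · rcases h' with rfl | rfl
    · exact Or.inr rfl
    · exact Or.inl (T.τ_τ a)

theorem same_map {g : H} (hg : g ∈ T.W) {a b : Fin n} (h : T.Same a b) :
    T.Same (C.p g a) (C.p g b) := by
  rcases h with rfl | rfl
  · exact Or.inl rfl
  · exact Or.inr (T.W_comm hg a)

theorem exists_rho {a b c : Fin n} (ha : T.τ a ≠ a) (hb : T.τ b ≠ b) (hc : T.τ c ≠ c)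
    (hab : ¬ T.Same a b) (hac : ¬ T.Same a c) (hbc : ¬ T.Same b c) :
    ∃ y ∈ T.W, C.p y a = b ∧ C.p y b = c ∧ C.p y c = a ∧
      ∀ x, ¬ T.Same a x → ¬ T.Same b x → ¬ T.Same c x → C.p y x = x := by
  simp only [Same, not_or] at hab hac hbc
  have nab : a ≠ b := Ne.symm hab.1
  have nac : a ≠ c := Ne.symm hac.1
  have nbc : b ≠ c := Ne.symm hbc.1
  have sym : ∀ {u v : Fin n}, v ≠ T.τ u → u ≠ T.τ v := fun h e => h (by rw [e, T.τ_τ])
  set c₁ := cyc a b c with hc₁
  set c₂ := cyc (T.τ a) (T.τ b) (T.τ c) with hc₂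
  have e2 : T.τ * c₁ * T.τ⁻¹ = c₂ := conj_cyc _ _ _ _
  have e1 : T.τ * c₂ * T.τ⁻¹ = c₁ := by
    rw [hc₂, conj_cyc, T.τ_τ, T.τ_τ, T.τ_τ]
  have hd : Disjoint c₁ c₂ := fun x => by
    by_cases hx : x = T.τ a ∨ x = T.τ b ∨ x = T.τ c
    · left
      rcases hx with rfl | rfl | rfl
      · exact cyc_apply_of_ne ha (Ne.symm hab.2) (Ne.symm hac.2)
      · exact cyc_apply_of_ne (sym hab.2).symm hb (Ne.symm hbc.2)
      · exact cyc_apply_of_ne (sym hac.2).symm (sym hbc.2).symm hc
    · right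
      simp only [not_or] at hx
      exact cyc_apply_of_ne hx.1 hx.2.1 hx.2.2
  have hcomm : Commute T.τ (c₁ * c₂) := by
    show T.τ * (c₁ * c₂) = c₁ * c₂ * T.τ
    rw [← mul_inv_eq_iff_eq_mul]
    calc T.τ * (c₁ * c₂) * T.τ⁻¹ = (T.τ * c₁ * T.τ⁻¹) * (T.τ * c₂ * T.τ⁻¹) := by group
      _ = c₁ * c₂ := by rw [e1, e2, hd.commute.eq]
  have hmem : c₁ * c₂ ∈ alternatingGroup (Fin n) := by
    rw [mem_alternatingGroup, map_mul, sign_cyc nab nac,
      sign_cyc (fun e => nab (T.τ.injective e)) (fun e => nac (T.τ.injective e)), one_mul]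
  obtain ⟨y, hy⟩ := C.exists_lift hmem
  have h3 : C.p y ^ 3 = 1 := by
    rw [hy, hd.commute.mul_pow, cyc_pow_three nab nac nbc,
      cyc_pow_three (fun e => nab (T.τ.injective e)) (fun e => nac (T.τ.injective e))
        (fun e => nbc (T.τ.injective e)), one_mul]
  refine ⟨y, T.mem_W_odd (hy ▸ hcomm) (by decide) h3, ?_, ?_, ?_, ?_⟩
  · rw [hy, Perm.mul_apply, hc₂, cyc_apply_of_ne ha.symm (sym hab.2) (sym hac.2), hc₁,
      cyc_apply_left nab nbc]
  · rw [hy, Perm.mul_apply, hc₂, cyc_apply_of_ne hab.2 hb.symm (sym hbc.2), hc₁, cyc_apply_mid]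
  · rw [hy, Perm.mul_apply, hc₂, cyc_apply_of_ne hac.2 hbc.2 hc.symm, hc₁,
      cyc_apply_right nac nbc]
  · intro x hxa hxb hxc
    simp only [Same, not_or] at hxa hxb hxc
    rw [hy, Perm.mul_apply, hc₂, cyc_apply_of_ne hxa.2 hxb.2 hxc.2, hc₁,
      cyc_apply_of_ne hxa.1 hxb.1 hxc.1]

/-- In a normal two-subgroup every element fixes every transposition. -/
theorem pairs_fixed (h10 : 10 ≤ T.τ.support.card) {M : Subgroup H} (hM : M ≤ T.W)
    (hMn : ∀ w ∈ T.W, ∀ g ∈ M, w * g * w⁻¹ ∈ M) (h2 : IsPGroup 2 M) {g : H} (hg : g ∈ M) :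
    ∀ a, T.τ a ≠ a → T.Same a (C.p g a) := by
  classical
  let Good : H → Prop := fun g => ∀ a, T.τ a ≠ a → T.Same a (C.p g a)
  show Good g
  by_contra hbad
  obtain ⟨q, hq, hqbad, hqq⟩ : ∃ q ∈ M, ¬ Good q ∧ Good (q * q) := by
    obtain ⟨j, hj⟩ := h2 ⟨g, hg⟩
    have hj' : Good (g ^ 2 ^ j) := by
      rw [show g ^ 2 ^ j = 1 from congrArg Subtype.val hj]
      exact fun a _ => Or.inl (by rw [map_one, Perm.one_apply])
    have hex : ∃ j, Good (g ^ 2 ^ j) := ⟨j, hj'⟩
    cases hmin : Nat.find hex with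
    | zero =>
      have := Nat.find_spec hex
      rw [hmin, pow_zero, pow_one] at this
      exact absurd this hbad
    | succ i =>
      refine ⟨g ^ 2 ^ i, pow_mem hg _, fun h => ?_, ?_⟩
      · exact Nat.find_min hex (by omega : i < Nat.find hex) h
      · have := Nat.find_spec hex
        rwa [hmin, pow_succ, pow_mul, pow_two] at this
  have hqW := hM hq
  have hq2 : ∀ a, T.τ a ≠ a → T.Same a (C.p q (C.p q a)) := fun a ha => by
    have := hqq a ha
    rwa [map_mul, Perm.mul_apply] at this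
  have hqi : q⁻¹ ∈ T.W := inv_mem hqW
  have hqinv : ∀ {a : Fin n}, T.τ a ≠ a → T.Same (C.p q a) (C.p q⁻¹ a) := fun {a} ha => by
    have h1 := T.same_map hqi (hq2 a ha)
    rw [map_inv, inv_apply_apply'] at h1
    rw [map_inv]
    exact T.same_symm h1
  -- the product cycles three transpositions
  have key : ∀ {P : H}, P ∈ M → ∀ {u v w : Fin n}, ¬ T.Same u v → ¬ T.Same u w →
      T.Same v (C.p P u) → T.Same w (C.p P v) → T.Same u (C.p P w) → False := by
    intro P hP u v w huv huw h1 h2' h3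
    have hPW := hM hP
    have hcube : ∀ k, T.Same u (C.p (P ^ (3 * k)) u) := by
      intro k
      induction k with
      | zero => exact Or.inl (by rw [Nat.mul_zero, pow_zero, map_one, Perm.one_apply])
      | succ k ih =>
        rw [Nat.mul_succ, pow_add, map_mul, Perm.mul_apply]
        have hP3 : T.Same u (C.p (P ^ 3) u) := by
          rw [pow_succ, pow_two, map_mul, map_mul, Perm.mul_apply, Perm.mul_apply]
          exact T.same_trans (T.same_trans h3 (T.same_map hPW h2'))
            (T.same_map hPW (T.same_map hPW h1))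
        exact T.same_trans ih (T.same_map (pow_mem hPW _) hP3)
    obtain ⟨j, hj⟩ := h2 ⟨P, hP⟩
    have hj' : P ^ 2 ^ j = 1 := congrArg Subtype.val hj
    obtain ⟨k, r, hr, hkr⟩ : ∃ k r, (r = 1 ∨ r = 2) ∧ 2 ^ j = 3 * k + r := by
      refine ⟨2 ^ j / 3, 2 ^ j % 3, ?_, (Nat.div_add_mod _ 3).symm⟩
      have h3' : 2 ^ j % 3 ≠ 0 := fun h => absurd (Nat.dvd_of_mod_eq_zero h)
        (fun h => absurd (Nat.prime_three.dvd_of_dvd_pow h) (by decide))
      omega
    have hone : T.Same u (C.p (P ^ (r + 3 * k)) u) := by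
      rw [Nat.add_comm, ← hkr, hj', map_one, Perm.one_apply]; exact T.same_refl u
    have hr' : T.Same u (C.p (P ^ r) u) := by
      rw [pow_add, map_mul, Perm.mul_apply] at hone
      exact T.same_trans hone (T.same_symm (T.same_map (pow_mem hPW r) (hcube k)))
    rcases hr with rfl | rfl
    · rw [pow_one] at hr'
      exact huv (T.same_trans hr' (T.same_symm h1))
    · rw [pow_two, map_mul, Perm.mul_apply] at hr'
      exact huw (T.same_trans hr' (T.same_symm (T.same_trans h2' (T.same_map hPW h1))))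
  -- evaluating the commutator
  have eval : ∀ {y : H}, y ∈ T.W → ∀ {x x₁ x₂ x₃ : Fin n}, C.p y x₁ = x → T.Same x₂ (C.p q⁻¹ x₁) →
      T.Same x₃ (C.p q (C.p y x₂)) → T.Same x₃ (C.p (q * y * q⁻¹ * y⁻¹) x) := by
    intro y hy x x₁ x₂ x₃ h1 h2' h3
    simp only [map_mul, Perm.mul_apply, map_inv]
    rw [← h1, inv_apply_apply', ← map_inv]
    exact T.same_trans h3 (T.same_map hqW (T.same_map hy h2'))
  simp only [Good, not_forall] at hqbad
  obtain ⟨a, ha, hab⟩ := hqbad
  set b := C.p q a with hbdef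
  have hb : T.τ b ≠ b := T.W_moved hqW ha
  have hqb : T.Same a (C.p q b) := hq2 a ha
  by_cases hfx : ∃ c, T.τ c ≠ c ∧ T.Same c (C.p q c)
  · obtain ⟨c, hc, hqc⟩ := hfx
    have hac : ¬ T.Same a c := fun h =>
      hab (T.same_trans h (T.same_trans hqc (T.same_symm (T.same_map hqW h))))
    have hbc : ¬ T.Same b c := fun h =>
      hac (T.same_trans (T.same_trans hqb (T.same_map hqW h)) (T.same_symm hqc))
    obtain ⟨y, hy, ya, yb, yc, -⟩ := T.exists_rho ha hb hc hab hac hbc
    refine key (T.comm_mem hMn hq hy) hab hac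
      (eval hy yc (T.same_trans hqc (hqinv hc)) ?_)
      (eval hy ya (hqinv ha) ?_)
      (eval hy yb (T.same_trans hqb (hqinv hb)) ?_)
    · rw [yc]; exact T.same_refl b
    · rw [yb]; exact hqc
    · rw [ya]; exact hqb
  · push Not at hfx
    have sy : ∀ {u v : Fin n}, T.τ u ≠ u → T.Same v (C.p q u) → T.Same u (C.p q v) := fun hu h =>
      T.same_trans (hq2 _ hu) (T.same_symm (T.same_map hqW h))
    obtain ⟨c, hc, hc'⟩ : ∃ c ∈ T.τ.support, c ∉ ({a, T.τ a, b, T.τ b} : Finset (Fin n)) :=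
      Finset.exists_mem_notMem_of_card_lt_card (Finset.card_le_four.trans_lt (by omega))
    rw [mem_support] at hc
    simp only [Finset.mem_insert, Finset.mem_singleton, not_or] at hc'
    have hac : ¬ T.Same a c := fun h => h.elim hc'.1 hc'.2.1
    have hbc : ¬ T.Same b c := fun h => h.elim hc'.2.2.1 hc'.2.2.2
    set d := C.p q c with hddef
    have hcd : ¬ T.Same c d := hfx c hc
    have had : ¬ T.Same a d := fun h => hbc (T.same_symm (T.same_trans (hq2 c hc)
      (T.same_symm (T.same_map hqW h))))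
    have hbd : ¬ T.Same b d := fun h => hac (T.same_trans (T.same_trans hqb (T.same_map hqW h))
      (T.same_symm (hq2 c hc)))
    obtain ⟨e, he, he'⟩ : ∃ e ∈ T.τ.support,
        e ∉ ({a, T.τ a, b, T.τ b} ∪ {c, T.τ c, d, T.τ d} : Finset (Fin n)) :=
      Finset.exists_mem_notMem_of_card_lt_card (((Finset.card_union_le _ _).trans
        (Nat.add_le_add Finset.card_le_four Finset.card_le_four)).trans_lt (by omega))
    rw [mem_support] at he
    simp only [Finset.mem_union, Finset.mem_insert, Finset.mem_singleton, not_or] at he'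
    have hae : ¬ T.Same a e := fun h => h.elim he'.1.1 he'.1.2.1
    have hbe : ¬ T.Same b e := fun h => h.elim he'.1.2.2.1 he'.1.2.2.2
    have hce : ¬ T.Same c e := fun h => h.elim he'.2.1 he'.2.2.1
    have hde : ¬ T.Same d e := fun h => h.elim he'.2.2.2.1 he'.2.2.2.2
    have other : ∀ {u v : Fin n}, T.τ u ≠ u → ¬ T.Same (C.p q u) v → ¬ T.Same u (C.p q v) :=
      fun hu h1 h => h1 (by
        have := T.same_map hqi h
        rw [map_inv, inv_apply_apply', ← map_inv] at this
        exact T.same_trans (hqinv hu) this)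
    obtain ⟨y, hy, ya, yc, ye, yfix⟩ := T.exists_rho ha hc he hac hae hce
    refine key (T.comm_mem hMn hq hy) hae hac
      (eval hy ye (hqinv he) ?_)
      (eval hy yc (hqinv hc) ?_)
      (eval hy ya (hqinv ha) ?_)
    · rw [yfix _ (other ha hbe) (other hc hde) (hfx e he)]; exact hq2 e he
    · rw [yfix _ had hcd fun h => hde (T.same_symm h)]; exact hq2 c hc
    · rw [yfix _ hab (fun h => hbc (T.same_symm h)) fun h => hbe (T.same_symm h)]; exact hqb

/-- If there are at most three fixed points, a normal two-subgroup is abelian modulo the centre. -/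
theorem comm_cases (h10 : 10 ≤ T.τ.support.card) (hm : T.τ.supportᶜ.card ≤ 3) {M : Subgroup H}
    (hM : M ≤ T.W) (hMn : ∀ w ∈ T.W, ∀ g ∈ M, w * g * w⁻¹ ∈ M) (h2 : IsPGroup 2 M) {x y : H}
    (hx : x ∈ M) (hy : y ∈ M) : x * y * x⁻¹ * y⁻¹ = 1 ∨ x * y * x⁻¹ * y⁻¹ = C.z := by
  have hinv : ∀ g ∈ M, C.p g * C.p g = 1 := by
    intro g hg
    ext a
    rw [Perm.mul_apply, Perm.one_apply]
    congr 1
    by_cases ha : T.τ a = a
    · set f := C.p g with hf
      by_contra hne
      have h1 : f a ≠ a := fun e => hne (by rw [e, e])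
      have h2' : f (f a) ≠ f a := fun e => h1 (f.injective e)
      have hfa := T.W_fixed (hM hg) ha
      have hffa := T.W_fixed (hM hg) hfa
      have hall : ({a, f a, f (f a)} : Finset (Fin n)) = T.τ.supportᶜ := by
        refine Finset.eq_of_subset_of_card_le (fun u hu => ?_) ?_
        · simp only [Finset.mem_insert, Finset.mem_singleton] at hu
          rcases hu with rfl | rfl | rfl <;>
            simp only [Finset.mem_compl, mem_support, not_not]
          exacts [ha, hfa, hffa]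
        · rw [Finset.card_eq_three.2 ⟨a, f a, f (f a), Ne.symm h1, Ne.symm hne, Ne.symm h2', rfl⟩]
          exact hm
      have h3 : f (f (f a)) = a := by
        have hmem : f (f (f a)) ∈ ({a, f a, f (f a)} : Finset (Fin n)) := by
          rw [hall, Finset.mem_compl, mem_support, not_not]
          exact T.W_fixed (hM hg) hffa
        simp only [Finset.mem_insert, Finset.mem_singleton] at hmem
        rcases hmem with h | h | h
        · exact h
        · exact absurd (f.injective h) hne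
        · exact absurd (f.injective h) h2'
      have hf3 : ∀ k, (f ^ (3 * k)) a = a := by
        intro k
        induction k with
        | zero => rw [Nat.mul_zero, pow_zero, Perm.one_apply]
        | succ k ih =>
          rw [Nat.mul_succ, pow_add, Perm.mul_apply,
            show (f ^ 3) a = a by rw [pow_succ, pow_two, Perm.mul_apply, Perm.mul_apply]; exact h3, ih]
      obtain ⟨j, hj⟩ := h2 ⟨g, hg⟩
      have hj' : f ^ 2 ^ j = 1 := by
        rw [hf, ← map_pow, show g ^ 2 ^ j = 1 from congrArg Subtype.val hj, map_one]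
      have hj3 : 2 ^ j % 3 ≠ 0 := fun h => absurd (Nat.dvd_of_mod_eq_zero h)
        (fun h => absurd (Nat.prime_three.dvd_of_dvd_pow h) (by decide))
      obtain ⟨k, hk⟩ : ∃ k, 2 * 2 ^ j = 3 * k + 1 ∨ 2 * 2 ^ j = 3 * k + 2 :=
        ⟨2 * 2 ^ j / 3, by omega⟩
      have h2j : f ^ (2 * 2 ^ j) = 1 := by rw [pow_mul', hj', one_pow]
      rcases hk with hk | hk
      · rw [hk, pow_succ] at h2j
        have := congrArg (fun p : Perm (Fin n) => p a) h2j
        simp only [Perm.mul_apply, Perm.one_apply] at this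
        have h4 := hf3 k
        exact h1 ((f ^ (3 * k)).injective (this.trans h4.symm))
      · rw [hk, pow_add, pow_two] at h2j
        have := congrArg (fun p : Perm (Fin n) => p a) h2j
        simp only [Perm.mul_apply, Perm.one_apply] at this
        have h4 := hf3 k
        exact hne ((f ^ (3 * k)).injective (this.trans h4.symm))
    · rcases T.pairs_fixed h10 hM hMn h2 hg a ha with e | e <;> rw [e]
      · exact e
      · rw [T.W_comm (hM hg), e, T.τ_τ]
  refine C.p_eq_one ?_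
  have e : ∀ g ∈ M, (C.p g)⁻¹ = C.p g := fun g hg => inv_eq_of_mul_eq_one_right (hinv g hg)
  simp only [map_mul, map_inv]
  rw [e x hx, e y hy]
  have := hinv _ (mul_mem hx hy)
  rw [map_mul] at this
  rw [mul_assoc (C.p x * C.p y)]
  exact this

end NInv

end Cfsg.Agent.CoverDegree
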