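import Cfsg.Agent.CoverDegree.Global
import Cfsg.Agent.CoverDegree.Fix
import Cfsg.Agent.CoverDegree.Amal.Twist
import Cfsg.Agent.CoverDegree.Amal.NotFused

/-!
Degrees nine and ten: the double cover of degree eight inside the centraliser carries the amalgam,
so the model maps into the group.
-/

set_option autoImplicit false
set_option linter.unusedSectionVars false
set_option maxHeartbeats 1000000

namespace Cfsg.Agent.CoverDegree

open Equiv Equiv.Perm Cfsg.Agent.McLRecog

section Cover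

variable {H : Type*} [Group H] [Finite H] {n : ℕ} (C : Cov H n)

/-- The low points. -/
def lowEquiv (hn : 8 ≤ n) : {i : Fin n // i.val < 8} ≃ Fin 8 :=
  ⟨fun i => ⟨i.1.val, i.2⟩, fun i => ⟨⟨i.val, lt_of_lt_of_le i.2 hn⟩, i.2⟩, fun _ => rfl, fun _ => rfl⟩

theorem low_iff {g : H} (hg : g ∈ Low C) (k : Fin n) : (C.p g k).val < 8 ↔ k.val < 8 := by
  constructor
  · intro h
    by_contra hk
    rw [hg k (by omega)] at h
    exact hk h
  · intro hk
    by_contra h
    have h1 := hg (C.p g k) (by omega)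
    have := (C.p g).injective h1
    rw [this] at h
    exact h hk

theorem cover_low (hn : 8 ≤ n) :
    Cfsg.IsNonsplitDoubleCover (Low C) (alternatingGroup (Fin 8)) := by
  classical
  let e := lowEquiv hn
  let ρ : Low C →* Perm (Fin 8) :=
    { toFun := fun g => e.permCongr ((C.p g.1).subtypePerm (p := fun k : Fin n => k.val < 8) (low_iff C g.2))
      map_one' := Equiv.ext fun x => by simp [Equiv.permCongr_apply]
      map_mul' := fun g h => Equiv.ext fun x => by simp [Equiv.permCongr_apply] }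
  have hρA : ∀ g, ρ g ∈ alternatingGroup (Fin 8) := fun g => by
    rw [mem_alternatingGroup]
    show Perm.sign (e.permCongr _) = 1
    rw [sign_permCongr, sign_subtypePerm _ (low_iff C g.2) fun k hk => lt_of_not_ge fun h => hk (g.2 k h)]
    exact mem_alternatingGroup.1 (C.p_mem g.1)
  let π : Low C →* alternatingGroup (Fin 8) := ρ.codRestrict _ hρA
  have hk : ∀ g : Low C, π g = 1 → C.p g.1 = 1 := fun g hg => by
    refine Equiv.ext fun k => ?_
    rw [Perm.one_apply]
    by_cases hk : k.val < 8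
    · have h1 : ρ g = 1 := congrArg Subtype.val hg
      have h2 := congrArg (fun f : Perm (Fin 8) => e.symm (f (e ⟨k, hk⟩))) h1
      simp only [ρ, MonoidHom.coe_mk, OneHom.coe_mk, Equiv.permCongr_apply, e.symm_apply_apply,
        Perm.one_apply] at h2
      exact congrArg Subtype.val h2
    · exact g.2 k (by omega)
  have hsurj : Function.Surjective π := by
    rintro ⟨σ, hσ⟩
    let τ : Perm (Fin n) := ofSubtype (e.symm.permCongr σ)
    have hτA : τ ∈ alternatingGroup (Fin n) := by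
      rw [mem_alternatingGroup, sign_ofSubtype, sign_permCongr]
      exact mem_alternatingGroup.1 hσ
    obtain ⟨g, hg⟩ := C.exists_lift hτA
    have hgL : g ∈ Low C := fun i hi => by
      rw [hg]
      exact ofSubtype_apply_of_not_mem _ (by show ¬ i.val < 8; omega)
    refine ⟨⟨g, hgL⟩, Subtype.ext (Equiv.ext fun x => ?_)⟩
    show e ((C.p g).subtypePerm (p := fun k : Fin n => k.val < 8) (low_iff C hgL) (e.symm x)) = σ x
    apply e.symm.injective
    refine Subtype.ext ?_
    rw [e.symm_apply_apply]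
    show C.p g (e.symm x).1 = _
    rw [hg, show τ = ofSubtype (e.symm.permCongr σ) from rfl,
      ofSubtype_apply_of_mem (e.symm.permCongr σ) (e.symm x).2]
    simp [Equiv.permCongr_apply]
  let z : Low C := ⟨C.z, z_mem_Low C⟩
  have hbot : Subgroup.center (alternatingGroup (Fin 8)) = ⊥ :=
    alternatingGroup.center_eq_bot (by rw [Nat.card_fin]; norm_num)
  have hcentre : Subgroup.center (Low C) = π.ker := by
    refine le_antisymm (fun g hg => ?_) fun g hg => ?_
    · rw [MonoidHom.mem_ker, ← Subgroup.mem_bot, ← hbot, Subgroup.mem_center_iff]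
      intro a
      obtain ⟨b, rfl⟩ := hsurj a
      rw [← map_mul, ← map_mul, Subgroup.mem_center_iff.1 hg b]
    · rw [Subgroup.mem_center_iff]
      intro b
      apply Subtype.ext
      rcases C.p_eq_one (hk g (MonoidHom.mem_ker.1 hg)) with h | h <;>
        simp [h, C.z_comm]
  have hzk : z ∈ π.ker := by
    rw [MonoidHom.mem_ker]
    refine Subtype.ext (Equiv.ext fun x => ?_)
    show e ((C.p C.z).subtypePerm (p := fun k : Fin n => k.val < 8) (low_iff C (z_mem_Low C)) (e.symm x)) = x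
    apply e.symm.injective
    refine Subtype.ext ?_
    rw [e.symm_apply_apply]
    show C.p C.z (e.symm x).1 = _
    rw [C.p_z, Perm.one_apply]
  refine ⟨?_, ⟨(QuotientGroup.quotientMulEquivOfEq hcentre).trans
      (QuotientGroup.quotientKerEquivOfSurjective π hsurj)⟩, fun K hK => ?_⟩
  · rw [hcentre, Nat.card_eq_two_iff]
    refine ⟨1, ⟨z, hzk⟩, fun h => C.z_ne (congrArg (fun g : π.ker => ((g : Low C) : H)) h).symm, ?_⟩
    refine Set.eq_univ_of_forall fun g => ?_
    rcases C.p_eq_one (hk g.1 (MonoidHom.mem_ker.1 g.2)) with h | h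
    · exact Or.inl (Subtype.ext (Subtype.ext h))
    · exact Or.inr (Subtype.ext (Subtype.ext h))
  · let a : Fin n := ⟨0, by omega⟩
    let b : Fin n := ⟨1, by omega⟩
    let c : Fin n := ⟨2, by omega⟩
    let d : Fin n := ⟨3, by omega⟩
    have ne : ∀ {i j : Fin n}, i.val ≠ j.val → i ≠ j := fun h e => h (congrArg Fin.val e)
    obtain ⟨w, hw⟩ := C.exists_lift (sign_double (a := a) (b := b) (c := c) (d := d) (ne (by simp [a, b]))
      (ne (by simp [c, d])))
    have hwL : w ∈ Low C := fun i hi => by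
      rw [hw, Perm.mul_apply,
        show swap c d i = i from
          swap_apply_of_ne_of_ne (ne (by show i.val ≠ 2; omega)) (ne (by show i.val ≠ 3; omega)),
        swap_apply_of_ne_of_ne (ne (by show i.val ≠ 0; omega)) (ne (by show i.val ≠ 1; omega))]
    have hw2 : w * w = C.z := C.dbl w a b c d (ne (by simp [a, b])) (ne (by simp [a, c]))
      (ne (by simp [a, d])) (ne (by simp [b, c])) (ne (by simp [b, d])) (ne (by simp [c, d])) hw
    obtain ⟨⟨⟨u, hu⟩, ⟨v, hv⟩⟩, huv⟩ := (hK.existsUnique ⟨w, hwL⟩).exists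
    have huv' : u * v = ⟨w, hwL⟩ := huv
    have hu2 : u * u = 1 := by
      have hu' : u ∈ π.ker := hcentre ▸ hu
      refine Subtype.ext ?_
      rcases C.p_eq_one (hk u (MonoidHom.mem_ker.1 hu')) with h | h <;> simp [h, C.z_sq]
    have hzK : z ∈ K := by
      have h2 : v * v = z := by
        calc v * v = (u * u) * (v * v) := by rw [hu2, one_mul]
          _ = u * (u * v) * v := by group
          _ = u * (v * u) * v := by rw [Subgroup.mem_center_iff.1 hu v]
          _ = (u * v) * (u * v) := by group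
          _ = z := by rw [huv']; exact Subtype.ext hw2
      rw [← h2]; exact mul_mem hv hv
    exact C.z_ne (congrArg Subtype.val
      (Subgroup.disjoint_def.1 hK.disjoint (hcentre ▸ hzk) hzK))

end Cover

variable {G : Type*} [Group G] [Finite G] {n : ℕ} (X : Ctx G n)

/-- An identification of the model centraliser with the lifts fixing the last points. -/
structure Lift (X : Ctx G n) where
  φ : CT →* HC X.z
  inj : Function.Injective φ
  range : φ.range = Low X.C
  map_t : φ ⟨t₀, mem_CT.mpr rfl⟩ = X.C.z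

theorem exists_lift_ct (hn : 8 ≤ n) : Nonempty (Lift X) := by
  classical
  have hcov := cover_low X.C hn
  obtain ⟨e⟩ := cover_iso McL.centralizer_cover hcov
  let z : CT := ⟨t₀, mem_CT.mpr rfl⟩
  have hz : z ∈ Subgroup.center CT := Subgroup.mem_center_iff.2 fun b => Subtype.ext (mem_CT.mp b.2)
  have hez : e z ∈ Subgroup.center (Low X.C) := Subgroup.mem_center_iff.2 fun b => by
    obtain ⟨a, rfl⟩ := e.surjective b
    rw [← map_mul, ← map_mul, Subgroup.mem_center_iff.1 hz a]
  have hz' : (⟨X.C.z, z_mem_Low X.C⟩ : Low X.C) ∈ Subgroup.center (Low X.C) :=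
    Subgroup.mem_center_iff.2 fun b => Subtype.ext (X.C.z_comm b)
  have hz1 : e z ≠ 1 := by
    rw [ne_eq, EmbeddingLike.map_eq_one_iff]
    intro h
    have h' : t₀ = 1 := congrArg Subtype.val h
    have := McL.orderOf_tInv
    rw [show McL.tInv = 1 from h', orderOf_one] at this
    omega
  have heq : e z = ⟨X.C.z, z_mem_Low X.C⟩ := by
    obtain ⟨a, b, hab, hset⟩ := Nat.card_eq_two_iff.mp hcov.1
    have all2 : ∀ g : Subgroup.center (Low X.C), g = a ∨ g = b := fun g => by
      have : g ∈ ({a, b} : Set (Subgroup.center (Low X.C))) := hset ▸ Set.mem_univ g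
      simpa using this
    have h1 : (⟨_, hz'⟩ : Subgroup.center (Low X.C)) ≠ 1 := fun h =>
      X.C.z_ne (congrArg (fun g : Subgroup.center (Low X.C) => ((g : Low X.C) : HC X.z)) h)
    have h2 : (⟨_, hez⟩ : Subgroup.center (Low X.C)) ≠ 1 := fun h => hz1 (congrArg Subtype.val h)
    refine congrArg Subtype.val (show (⟨_, hez⟩ : Subgroup.center (Low X.C)) = ⟨_, hz'⟩ from ?_)
    rcases all2 ⟨_, hez⟩ with p | p <;> rcases all2 ⟨_, hz'⟩ with q | q <;> rcases all2 1 with r | r <;>
      first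
        | exact p.trans q.symm
        | exact absurd (p.trans r.symm) h2
        | exact absurd (q.trans r.symm) h1
  refine ⟨⟨(Low X.C).subtype.comp e.toMonoidHom, (Low X.C).subtype_injective.comp e.injective, ?_, ?_⟩⟩
  · rw [MonoidHom.range_comp, MonoidHom.range_eq_top.2 e.surjective, ← MonoidHom.range_eq_map,
      Subgroup.range_subtype]
  · show ((e z : Low X.C) : HC X.z) = X.C.z
    rw [heq]

variable {X} (L : Lift X) (hn : 9 ≤ n ∧ n ≤ 10)

/-- The embedding into the group. -/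
noncomputable def Lift.f : CT →* G := (HC X.z).subtype.comp L.φ

theorem Lift.mem_range {g : G} (hg : g ∈ HC X.z) :
    g ∈ L.f.range ↔ (⟨g, hg⟩ : HC X.z) ∈ Low X.C := by
  constructor
  · rintro ⟨x, hx⟩
    rw [← L.range]
    exact ⟨x, Subtype.ext hx⟩
  · intro h
    rw [← L.range] at h
    obtain ⟨x, hx⟩ := h
    exact ⟨x, congrArg Subtype.val hx⟩

theorem Lift.φ_low (x : CT) : L.φ x ∈ Low X.C := L.range ▸ ⟨x, rfl⟩

/-- An element of the model centraliser of order two which is not central gives an involution. -/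
noncomputable def Lift.ninv (x : CT) (h2 : x * x = 1) (h1 : (x : M) ≠ 1) (ht : (x : M) ≠ t₀) : NInv X.C where
  t := L.φ x
  sq := by rw [← map_mul, h2, map_one]
  ne_one := fun e => h1 (congrArg Subtype.val (L.inj (e.trans (map_one L.φ).symm)))
  ne_z := fun e => ht (congrArg Subtype.val (L.inj (e.trans L.map_t.symm)))

/-- The image of a side. -/
noncomputable def Lift.el {Sd : Side} (h : Sd.Ok) (i : ℕ) (hi : i < 16) : HC X.z :=
  L.φ ⟨Sd.el i, E_le_CT h (el_mem h hi)⟩

theorem Lift.el_f {Sd : Side} (h : Sd.Ok) {i : ℕ} (hi : i < 16) :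
    ((L.el h i hi : HC X.z) : G) ∈ ((Sd.E h).subgroupOf CT).map L.f :=
  ⟨⟨Sd.el i, E_le_CT h (el_mem h hi)⟩, el_mem h hi, rfl⟩

/-- The permutations of a side. -/
noncomputable def Lift.e {Sd : Side} (h : Sd.Ok) (i : Fin 8) : Perm (Fin n) :=
  X.C.p (L.el h (2 * i.val) (by omega))

theorem Lift.e_mul {Sd : Side} (h : Sd.Ok) (i j : Fin 8) : L.e h i * L.e h j = L.e h (i ^^^ j) := by
  have hx : Nat.xor (2 * i.val) (2 * j.val) = 2 * (i ^^^ j).val := by revert i j; decide
  show X.C.p (L.el h _ _) * X.C.p (L.el h _ _) = X.C.p (L.el h _ _)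
  rw [← map_mul, Lift.el, Lift.el, Lift.el, ← map_mul]
  congr 2
  exact Subtype.ext ((el_mul h (by omega) (by omega)).trans (congrArg Sd.el hx))

theorem Lift.p_el {Sd : Side} (h : Sd.Ok) {k : ℕ} (hk : k < 16) :
    X.C.p (L.el h k hk) = L.e h ⟨k / 2, by omega⟩ := by
  have hk' : Nat.xor (2 * (k / 2)) (k % 2) = k := by
    interval_cases k <;> rfl
  have hd : Sd.el (2 * (k / 2)) * Sd.el (k % 2) = Sd.el k := by
    rw [el_mul h (by omega) (by omega), hk']
  have : L.el h k hk = L.el h (2 * (k / 2)) (by omega) * L.el h (k % 2) (by omega) := by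
    rw [Lift.el, Lift.el, Lift.el, ← map_mul]
    congr 1
    exact Subtype.ext hd.symm
  rw [this, map_mul]
  show L.e h ⟨k / 2, by omega⟩ * _ = _
  rcases Nat.mod_two_eq_zero_or_one k with h0 | h0
  · have : L.el h (k % 2) (by omega) = 1 := by
      rw [Lift.el, show (⟨Sd.el (k % 2), E_le_CT h (el_mem h (by omega))⟩ : CT) = 1 from
        Subtype.ext (by show Sd.el (k % 2) = 1; rw [h0, el_zero h]), map_one]
    rw [this, map_one, mul_one]
  · have : L.el h (k % 2) (by omega) = X.C.z := by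
      rw [Lift.el, ← L.map_t]
      congr 1
      exact Subtype.ext (by show Sd.el (k % 2) = t₀; rw [h0, el_one h])
    rw [this, X.C.p_z, mul_one]

include hn

theorem Lift.e_free {Sd : Side} (h : Sd.Ok) (i : Fin 8) (k : Fin n) (hk : k.val < 8)
    (he : L.e h i k = k) : i = 0 := by
  by_contra hi
  have hi0 : i.val ≠ 0 := fun e => hi (Fin.ext e)
  have hlt : 2 * i.val < 16 := by omega
  let T := L.ninv ⟨Sd.el (2 * i.val), E_le_CT h (el_mem h hlt)⟩
    (Subtype.ext (el_sq h hlt))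
    (fun e => absurd (el_inj h hlt (by norm_num) (e.trans (el_zero h).symm)) (by omega))
    (fun e => absurd (el_inj h hlt (by norm_num) (e.trans (el_one h).symm)) (by omega))
  have := (T.fixed_iff hn (L.φ_low _) k).1 he
  omega

theorem Lift.low_of_normalizer {Sd : Side} (h : Sd.Ok) {g : HC X.z}
    (hg : ∀ y ∈ ((Sd.E h).subgroupOf CT).map L.f, (g : G) * y * (g : G)⁻¹ ∈ ((Sd.E h).subgroupOf CT).map L.f) :
    g ∈ Low X.C := by
  have hnorm : ∀ k (hk : k < 16), ∃ j, ∃ hj : j < 16, g * L.el h k hk * g⁻¹ = L.el h j hj := fun k hk => by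
    obtain ⟨⟨x, hxC⟩, hx, hxe⟩ := hg _ (L.el_f h hk)
    obtain ⟨j, hj, rfl⟩ := (mem_E h).1 hx
    exact ⟨j, hj, Subtype.ext hxe.symm⟩
  let T := L.ninv ⟨Sd.el 2, E_le_CT h (el_mem h (by norm_num))⟩ (Subtype.ext (el_sq h (by norm_num)))
    (fun e => absurd (el_inj h (by norm_num) (by norm_num) (e.trans (el_zero h).symm)) (by norm_num))
    (fun e => absurd (el_inj h (by norm_num) (by norm_num) (e.trans (el_one h).symm)) (by norm_num))
  obtain ⟨j, hj, hje⟩ := hnorm 2 (by norm_num)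
  have hjL : g * T.t * g⁻¹ ∈ Low X.C := by
    show g * L.el h 2 (by norm_num) * g⁻¹ ∈ _
    rw [hje]; exact L.φ_low _
  have hinv : ∀ i : Fin n, 8 ≤ i.val → 8 ≤ (X.C.p g⁻¹ i).val := fun i hi =>
    T.maps_high hn (L.φ_low _) hjL hi
  have hsur : (high n).image (X.C.p g⁻¹) = high n := Finset.eq_of_subset_of_card_le
    (fun y hy => by
      obtain ⟨x, hx, rfl⟩ := Finset.mem_image.1 hy
      exact mem_high.2 (hinv x (mem_high.1 hx)))
    (by rw [Finset.card_image_of_injective _ (X.C.p g⁻¹).injective])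
  have hhigh : ∀ i : Fin n, 8 ≤ i.val → 8 ≤ (X.C.p g i).val := fun i hi => by
    obtain ⟨x, hx, hxe⟩ := Finset.mem_image.1 (hsur.symm.subset (mem_high.2 hi))
    rw [← hxe, ← Perm.mul_apply, ← map_mul, mul_inv_cancel, map_one, Perm.one_apply]
    exact mem_high.1 hx
  exact fixes_high hn (L.e h) (fun i => X.C.p_mem _) (L.e_mul h)
    (fun i k hk => L.φ_low _ k hk) (L.e_free hn h) (X.C.p_mem g) hhigh fun i => by
      obtain ⟨j, hj, hje⟩ := hnorm (2 * i.val) (by omega)
      refine ⟨⟨j / 2, by omega⟩, ?_⟩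
      rw [← L.p_el h hj, ← hje, map_mul, map_mul, map_inv]
      rfl

/-- The amalgam data. -/
noncomputable def Lift.emb : Amal.Emb G where
  t := X.z
  ord := X.order
  f := L.f
  inj := (HC X.z).subtype_injective.comp L.inj
  range_le := by rintro _ ⟨x, rfl⟩; exact (L.φ x).2
  map_t := by
    show ((L.φ ⟨t₀, mem_CT.mpr rfl⟩ : HC X.z) : G) = X.z
    rw [L.map_t, X.z_eq]
  norm Sd h g hc hy := by
    have hgH : g ∈ HC X.z := Subgroup.mem_centralizer_singleton_iff.2 hc
    exact (L.mem_range hgH).2 (L.low_of_normalizer hn h (g := ⟨g, hgH⟩) hy)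
  pull P hP h2 ht := by
    have hPH : P ≤ HC X.z := fun x hx => by
      refine Subgroup.mem_centralizer_singleton_iff.2 ?_
      have := h2 _ (mul_mem hx ht)
      calc x * X.z = (x * X.z)⁻¹ := eq_inv_of_mul_eq_one_left this
        _ = X.z⁻¹ * x⁻¹ := mul_inv_rev _ _
        _ = X.z * x := by rw [inv_eq_of_mul_eq_one_right X.z_sq, inv_eq_of_mul_eq_one_right (h2 x hx)]
    obtain ⟨c, hc⟩ := exists_conj_elem X.C hn (P := P.subgroupOf (HC X.z))
      (by rw [Nat.card_congr (Subgroup.subgroupOfEquivOfLe hPH).toEquiv, hP])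
      (fun x hx => Subtype.ext (h2 _ hx))
      (by show (X.C.z : G) ∈ P; rw [X.z_eq]; exact ht)
    refine ⟨c, Subgroup.mem_centralizer_singleton_iff.1 c.2, fun x hx => ?_⟩
    exact (L.mem_range (mul_mem (mul_mem c.2 (hPH hx)) (inv_mem c.2))).2 (hc ⟨x, hPH hx⟩ hx)

theorem Lift.fus : Amal.Fus (L.emb hn) := by
  rcases (show n = 9 ∨ n = 10 by omega) with h9 | h10
  · left
    intro g hg
    refine Amal.not_fused (L.emb hn) (fun m hm hT => ?_) hg
    have hmH : m ∈ HC X.z := Subgroup.mem_centralizer_singleton_iff.2 hm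
    refine (L.mem_range hmH).2 ?_
    have hsyl : ∀ i (hi : i < 16), ((L.el sideE_ok i hi : HC X.z) : G) ∈ (L.emb hn).im McL.sylTwo := fun i hi =>
      ⟨⟨sideE.el i, E_le_CT sideE_ok (el_mem sideE_ok hi)⟩, E_le_syl sideE_ok (el_mem sideE_ok hi), rfl⟩
    let T := L.ninv ⟨sideE.el 2, E_le_CT sideE_ok (el_mem sideE_ok (by norm_num))⟩
      (Subtype.ext (el_sq sideE_ok (by norm_num)))
      (fun e => absurd (el_inj sideE_ok (by norm_num) (by norm_num) (e.trans (el_zero sideE_ok).symm)) (by norm_num))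
      (fun e => absurd (el_inj sideE_ok (by norm_num) (by norm_num) (e.trans (el_one sideE_ok).symm)) (by norm_num))
    have hTL : (⟨m, hmH⟩ : HC X.z) * T.t * (⟨m, hmH⟩ : HC X.z)⁻¹ ∈ Low X.C := by
      refine (L.mem_range (Subtype.prop ((⟨m, hmH⟩ : HC X.z) * T.t * (⟨m, hmH⟩ : HC X.z)⁻¹))).1 ?_
      obtain ⟨x, -, hx⟩ := (hT _).1 (hsyl 2 (by norm_num))
      exact ⟨x, hx⟩
    intro i hi
    have h1 := T.maps_high hn (L.φ_low _) hTL hi
    have : X.C.p (⟨m, hmH⟩ : HC X.z)⁻¹ i = i := Fin.ext (by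
      have := (X.C.p (⟨m, hmH⟩ : HC X.z)⁻¹ i).isLt
      have := i.isLt
      omega)
    conv_lhs => rw [← this, map_inv]
    exact NInv.apply_inv_apply' _ _
  · right
    have h10' : 10 ≤ n := by omega
    let a : Fin n := ⟨8, by omega⟩
    let b : Fin n := ⟨9, by omega⟩
    let c : Fin n := ⟨0, by omega⟩
    let d : Fin n := ⟨1, by omega⟩
    have ne : ∀ {i j : Fin n}, i.val ≠ j.val → i ≠ j := fun h e => h (congrArg Fin.val e)
    obtain ⟨s, hs⟩ := X.C.exists_lift (sign_double (a := a) (b := b) (c := c) (d := d) (ne (by simp [a, b]))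
      (ne (by simp [c, d])))
    have hsa : X.C.p s a = b := by
      rw [hs, Perm.mul_apply, show swap c d a = a from
        swap_apply_of_ne_of_ne (ne (by simp [a, c])) (ne (by simp [a, d])), swap_apply_left]
    have hsb : X.C.p s b = a := by
      rw [hs, Perm.mul_apply, show swap c d b = b from
        swap_apply_of_ne_of_ne (ne (by simp [b, c])) (ne (by simp [b, d])), swap_apply_right]
    have hst : (s : G) * X.z = X.z * s := Subgroup.mem_centralizer_singleton_iff.1 s.2
    have hsL : ∀ x ∈ Low X.C, s * x * s⁻¹ ∈ Low X.C := fun x hx i hi => by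
      have hsi : 8 ≤ (X.C.p s⁻¹ i).val := by
        have hab : i = a ∨ i = b := by
          have := i.isLt
          rcases (show i.val = 8 ∨ i.val = 9 by omega) with e | e
          · exact Or.inl (Fin.ext e)
          · exact Or.inr (Fin.ext e)
        rcases hab with rfl | rfl
        · rw [map_inv, ← hsb, NInv.inv_apply_apply']; exact Nat.le_succ 8
        · rw [map_inv, ← hsa, NInv.inv_apply_apply']
      rw [map_mul, map_mul, Perm.mul_apply, Perm.mul_apply, hx _ hsi, map_inv, NInv.apply_inv_apply']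
    set S := L.emb hn
    have hP16 : Nat.card ((S.im E₀).map (MulAut.conj (s : G)).toMonoidHom) = 16 := by
      rw [Subgroup.card_map_of_injective (MulAut.conj (s : G)).injective,
        Amal.card_im S (E_le_CT sideE_ok), card_E sideE_ok]
    obtain ⟨c', ⟨hc', hcr⟩, hP⟩ := Amal.elem_conj S hP16
      (by
        rintro _ ⟨_, ⟨⟨x, hxC⟩, hx, rfl⟩, rfl⟩
        obtain ⟨k, hk, rfl⟩ := (mem_E sideE_ok).1 hx
        rw [← map_mul, ← map_mul, show (⟨sideE.el k, hxC⟩ : CT) * ⟨sideE.el k, hxC⟩ = 1 from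
          Subtype.ext (el_sq sideE_ok hk), map_one, map_one])
      (by
        rintro _ ⟨_, ⟨x, -, rfl⟩, rfl⟩
        exact (L.mem_range (mul_mem (mul_mem s.2 (L.φ x).2) (inv_mem s.2))).2 (hsL _ (L.φ_low x)))
      ⟨X.z, (Amal.mem_im S (E_le_CT sideE_ok)).2 ⟨sideE.el 1, el_mem sideE_ok (by norm_num), by
          rw [el_one sideE_ok, Amal.fM_t]; rfl⟩, by
        show (s : G) * X.z * (s : G)⁻¹ = X.z
        rw [hst, mul_inv_cancel_right]⟩
    have hc'z : c' * X.z = X.z * c' := hc'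
    have hm : ∀ x, x ∈ S.im E₀ ↔ (s : G) * x * (s : G)⁻¹ ∈ (S.im E₀).map (MulAut.conj (s : G)).toMonoidHom :=
      fun x => ⟨fun hx => ⟨x, hx, rfl⟩, fun ⟨y, hy, e⟩ => by
        have e' : (s : G) * y * (s : G)⁻¹ = (s : G) * x * (s : G)⁻¹ := e
        rwa [← mul_left_cancel (mul_right_cancel e')]⟩
    have hcs : c' * (s : G) * X.z = X.z * (c' * (s : G)) := by
      rw [mul_assoc, hst, ← mul_assoc, hc'z, mul_assoc]
    rcases hP with hP | hP
    · exfalso
      have hgH : c' * (s : G) ∈ HC X.z := Subgroup.mem_centralizer_singleton_iff.2 hcs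
      have hcH : c' ∈ HC X.z := Subgroup.mem_centralizer_singleton_iff.2 hc'z
      have h1 := L.low_of_normalizer hn sideE_ok (g := ⟨c' * (s : G), hgH⟩) fun y hy => by
        have := (hP _).1 ((hm y).1 hy)
        show c' * (s : G) * y * (c' * (s : G))⁻¹ ∈ S.im E₀
        simpa [mul_assoc] using this
      have hcc : (⟨c' * (s : G), hgH⟩ : HC X.z) = ⟨c', hcH⟩ * s := Subtype.ext rfl
      have h2 : (⟨c', hcH⟩ : HC X.z) ∈ Low X.C := (L.mem_range hcH).1 hcr
      rw [hcc] at h1
      have h3 := ((Low X.C).mul_mem_cancel_left h2).1 h1 a (by show 8 ≤ 8; norm_num)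
      rw [hsa] at h3
      exact absurd (congrArg Fin.val h3) (by simp [a, b])
    · exact ⟨c' * (s : G), hcs, fun x => by
        rw [show x ∈ (E₀.subgroupOf CT).map S.f ↔ x ∈ S.im E₀ from Iff.rfl, hm, hP]
        show c' * ((s : G) * x * (s : G)⁻¹) * c'⁻¹ ∈ S.im F₀ ↔ c' * (s : G) * x * (c' * (s : G))⁻¹ ∈ S.im F₀
        simp only [mul_assoc, mul_inv_rev]⟩

/-- All involutions are conjugate. -/
theorem Lift.conj_of (T : NInv X.C) : IsConj ((L.φ ⟨v₀, v_facts.2.2.2⟩ : HC X.z) : G) (T.t : G) := by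
  obtain ⟨c, hc⟩ := T.exists_conj_Low hn
  rw [← L.range] at hc
  obtain ⟨⟨y, hy⟩, hye⟩ := hc
  have hy2 : (⟨y, hy⟩ : CT) * ⟨y, hy⟩ = 1 := L.inj (by
    rw [map_mul, map_one, hye, show c * T.t * c⁻¹ * (c * T.t * c⁻¹) = c * (T.t * T.t) * c⁻¹ by group,
      T.sq, mul_one, mul_inv_cancel])
  rcases invol_CT hy (congrArg Subtype.val hy2) with h | h | ⟨d, hd, h⟩
  · exfalso
    rw [show (⟨y, hy⟩ : CT) = 1 from Subtype.ext h, map_one] at hye
    exact T.ne_one (conj_eq_one_iff.1 hye.symm)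
  · exfalso
    rw [show (⟨y, hy⟩ : CT) = ⟨t₀, mem_CT.mpr rfl⟩ from Subtype.ext h, L.map_t] at hye
    refine T.ne_z ?_
    calc T.t = c⁻¹ * (c * T.t * c⁻¹) * c := by group
      _ = c⁻¹ * X.C.z * c := by rw [← hye]
      _ = X.C.z := by rw [mul_assoc, ← X.C.z_comm, inv_mul_cancel_left]
  · refine isConj_iff.2 ⟨((c⁻¹ * L.φ ⟨d, hd⟩ : HC X.z) : G), ?_⟩
    have : (c⁻¹ * L.φ ⟨d, hd⟩) * L.φ ⟨v₀, v_facts.2.2.2⟩ * (c⁻¹ * L.φ ⟨d, hd⟩)⁻¹ = T.t := by
      calc _ = c⁻¹ * (L.φ ⟨d, hd⟩ * L.φ ⟨v₀, v_facts.2.2.2⟩ * (L.φ ⟨d, hd⟩)⁻¹) * c := by group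
        _ = c⁻¹ * L.φ ⟨y, hy⟩ * c := by
          rw [← map_inv, ← map_mul, ← map_mul]
          congr 3
          exact Subtype.ext h
        _ = T.t := by rw [hye]; group
    exact congrArg Subtype.val this

theorem all_conj {g : G} (hg : Commute X.z (g * X.z * g⁻¹)) (hne : g * X.z * g⁻¹ ≠ X.z) (i : G)
    (hi : orderOf i = 2) : IsConj X.z i := by
  classical
  obtain ⟨L⟩ := exists_lift_ct X (by omega)
  have hv : IsConj X.z ((L.φ ⟨v₀, v_facts.2.2.2⟩ : HC X.z) : G) :=
    (show IsConj X.z (g * X.z * g⁻¹) from isConj_iff.2 ⟨g, rfl⟩).trans (L.conj_of hn (X.ninv hg hne)).symm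
  have hC : ∀ i : G, orderOf i = 2 → i * X.z = X.z * i → IsConj X.z i := fun i hi hc => by
    by_cases h : i = X.z
    · rw [h]
    · have hiH : i ∈ HC X.z := Subgroup.mem_centralizer_singleton_iff.2 hc
      refine hv.trans (L.conj_of hn ⟨⟨i, hiH⟩, ?_, ?_, ?_⟩)
      · exact Subtype.ext (Invol.mul_self_eq_one hi)
      · exact fun e => Invol.ne_one hi (congrArg Subtype.val e)
      · exact fun e => h ((congrArg Subtype.val e).trans X.z_eq)
  by_contra hne'
  obtain ⟨w, hw2, hw⟩ : ∃ w : G, orderOf w = 2 ∧ Commute w X.z ∧ Commute w i := by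
    obtain ⟨-, w, hw, h1, h2, -⟩ := Invol.exists_central_of_not_isConj X.order hi hne'
    exact ⟨w, hw, h1, h2⟩
  obtain ⟨k, hk⟩ := isConj_iff.1 (hC w hw2 hw.1.eq).symm
  have hi' : orderOf (k * i * k⁻¹) = 2 := by rw [Invol.orderOf_conj, hi]
  have hcomm : k * i * k⁻¹ * X.z = X.z * (k * i * k⁻¹) := by
    rw [← hk]
    exact ((Commute.conj_iff k).2 hw.2.symm).eq
  exact hne' ((hC _ hi' hcomm).trans (isConj_iff.2 ⟨k, rfl⟩).symm)

/-- The model maps into the group. -/
theorem exists_model {g : G} (hg : Commute X.z (g * X.z * g⁻¹)) (hne : g * X.z * g⁻¹ ≠ X.z) :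
    ∃ (L : Lift X) (θ : M →* G), Function.Injective θ ∧ ∀ x : CT, θ x = L.f x := by
  obtain ⟨L⟩ := exists_lift_ct X (by omega)
  obtain ⟨θ, hθ⟩ := Amal.exists_hom (L.fus hn) (all_conj hn hg hne)
  have hθ' : ∀ x : CT, θ x = L.f x := fun x => (hθ x x.2).trans (Amal.fM_eq _ x.2)
  refine ⟨L, θ, ?_, hθ'⟩
  rcases θ.normal_ker.eq_bot_or_eq_top with h | h
  · exact (MonoidHom.ker_eq_bot_iff θ).1 h
  · exfalso
    have h1 : θ t₀ = 1 := MonoidHom.mem_ker.1 (h ▸ Subgroup.mem_top _)
    rw [hθ' ⟨t₀, mem_CT.mpr rfl⟩] at h1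
    exact X.z_ne (by rw [← h1]; exact (L.emb hn).map_t.symm)

end Cfsg.Agent.CoverDegree
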