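import Cfsg.Agent.CoverDegree.Fix
import Mathlib.GroupTheory.SpecificGroups.Alternating.Simple
import Mathlib.GroupTheory.PGroup

/-!
Degrees nine and ten: facts about three-elements of the double cover.
-/

set_option autoImplicit false
set_option linter.unusedSectionVars false

namespace Cfsg.Agent.CoverDegree

open Equiv Equiv.Perm

theorem exists_pts {α : Type*} (s : Finset α) {k : ℕ} (h : k ≤ s.card) :
    ∃ f : Fin k → α, Function.Injective f ∧ ∀ i, f i ∈ s :=
  ⟨fun i => (s.equivFin.symm (Fin.castLE h i)).1,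
    fun _ _ e => Fin.castLE_injective h (s.equivFin.symm.injective (Subtype.ext e)),
    fun i => (s.equivFin.symm (Fin.castLE h i)).2⟩

theorem eq_one_of_two_three {α : Type*} [Group α] {x : α} (h2 : x * x = 1) (h3 : x ^ 3 = 1) : x = 1 := by
  rwa [pow_succ, pow_two, h2, one_mul] at h3

/-- An inverted commutative group of exponent three on at most ten points. -/
theorem card_inverted_perm {n : ℕ} (hn : n ≤ 10) {τ : Perm (Fin n)} (hτ : τ * τ = 1)
    (hfix : τ.supportᶜ.card ≤ 2) (A : Subgroup (Perm (Fin n)))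
    (hc : ∀ a ∈ A, ∀ b ∈ A, Commute a b) (h3 : ∀ a ∈ A, a ^ 3 = 1)
    (hi : ∀ a ∈ A, τ * a = a⁻¹ * τ) : Nat.card A ≤ 9 := by
  classical
  let O : Fin n → Finset (Fin n) := fun x => Finset.univ.filter fun y => ∃ a ∈ A, a x = y
  have hO : ∀ {x y}, y ∈ O x ↔ ∃ a ∈ A, a x = y := fun {x y} => by simp [O]
  have self : ∀ x, x ∈ O x := fun x => hO.2 ⟨1, A.one_mem, rfl⟩
  have stab : ∀ {x y}, y ∈ O x → ∀ a ∈ A, a x = x → a y = y := fun {x y} hy a ha hx => by
    obtain ⟨b, hb, rfl⟩ := hO.1 hy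
    rw [← Perm.mul_apply, (hc a ha b hb).eq, Perm.mul_apply, hx]
  have symm : ∀ {x y}, y ∈ O x → x ∈ O y := fun {x y} hy => by
    obtain ⟨b, hb, rfl⟩ := hO.1 hy
    exact hO.2 ⟨b⁻¹, inv_mem hb, b.symm_apply_apply x⟩
  have trans' : ∀ {x y w}, y ∈ O x → w ∈ O y → w ∈ O x := fun {x y w} hy hw => by
    obtain ⟨b, hb, rfl⟩ := hO.1 hy
    obtain ⟨a, ha, rfl⟩ := hO.1 hw
    exact hO.2 ⟨a * b, mul_mem ha hb, rfl⟩
  have disj : ∀ {x y}, y ∉ O x → _root_.Disjoint (O x) (O y) := fun {x y} hy => by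
    rw [Finset.disjoint_left]
    exact fun w hw hw' => hy (trans' hw (symm hw'))
  have hp : IsPGroup 3 A := fun a => ⟨1, Subtype.ext (by simpa using h3 a a.2)⟩
  have : Fact (Nat.Prime 3) := ⟨Nat.prime_three⟩
  have card_le10 : ∀ x, (O x).card ≤ n := fun x => by
    simpa using Finset.card_le_univ (O x)
  have size : ∀ x, (O x).card = 1 ∨ (O x).card = 3 ∨ (O x).card = 9 := fun x => by
    have e : (O x).card = Nat.card (MulAction.orbit A x) := by
      rw [Nat.card_coe_set_eq, ← Set.ncard_coe_finset]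
      congr 1
      ext y
      rw [Finset.mem_coe, hO, MulAction.mem_orbit_iff]
      exact ⟨fun ⟨a, ha, h⟩ => ⟨⟨a, ha⟩, h⟩, fun ⟨a, h⟩ => ⟨a, a.2, h⟩⟩
    obtain ⟨k, hk⟩ := hp.card_orbit x
    rw [← e] at hk
    have := card_le10 x
    have : k ≤ 2 := by
      by_contra h
      have := Nat.pow_le_pow_right (show 0 < 3 by norm_num) (show 3 ≤ k by omega)
      omega
    interval_cases k <;> omega
  have moved : ∀ {x}, (∃ a ∈ A, a x ≠ x) → 3 ≤ (O x).card := fun {x} ⟨a, ha, hax⟩ => by
    have : 1 < (O x).card := Finset.one_lt_card.2 ⟨x, self x, a x, hO.2 ⟨a, ha, rfl⟩, fun e => hax e.symm⟩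
    rcases size x with h | h | h <;> omega
  have one_pt : ∀ x, (∀ a ∈ A, a x = x → ∀ y, a y = y) → Nat.card A ≤ (O x).card := fun x hx => by
    rw [← Nat.card_eq_finsetCard]
    refine Nat.card_le_card_of_injective (fun a : A => (⟨a.1 x, hO.2 ⟨a, a.2, rfl⟩⟩ : O x)) fun a b e => ?_
    have e' : a.1 x = b.1 x := congrArg Subtype.val e
    refine Subtype.ext ?_
    have h : b.1⁻¹ * a.1 = 1 := Equiv.ext (hx _ (mul_mem (inv_mem b.2) a.2) (by
      rw [Perm.mul_apply, e']; exact Equiv.symm_apply_apply _ _))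
    exact (inv_mul_eq_one.1 h).symm
  have two_pt : ∀ x y, (∀ a ∈ A, a x = x → a y = y → ∀ w, a w = w) →
      Nat.card A ≤ (O x).card * (O y).card := fun x y hx => by
    rw [← Finset.card_product, ← Nat.card_eq_finsetCard]
    refine Nat.card_le_card_of_injective (fun a : A => (⟨(a.1 x, a.1 y), Finset.mem_product.2
      ⟨hO.2 ⟨a, a.2, rfl⟩, hO.2 ⟨a, a.2, rfl⟩⟩⟩ : ((O x) ×ˢ (O y) : Finset _))) fun a b e => ?_
    have e' : (a.1 x, a.1 y) = (b.1 x, b.1 y) := congrArg Subtype.val e
    refine Subtype.ext ?_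
    have e1 : a.1 x = b.1 x := congrArg Prod.fst e'
    have e2 : a.1 y = b.1 y := congrArg Prod.snd e'
    have h : b.1⁻¹ * a.1 = 1 := Equiv.ext (hx _ (mul_mem (inv_mem b.2) a.2) (by
      rw [Perm.mul_apply, e1]; exact Equiv.symm_apply_apply _ _) (by
      rw [Perm.mul_apply, e2]; exact Equiv.symm_apply_apply _ _))
    exact (inv_mul_eq_one.1 h).symm
  have hττ : ∀ x, τ (τ x) = x := fun x => by rw [← Perm.mul_apply, hτ, Perm.one_apply]
  have himg : ∀ x, O (τ x) = (O x).image τ := fun x => by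
    ext y
    rw [hO, Finset.mem_image]
    constructor
    · rintro ⟨a, ha, rfl⟩
      refine ⟨a⁻¹ x, hO.2 ⟨a⁻¹, inv_mem ha, rfl⟩, ?_⟩
      rw [← Perm.mul_apply, hi _ (inv_mem ha), inv_inv, Perm.mul_apply]
    · rintro ⟨w, hw, rfl⟩
      obtain ⟨a, ha, rfl⟩ := hO.1 hw
      refine ⟨a⁻¹, inv_mem ha, ?_⟩
      rw [← Perm.mul_apply, ← hi a ha, Perm.mul_apply]
  by_cases hA : ∃ x, (∃ a ∈ A, a x ≠ x) ∧ τ x ∉ O x
  · obtain ⟨x, hx, hτx⟩ := hA
    have hs : (O (τ x)).card = (O x).card := by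
      rw [himg, Finset.card_image_of_injective _ τ.injective]
    have h2 := Finset.card_union_of_disjoint (disj hτx)
    have h2' := Finset.card_le_univ (O x ∪ O (τ x))
    rw [Fintype.card_fin] at h2'
    have hs3 : (O x).card = 3 := by have := moved hx; rcases size x with h | h | h <;> omega
    have hτfix : ∀ a ∈ A, a x = x → a (τ x) = τ x := fun a ha e => by
      have := congrArg (fun f : Perm (Fin n) => f x) (hi _ (inv_mem ha))
      simp only [Perm.mul_apply, inv_inv] at this
      rw [show a⁻¹ x = x from by conv_lhs => rw [← e]; exact a.symm_apply_apply x] at this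
      exact this.symm
    by_cases hy : ∃ y, y ∉ O x ∧ y ∉ O (τ x) ∧ ∃ a ∈ A, a y ≠ y
    · obtain ⟨y, hy1, hy2, hy3⟩ := hy
      have hd : _root_.Disjoint (O x ∪ O (τ x)) (O y) :=
        Finset.disjoint_union_left.2 ⟨disj hy1, disj hy2⟩
      have h3' := Finset.card_union_of_disjoint hd
      have h3'' := Finset.card_le_univ (O x ∪ O (τ x) ∪ O y)
      rw [Fintype.card_fin] at h3''
      have hy' : (O y).card = 3 := by have := moved hy3; rcases size y with h | h | h <;> omega
      refine (two_pt x y fun a ha hax hay w => ?_).trans (by rw [hs3, hy'])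
      by_contra hw
      by_cases w1 : w ∈ O x
      · exact hw (stab w1 a ha hax)
      by_cases w2 : w ∈ O (τ x)
      · exact hw (stab w2 a ha (hτfix a ha hax))
      by_cases w3 : w ∈ O y
      · exact hw (stab w3 a ha hay)
      have hd' : _root_.Disjoint (O x ∪ O (τ x) ∪ O y) (O w) :=
        Finset.disjoint_union_left.2 ⟨Finset.disjoint_union_left.2 ⟨disj w1, disj w2⟩, disj w3⟩
      have h4 := Finset.card_union_of_disjoint hd'
      have h4' := Finset.card_le_univ (O x ∪ O (τ x) ∪ O y ∪ O w)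
      rw [Fintype.card_fin] at h4'
      have := moved (x := w) ⟨a, ha, hw⟩
      omega
    · refine (one_pt x fun a ha hax w => ?_).trans (by omega)
      by_contra hw
      by_cases w1 : w ∈ O x
      · exact hw (stab w1 a ha hax)
      by_cases w2 : w ∈ O (τ x)
      · exact hw (stab w2 a ha (hτfix a ha hax))
      exact hy ⟨w, w1, w2, a, ha, hw⟩
  · push Not at hA
    have hfixpt : ∀ x, (∃ a ∈ A, a x ≠ x) → ∃ f ∈ τ.supportᶜ, x ∈ O f := fun x hx => by
      obtain ⟨a, ha, hax⟩ := hO.1 (hA x hx)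
      refine ⟨(a * a) x, ?_, symm (hO.2 ⟨a * a, mul_mem ha ha, rfl⟩)⟩
      rw [Finset.mem_compl, mem_support, not_not, ← Perm.mul_apply, hi _ (mul_mem ha ha), Perm.mul_apply,
        ← hax]
      have := h3 a ha
      rw [pow_succ, pow_two] at this
      rw [show (a * a)⁻¹ = a from inv_eq_of_mul_eq_one_right this]
      exact (Perm.mul_apply a a x).symm
    by_cases hAbot : ∀ a ∈ A, a = 1
    · have : Subsingleton A := ⟨fun a b => Subtype.ext ((hAbot a a.2).trans (hAbot b b.2).symm)⟩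
      rw [Nat.card_unique]
      norm_num
    push Not at hAbot
    obtain ⟨a₀, ha₀, hne⟩ := hAbot
    obtain ⟨x₀, hx₀⟩ : ∃ x, a₀ x ≠ x := by
      by_contra h
      push Not at h
      exact hne (Equiv.ext h)
    obtain ⟨f₁, hf₁, -⟩ := hfixpt x₀ ⟨a₀, ha₀, hx₀⟩
    by_cases hf : ∃ f₂ ∈ τ.supportᶜ, f₂ ∉ O f₁
    · obtain ⟨f₂, hf₂, hne2⟩ := hf
      have hF : τ.supportᶜ = {f₁, f₂} := (Finset.eq_of_subset_of_card_le
        (fun y hy => by
          simp only [Finset.mem_insert, Finset.mem_singleton] at hy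
          rcases hy with rfl | rfl <;> assumption)
        (by rw [Finset.card_pair (fun e => hne2 (by rw [← e]; exact self f₁))]; exact hfix)).symm
      have h2 := Finset.card_union_of_disjoint (disj hne2)
      have h2' := Finset.card_le_univ (O f₁ ∪ O f₂)
      rw [Fintype.card_fin] at h2'
      refine (two_pt f₁ f₂ fun a ha e1 e2 w => ?_).trans ?_
      · by_contra hw
        obtain ⟨f, hf', hwf⟩ := hfixpt w ⟨a, ha, hw⟩
        rw [hF, Finset.mem_insert, Finset.mem_singleton] at hf'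
        rcases hf' with rfl | rfl
        · exact hw (stab hwf a ha e1)
        · exact hw (stab hwf a ha e2)
      · rcases size f₁ with h | h | h <;> rcases size f₂ with h' | h' | h' <;> rw [h, h'] <;> omega
    · push Not at hf
      refine (one_pt f₁ fun a ha e1 w => ?_).trans ?_
      · by_contra hw
        obtain ⟨f, hf', hwf⟩ := hfixpt w ⟨a, ha, hw⟩
        exact hw (stab hwf a ha (stab (hf f hf') a ha e1))
      · rcases size f₁ with h | h | h <;> omega

variable {H : Type*} [Group H] {n : ℕ} {C : Cov H n}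

/-- Commuting elements of order three inverted by a noncentral involution. -/
theorem NInv.card_inverted_le (T : NInv C) (hn : 9 ≤ n ∧ n ≤ 10) (S : Set H)
    (hc : ∀ a ∈ S, ∀ b ∈ S, Commute a b) (h3 : ∀ a ∈ S, a ^ 3 = 1)
    (hi : ∀ a ∈ S, T.t * a * T.t * a = 1) : Nat.card S ≤ 9 := by
  classical
  let A : Subgroup (Perm (Fin n)) := Subgroup.closure (C.p '' S)
  have h1 : A ≤ Subgroup.centralizer (C.p '' S) := (Subgroup.closure_le _).2 (by
    rintro _ ⟨a, ha, rfl⟩
    rw [SetLike.mem_coe, Subgroup.mem_centralizer_iff]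
    rintro _ ⟨b, hb, rfl⟩
    exact ((hc b hb a ha).map C.p).eq)
  have hA : ∀ a ∈ A, ∀ b ∈ A, Commute a b := fun a ha b hb => by
    have h2 : A ≤ Subgroup.centralizer ({a} : Set (Perm (Fin n))) := (Subgroup.closure_le _).2 fun s hs =>
      Subgroup.mem_centralizer_singleton_iff.2 (Subgroup.mem_centralizer_iff.1 (h1 ha) s hs)
    exact (Subgroup.mem_centralizer_singleton_iff.1 (h2 hb)).symm
  have hq : ∀ a ∈ A, a ^ 3 = 1 ∧ T.τ * a = a⁻¹ * T.τ := by
    intro a ha
    induction ha using Subgroup.closure_induction with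
    | mem x hx =>
      obtain ⟨a, ha, rfl⟩ := hx
      refine ⟨by rw [← map_pow, h3 a ha, map_one], eq_inv_mul_of_mul_eq ?_⟩
      have h := congrArg C.p (hi a ha)
      rw [map_mul, map_mul, map_mul, map_one] at h
      show C.p a * (C.p T.t * C.p a) = C.p T.t
      have h' : C.p T.t * C.p T.t = 1 := T.τ_mul
      calc C.p a * (C.p T.t * C.p a) = C.p T.t * (C.p T.t * C.p a * C.p T.t * C.p a) := by
            rw [← mul_assoc (C.p T.t), ← mul_assoc (C.p T.t), ← mul_assoc (C.p T.t), h', one_mul, mul_assoc]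
        _ = C.p T.t := by rw [h, mul_one]
    | one => exact ⟨one_pow _, by rw [inv_one, one_mul, mul_one]⟩
    | mul x y hx hy ihx ihy =>
      have hcm := hA x hx y hy
      refine ⟨by rw [hcm.mul_pow, ihx.1, ihy.1, one_mul], ?_⟩
      rw [← mul_assoc, ihx.2, mul_assoc, ihy.2, ← mul_assoc, mul_inv_rev]
      rw [(hcm.inv_inv).eq]
    | inv x hx ih =>
      refine ⟨by rw [inv_pow, ih.1, inv_one], ?_⟩
      rw [inv_inv]
      calc T.τ * x⁻¹ = x * (x⁻¹ * T.τ) * x⁻¹ := by group
        _ = x * (T.τ * x) * x⁻¹ := by rw [ih.2]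
        _ = x * T.τ := by group
  have hb := card_inverted_perm hn.2 T.τ_mul (by rw [T.fixed_card hn]; omega) A hA (fun a ha => (hq a ha).1)
    (fun a ha => (hq a ha).2)
  refine le_trans (Nat.card_le_card_of_injective
    (fun a : S => (⟨C.p a, Subgroup.subset_closure ⟨a, a.2, rfl⟩⟩ : A)) fun a b e => ?_) hb
  have e' : C.p a = C.p b := congrArg (fun w : A => (w : Perm (Fin n))) e
  rcases C.p_eq e' with h | h
  · exact Subtype.ext h
  · exfalso
    have := h3 a a.2
    rw [h, (C.commute_z (b : H)).symm.mul_pow, h3 b b.2, one_mul, C.z_pow_odd (by decide)] at this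
    exact C.z_ne this

/-- A subgroup normalised by the lifts supported on at least five points. -/
theorem dichotomy (C : Cov H n) (q : Finset (Fin n)) (hq : 5 ≤ q.card) {R : Subgroup H}
    (hR : ∀ y : H, (∀ i, i ∉ q → C.p y i = i) → ∀ x ∈ R, y * x * y⁻¹ ∈ R) :
    C.z ∈ R ∨ ∀ x ∈ R, (∀ i, C.p x i ∈ q ↔ i ∈ q) → ∀ i ∈ q, C.p x i = i := by
  classical
  let A := alternatingGroup {i // i ∈ q}
  let ι : A →* Perm (Fin n) := (ofSubtype (p := fun i => i ∈ q)).comp A.subtype
  let S : Subgroup A := (R.map C.p).comap ι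
  have hS : S.Normal := ⟨fun s ⟨x, hx, hxs⟩ a => by
    have hsign : ι a ∈ alternatingGroup (Fin n) := by
      rw [mem_alternatingGroup]
      exact (sign_ofSubtype _).trans (mem_alternatingGroup.1 a.2)
    obtain ⟨y, hy⟩ := C.exists_lift hsign
    exact ⟨y * x * y⁻¹, hR y (fun i hi => by rw [hy]; exact ofSubtype_apply_of_not_mem _ hi) x hx, by
      rw [map_mul, map_mul, map_inv, hy, hxs, map_mul, map_mul, map_inv]⟩⟩
  have hin : ∀ δ : Perm (Fin n), δ ∈ alternatingGroup (Fin n) → (∀ i, i ∉ q → δ i = i) →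
      ∃ d : A, ι d = δ := fun δ hδ hfix => by
    have hq' : ∀ i, δ i ∈ q ↔ i ∈ q := fun i => by
      by_cases hi : i ∈ q
      · refine ⟨fun _ => hi, fun _ => ?_⟩
        by_contra h
        exact h (by rw [δ.injective (hfix _ h)]; exact hi)
      · rw [hfix i hi]
    refine ⟨⟨δ.subtypePerm hq', ?_⟩, ofSubtype_subtypePerm hq' fun i hi => by_contra fun h => hi (hfix i h)⟩
    rw [mem_alternatingGroup]
    convert (sign_subtypePerm δ hq' fun i hi => by_contra fun h => hi (hfix i h)).trans (mem_alternatingGroup.1 hδ)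
  have hsimple : IsSimpleGroup A := alternatingGroup.isSimpleGroup (by simpa using hq)
  rcases hS.eq_bot_or_eq_top with hbot | htop
  · right
    intro x hx hxq w hw
    by_contra hmov
    have hπw : C.p x w ∈ q := (hxq w).2 hw
    obtain ⟨f, hf, hfq⟩ := exists_pts ((q.erase w).erase (C.p x w)) (k := 3) (by
      rw [Finset.card_erase_of_mem (Finset.mem_erase.2 ⟨hmov, hπw⟩), Finset.card_erase_of_mem hw]
      omega)
    simp only [Finset.mem_erase] at hfq
    have h01 : f 0 ≠ f 1 := hf.ne (by decide)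
    have h02 : f 0 ≠ f 2 := hf.ne (by decide)
    have h12 : f 1 ≠ f 2 := hf.ne (by decide)
    set κ : Perm (Fin n) := swap w (f 0) * swap (f 1) (f 2) with hκ
    have hκfix : ∀ i, i ∉ q → κ i = i := fun i hi => by
      have ne : ∀ j ∈ q, i ≠ j := fun j hj e => hi (e ▸ hj)
      rw [hκ, Perm.mul_apply, swap_apply_of_ne_of_ne (ne _ (hfq 1).2.2) (ne _ (hfq 2).2.2),
        swap_apply_of_ne_of_ne (ne _ hw) (ne _ (hfq 0).2.2)]
    have hκA := sign_double (Ne.symm (hfq 0).2.1) h12
    obtain ⟨y, hy⟩ := C.exists_lift hκA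
    set x' := x * (y * x⁻¹ * y⁻¹) with hx'
    have hx'R : x' ∈ R := mul_mem hx (hR y (fun i hi => by rw [hy]; exact hκfix i hi) _ (inv_mem hx))
    have hfix' : ∀ i, i ∉ q → C.p x' i = i := fun i hi => by
      have h2 : κ⁻¹ i = i := by conv_lhs => rw [← hκfix i hi]; exact κ.symm_apply_apply i
      have h3 : (C.p x)⁻¹ i ∉ q := fun h => hi (by
        have := (hxq _).2 h
        rwa [show C.p x ((C.p x)⁻¹ i) = i from (C.p x).apply_symm_apply i] at this)
      rw [hx', map_mul, map_mul, map_mul, map_inv, map_inv, hy, Perm.mul_apply, Perm.mul_apply, Perm.mul_apply,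
        h2, hκfix _ h3]
      exact (C.p x).apply_symm_apply i
    obtain ⟨d, hd⟩ := hin _ (C.p_mem x') hfix'
    have hd1 : d = 1 := by
      have : d ∈ S := ⟨x', hx'R, hd.symm⟩
      rwa [hbot, Subgroup.mem_bot] at this
    rw [hd1, map_one] at hd
    rw [hx', map_mul, map_mul, map_mul, map_inv, map_inv, hy] at hd
    have hcomm : C.p x * κ = κ * C.p x := by
      calc C.p x * κ = (C.p x * (κ * (C.p x)⁻¹ * κ⁻¹)) * (κ * C.p x) := by group
        _ = κ * C.p x := by rw [← hd, one_mul]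
    have := congrArg (fun g : Perm (Fin n) => g w) hcomm
    simp only [Perm.mul_apply] at this
    rw [show κ w = f 0 by
        rw [hκ, Perm.mul_apply, swap_apply_of_ne_of_ne (Ne.symm (hfq 1).2.1) (Ne.symm (hfq 2).2.1),
          swap_apply_left],
      show κ (C.p x w) = C.p x w by
        rw [hκ, Perm.mul_apply, swap_apply_of_ne_of_ne (Ne.symm (hfq 1).1) (Ne.symm (hfq 2).1),
          swap_apply_of_ne_of_ne hmov (Ne.symm (hfq 0).1)]] at this
    exact (hfq 0).2.1 ((C.p x).injective this)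
  · left
    obtain ⟨f, hf, hfq⟩ := exists_pts q (k := 4) (by omega)
    obtain ⟨d, hd⟩ := hin (swap (f 0) (f 1) * swap (f 2) (f 3)) (sign_double (hf.ne (by decide)) (hf.ne (by decide)))
      fun i hi => by
        have ne : ∀ j, i ≠ f j := fun j e => hi (e ▸ hfq j)
        rw [Perm.mul_apply, swap_apply_of_ne_of_ne (ne _) (ne _), swap_apply_of_ne_of_ne (ne _) (ne _)]
    obtain ⟨x, hx, hxe⟩ := (htop ▸ Subgroup.mem_top d : d ∈ S)
    rw [← C.dbl x (f 0) (f 1) (f 2) (f 3) (hf.ne (by decide)) (hf.ne (by decide)) (hf.ne (by decide))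
      (hf.ne (by decide)) (hf.ne (by decide)) (hf.ne (by decide)) (hxe.trans hd)]
    exact mul_mem hx hx

/-- A three cycle is not centralised by a noncentral involution. -/
theorem NInv.not_comm_three (T : NInv C) (hn : 9 ≤ n ∧ n ≤ 10) {σ : Perm (Fin n)} (hσ : σ.IsThreeCycle)
    (hc : Commute σ T.τ) : False := by
  classical
  have hσ3 : σ ^ 3 = 1 := by rw [← hσ.orderOf, pow_orderOf_eq_one]
  have hT := T.fixed_card hn
  have hmoved : ∀ a, σ a ≠ a → T.τ a ≠ a := fun a ha e => by
    have h1 : T.τ (σ a) = σ a := by rw [← Perm.mul_apply, ← hc.eq, Perm.mul_apply, e]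
    have h2 : T.τ (σ (σ a)) = σ (σ a) := by rw [← Perm.mul_apply, ← hc.eq, Perm.mul_apply, h1]
    have h3 : σ (σ a) ≠ a := fun e2 => ha (by
      have := congrArg (fun f : Perm (Fin n) => f a) hσ3
      simp only [pow_succ, pow_zero, one_mul, Perm.mul_apply, Perm.one_apply] at this
      rwa [e2] at this)
    have hsub : ({a, σ a, σ (σ a)} : Finset (Fin n)) ⊆ T.τ.supportᶜ := fun y hy => by
      simp only [Finset.mem_insert, Finset.mem_singleton] at hy
      rw [Finset.mem_compl, mem_support, not_not]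
      rcases hy with rfl | rfl | rfl
      exacts [e, h1, h2]
    have := Finset.card_le_card hsub
    rw [Finset.card_eq_three.2 ⟨a, σ a, σ (σ a), ha.symm, h3.symm, fun e' => ha (σ.injective e').symm, rfl⟩,
      hT] at this
    omega
  obtain ⟨a, ha⟩ : σ.support.Nonempty := Finset.card_pos.1 (by rw [hσ.card_support]; norm_num)
  rw [mem_support] at ha
  have hτa : σ (T.τ a) ≠ T.τ a := fun e => ha (by
    rw [← Perm.mul_apply, hc.eq, Perm.mul_apply] at e
    exact T.τ.injective e)
  obtain ⟨i, hi⟩ := hσ.isCycle.exists_pow_eq ha hτa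
  have h2 : (σ ^ i) ((σ ^ i) a) = a := by
    rw [hi, ← Perm.mul_apply, (hc.pow_left i).eq, Perm.mul_apply, hi, T.τ_τ]
  have h3 : (σ ^ i) ((σ ^ i) ((σ ^ i) a)) = a := by
    rw [← Perm.mul_apply, ← Perm.mul_apply, ← pow_add, ← pow_add, show i + i + i = 3 * i by ring, pow_mul,
      hσ3, one_pow, Perm.one_apply]
  exact hmoved a ha (by rw [← hi, ← h2]; exact h3.trans h2.symm)

/-- An element of order three commuting with one of order five among the low points. -/
theorem three_cycle_low (hn : 9 ≤ n ∧ n ≤ 10) {x y : H} (hx : x ∈ Low C) (hy : y ∈ Low C)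
    (hx3 : x ^ 3 = 1) (hx1 : x ≠ 1) (hy5 : y ^ 5 = 1) (hy1 : y ≠ 1) (hxy : Commute y x) :
    (C.p x).IsThreeCycle := by
  classical
  have hlow : ∀ {w : H}, w ∈ Low C → (C.p w).support ⊆ (high n)ᶜ := fun {w} hw i hi => by
    rw [Finset.mem_compl, mem_high]
    exact fun h => mem_support.1 hi (hw i h)
  have hcard : ((high n)ᶜ).card = 8 := by rw [Finset.card_compl, Fintype.card_fin, card_high hn]; omega
  set σ := C.p x
  set ρ := C.p y
  have hρ1 : ρ ≠ 1 := fun e => (C.p_eq_one e).elim hy1 fun h => by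
    rw [h, C.z_pow_odd (by decide)] at hy5; exact C.z_ne hy5
  have hσ1 : σ ≠ 1 := fun e => (C.p_eq_one e).elim hx1 fun h => by
    rw [h, C.z_pow_odd (by decide)] at hx3; exact C.z_ne hx3
  have hρ5 : ρ ^ 5 = 1 := by rw [← map_pow, hy5, map_one]
  have hσ3 : σ ^ 3 = 1 := by rw [← map_pow, hx3, map_one]
  have : Fact (Nat.Prime 5) := ⟨Nat.prime_five⟩
  have : Fact (Nat.Prime 3) := ⟨Nat.prime_three⟩
  have hoρ : orderOf ρ = 5 := orderOf_eq_prime hρ5 hρ1
  have hoσ : orderOf σ = 3 := orderOf_eq_prime hσ3 hσ1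
  have hρc : ρ.IsCycle := isCycle_of_prime_order (by rw [hoρ]; exact Nat.prime_five) (by
    have h := Finset.card_le_card (hlow hy)
    change ρ.support.card ≤ _ at h
    rw [hoρ]; omega)
  have hρs : ρ.support.card = 5 := by rw [← hρc.orderOf, hoρ]
  have hcomm : Commute ρ σ := hxy.map C.p
  have hdisj : _root_.Disjoint σ.support ρ.support := Finset.disjoint_left.2 fun a ha1 ha2 => by
    rw [mem_support] at ha1 ha2
    have h' : ρ (σ a) ≠ σ a := fun e => ha2 (by
      rw [← Perm.mul_apply, hcomm.eq, Perm.mul_apply] at e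
      exact σ.injective e)
    obtain ⟨i, hi⟩ := hρc.exists_pow_eq ha2 h'
    have hm : ∀ m, σ ((ρ ^ m) a) = (ρ ^ (m + i)) a := fun m => by
      rw [pow_add, Perm.mul_apply, hi, ← Perm.mul_apply, ← (hcomm.pow_left m).eq, Perm.mul_apply]
    have h3 : (ρ ^ (i + i + i)) a = a := by
      have e := congrArg (fun f : Perm (Fin n) => f a) hσ3
      simp only [pow_succ, pow_zero, one_mul, Perm.mul_apply, Perm.one_apply] at e
      rw [← hi, hm, hm] at e
      exact e
    apply ha1
    rw [← hi]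
    calc (ρ ^ i) a = (ρ ^ (5 * i + i)) a := by rw [pow_add, pow_mul, hρ5, one_pow, one_mul]
      _ = (ρ ^ (i + i + i)) ((ρ ^ (i + i + i)) a) := by rw [← Perm.mul_apply, ← pow_add]; ring_nf
      _ = a := by rw [h3, h3]
  have hu := Finset.card_le_card (Finset.union_subset (hlow hx) (hlow hy))
  rw [Finset.card_union_of_disjoint hdisj, hρs, hcard] at hu
  have hσc : σ.IsCycle := isCycle_of_prime_order (by rw [hoσ]; exact Nat.prime_three) (by rw [hoσ]; omega)
  exact card_support_eq_three_iff.1 (by rw [← hσc.orderOf, hoσ])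

/-- An involution of the cover inverting a lift of a three cycle. -/
theorem exists_inverter (hn : 9 ≤ n ∧ n ≤ 10) {x : H} (hx3 : x ^ 3 = 1) (hσ : (C.p x).IsThreeCycle) :
    ∃ T : NInv C, T.t * x * T.t = x⁻¹ := by
  classical
  set σ := C.p x with hσdef
  obtain ⟨a, ha⟩ : σ.support.Nonempty := Finset.card_pos.1 (by rw [hσ.card_support]; norm_num)
  set b := σ a with hb
  set c := σ b with hc
  have hσ3 : σ ^ 3 = 1 := by rw [← hσ.orderOf, pow_orderOf_eq_one]
  have hca : σ c = a := by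
    have e := congrArg (fun f : Perm (Fin n) => f a) hσ3
    simpa [pow_succ, Perm.mul_apply, hb, hc] using e
  have hab : a ≠ b := fun e => mem_support.1 ha e.symm
  have hbc : b ≠ c := fun e => hab (σ.injective e)
  have hac : a ≠ c := fun e => hab ((congrArg σ e).trans hca).symm
  have hsupp : σ.support = {a, b, c} := (Finset.eq_of_subset_of_card_le (fun y hy => by
      simp only [Finset.mem_insert, Finset.mem_singleton] at hy
      rcases hy with rfl | rfl | rfl
      · exact ha
      · exact apply_mem_support.2 ha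
      · exact apply_mem_support.2 (apply_mem_support.2 ha))
    (by rw [hσ.card_support, Finset.card_eq_three.2 ⟨a, b, c, hab, hac, hbc, rfl⟩])).symm
  obtain ⟨p, hp, hpm⟩ := exists_pts σ.supportᶜ (k := 6) (by
    rw [Finset.card_compl, Fintype.card_fin, hσ.card_support]; omega)
  have hpσ : ∀ i, σ (p i) = p i := fun i => by
    have := Finset.mem_compl.1 (hpm i)
    rwa [mem_support, not_not] at this
  have hpne : ∀ i, p i ≠ a ∧ p i ≠ b ∧ p i ≠ c := fun i => by
    have := Finset.mem_compl.1 (hpm i)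
    rw [hsupp] at this
    simpa using this
  have hpp : ∀ {i j}, i ≠ j → p i ≠ p j := fun h => hp.ne h
  obtain ⟨w₁, hw₁⟩ := C.exists_lift (sign_double (a := b) (b := c) (c := p 0) (d := p 1) hbc (hpp (by decide)))
  obtain ⟨w₂, hw₂⟩ := C.exists_lift
    (sign_double (a := p 2) (b := p 3) (c := p 4) (d := p 5) (hpp (by decide)) (hpp (by decide)))
  have e₁ : w₁ * w₁ = C.z := C.dbl w₁ b c (p 0) (p 1) hbc (hpne 0).2.1.symm (hpne 1).2.1.symm (hpne 0).2.2.symm
    (hpne 1).2.2.symm (hpp (by decide)) hw₁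
  have e₂ : w₂ * w₂ = C.z := C.dbl w₂ (p 2) (p 3) (p 4) (p 5) (hpp (by decide)) (hpp (by decide))
    (hpp (by decide)) (hpp (by decide)) (hpp (by decide)) (hpp (by decide)) hw₂
  have hcm : Commute w₁ w₂ := C.commute_of_disjoint (by
    rw [hw₁, hw₂, disjoint_iff_disjoint_support]
    refine Finset.disjoint_of_subset_left (support_mul_le _ _) (Finset.disjoint_of_subset_right
      (support_mul_le _ _) ?_)
    rw [support_swap hbc, support_swap (hpp (by decide)), support_swap (hpp (by decide)),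
      support_swap (hpp (by decide))]
    simp [Finset.disjoint_left, (hpne _).2.1.symm, (hpne _).2.2.symm, hp.eq_iff])
  have hsq : (w₁ * w₂) * (w₁ * w₂) = 1 := by
    rw [← pow_two, hcm.mul_pow, pow_two, pow_two, e₁, e₂, C.z_sq]
  have hpw : C.p (w₁ * w₂) b = c := by
    rw [map_mul, hw₁, hw₂]
    simp only [Perm.mul_apply]
    rw [swap_apply_of_ne_of_ne (hpne 4).2.1.symm (hpne 5).2.1.symm,
      swap_apply_of_ne_of_ne (hpne 2).2.1.symm (hpne 3).2.1.symm,
      swap_apply_of_ne_of_ne (hpne 0).2.1.symm (hpne 1).2.1.symm, swap_apply_left]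
  let T : NInv C := ⟨w₁ * w₂, hsq, fun e => hbc (by rw [← hpw, e, map_one, Perm.one_apply]),
    fun e => hbc (by rw [← hpw, e, C.p_z, Perm.one_apply])⟩
  refine ⟨T, ?_⟩
  have hbc' : σ * swap b c * σ = swap b c := Equiv.ext fun i => by
    simp only [Perm.mul_apply]
    by_cases hi : i ∈ σ.support
    · rw [hsupp] at hi
      simp only [Finset.mem_insert, Finset.mem_singleton] at hi
      rcases hi with rfl | rfl | rfl
      · rw [← hb, swap_apply_left, hca, swap_apply_of_ne_of_ne hab hac]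
      · rw [← hc, swap_apply_right, ← hc, swap_apply_left]
      · rw [hca, swap_apply_of_ne_of_ne hab hac, swap_apply_right]
    · have hif : σ i = i := by rwa [mem_support, not_not] at hi
      rw [hif]
      rw [hsupp] at hi
      simp only [Finset.mem_insert, Finset.mem_singleton, not_or] at hi
      rw [swap_apply_of_ne_of_ne hi.2.1 hi.2.2, hif]
  have hsw : ∀ i j, Commute σ (swap (p i) (p j)) := fun i j => by
    have := swap_apply_apply σ (p i) (p j)
    rw [hpσ, hpσ] at this
    exact (eq_mul_inv_iff_mul_eq.1 this).symm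
  have hR : Commute σ (swap (p 0) (p 1) * (swap (p 2) (p 3) * swap (p 4) (p 5))) :=
    (hsw 0 1).mul_right ((hsw 2 3).mul_right (hsw 4 5))
  have htau : C.p T.t = swap b c * (swap (p 0) (p 1) * (swap (p 2) (p 3) * swap (p 4) (p 5))) := by
    show C.p (w₁ * w₂) = _
    rw [map_mul, hw₁, hw₂, mul_assoc]
  have hperm : σ * C.p T.t * σ = C.p T.t := by
    rw [htau, ← mul_assoc σ, mul_assoc _ _ σ, ← hR.eq, ← mul_assoc, hbc']
  have hinv : T.t⁻¹ = T.t := inv_eq_of_mul_eq_one_right T.sq
  rcases C.p_eq (g := T.t * x * T.t) (h := x⁻¹) (by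
      rw [map_mul, map_mul, map_inv]
      calc C.p T.t * σ * C.p T.t = σ⁻¹ * (σ * C.p T.t * σ) * C.p T.t := by group
        _ = σ⁻¹ := by rw [hperm, mul_assoc, ← map_mul, T.sq, map_one, mul_one]) with h | h
  · exact h
  · exfalso
    have h3 : (T.t * x * T.t) ^ 3 = 1 := by
      conv_lhs => rw [show T.t * x * T.t = T.t * x * T.t⁻¹ by rw [hinv]]
      rw [conj_pow, hx3, mul_one, mul_inv_cancel]
    rw [h, (C.commute_z x⁻¹).symm.mul_pow, inv_pow, hx3, inv_one, one_mul, C.z_pow_odd (by decide)] at h3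
    exact C.z_ne h3

end Cfsg.Agent.CoverDegree
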