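import Cfsg.Agent.McLRecog.CommonFacts

/-!
An element of order three of the model commuting with the involution and with an element of order
five, and eighty-one elements of order dividing three commuting with it and inverted by the involution.
-/

set_option autoImplicit false
set_option maxRecDepth 100000
set_option maxHeartbeats 0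

namespace Cfsg.Agent.CoverDegree

open Cfsg Cfsg.Agent.Compute Cfsg.Agent.StemCert Cfsg.Agent.LeechModel Cfsg.Agent.McLRecog

/-- The element of order three. -/
def cW : List ℕ := [2,5,2,2,1,5,1,1,3,2,4,3,1,1,2,3,2,1,4,1,2,2,1,2,1,2,3,2,1,4,1,2,2,1,2,1,2,2,3,1,4,1,1,3,2]

/-- The element of order five. -/
def fW : List ℕ := [5,2,4,3,0,4,2,2,1,5,4,3,4,2,1,3,5,2,4,3,0,4,2,2,1,5,4,3,4,2,1,3,2,5,2,2,1,5,1,1,3,2,4,3,1,1,2,3,2,1,4,1,2,2,1,2,1,2,2,3,1,4,1,1,3,2,5,2,4,3,0,4,2,2,1,5,4,3,4,2,1,3,2,3,2,1,4,1,2,2,1,2,1]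

/-- The inverted elements. -/
def vW : List (List ℕ) := [
  [],
  [4,3,4,3,4,1,5,1,1,3,4,2,5,4,2,3,1,4,3,1,2,1,1,5,5,5,1,1,4,3,4,3,4,1,3,4,2,5,4,2,3,1,4,3,1,2],
  [2,2,4,1,1,4,2,5,2,5,1,3,4,2,5,4,2,3,1,4,3,1,2,5,5,5,2,2,5,5,5,2,2,4,1,1,1,1,4,2,2,2,2,1,3,4,2,5,4,2,3,1,4,3,1,2],
  [3,4,2,2,4,1,1,2,1,5,1,1,3,4,2,5,4,2,3,1,4,3,1,2,1,1,5,5,5,1,1,2,2,1,1,1,1,4,2,2,2,2,4,3,1,3,4,2,5,4,2,3,1,4,3,1,2],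
  [1,1,5,5,5,1,1,4,3,4,3,4,1,3,4,2,5,4,2,3,1,4,3,1,2,4,3,4,3,4,1,1,1,1,5,5,5,5,5,5,5,5,5,1,1,1,1,1,3,4,2,5,4,2,3,1,4,3,1,2],
  [1,1,4,5,5,5,4,3,1,4,2,4,1,3,4,2,5,4,2,3,1,4,3,1,2,4,2,2,4,1,1,3,4,5,5,5,5,5,5,5,5,5,4,1,1,1,1,1,3,4,2,5,4,2,3,1,4,3,1,2],
  [1,1,3,1,1,4,1,1,5,3,1,1,1,3,4,2,5,4,2,3,1,4,3,1,2,1,1,1,1,3,5,5,5,1,1,1,1,4,1,1,1,1,3,1,1,1,1,1,3,4,2,5,4,2,3,1,4,3,1,2],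
  [3,2,2,5,5,5,3,1,5,4,1,3,1,3,4,2,5,4,2,3,1,4,3,1,2,3,1,1,4,5,5,5,1,1,3,5,5,5,5,5,5,5,5,5,2,2,2,2,3,1,3,4,2,5,4,2,3,1,4,3,1,2],
  [3,1,1,4,2,2,3,4,5,5,2,1,4,1,3,4,2,5,4,2,3,1,4,3,1,2,4,1,1,2,2,5,5,5,5,5,5,4,3,2,2,2,2,4,1,1,1,1,3,1,3,4,2,5,4,2,3,1,4,3,1,2],
  [3,4,5,5,5,2,2,1,5,2,1,1,1,3,4,2,5,4,2,3,1,4,3,1,2,1,1,1,1,2,2,5,5,5,1,1,2,2,2,2,5,5,5,5,5,5,5,5,5,4,3,1,3,4,2,5,4,2,3,1,4,3,1,2],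
  [1,1,2,2,4,5,5,5,4,2,4,1,4,1,3,4,2,5,4,2,3,1,4,3,1,2,4,1,1,4,2,2,4,5,5,5,5,5,5,5,5,5,4,2,2,2,2,1,1,1,1,1,3,4,2,5,4,2,3,1,4,3,1,2],
  [1,1,3,2,2,2,2,1,2,2,1,2,1,1,3,4,2,5,4,2,3,1,4,3,1,2,1,1,2,2,1,1,2,2,2,2,1,1,2,2,2,2,2,2,2,2,3,1,1,1,1,1,3,4,2,5,4,2,3,1,4,3,1,2],
  [2,2,5,5,5,1,1,3,1,1,5,2,1,3,4,2,5,4,2,3,1,4,3,1,2,2,2,5,5,5,1,1,1,1,3,1,1,1,1,5,5,5,5,5,5,5,5,5,2,2,2,2,1,3,4,2,5,4,2,3,1,4,3,1,2],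
  [5,5,5,1,1,2,2,3,4,3,1,2,2,1,3,4,2,5,4,2,3,1,4,3,1,2,2,2,2,2,1,1,3,4,3,2,2,2,2,1,1,1,1,5,5,5,5,5,5,5,5,5,1,3,4,2,5,4,2,3,1,4,3,1,2],
  [1,1,3,5,5,5,4,1,5,2,5,5,1,1,3,4,2,5,4,2,3,1,4,3,1,2,1,1,5,5,5,5,5,5,2,2,5,5,5,1,1,4,5,5,5,5,5,5,5,5,5,3,1,1,1,1,1,3,4,2,5,4,2,3,1,4,3,1,2],
  [3,5,5,5,1,1,2,2,5,1,1,3,2,1,1,3,4,2,5,4,2,3,1,4,3,1,2,1,1,2,2,3,1,1,1,1,5,5,5,2,2,2,2,1,1,1,1,5,5,5,5,5,5,5,5,5,3,1,3,4,2,5,4,2,3,1,4,3,1,2],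
  [4,3,4,1,1,0,5,4,0,4,2,1,3,4,2,5,4,2,3,1,4,3,1,2,2,2,4,0,0,0,0,0,0,0,0,0,0,4,5,5,5,0,0,0,0,0,0,0,0,0,0,1,1,1,1,4,3,4,1,3,4,2,5,4,2,3,1,4,3,1,2],
  [5,5,5,1,1,2,2,3,1,5,5,1,4,2,1,3,4,2,5,4,2,3,1,4,3,1,2,2,2,4,1,1,5,5,5,5,5,5,1,1,3,2,2,2,2,1,1,1,1,5,5,5,5,5,5,5,5,5,1,3,4,2,5,4,2,3,1,4,3,1,2],
  [5,5,5,2,2,5,5,5,2,2,4,1,4,2,1,3,4,2,5,4,2,3,1,4,3,1,2,2,2,4,1,1,4,2,2,2,2,5,5,5,5,5,5,5,5,5,2,2,2,2,5,5,5,5,5,5,5,5,5,1,3,4,2,5,4,2,3,1,4,3,1,2],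
  [2,2,4,5,5,5,5,5,5,3,5,1,4,3,1,1,3,4,2,5,4,2,3,1,4,3,1,2,1,1,3,4,1,1,5,5,5,3,5,5,5,5,5,5,5,5,5,5,5,5,5,5,5,5,5,5,4,2,2,2,2,1,3,4,2,5,4,2,3,1,4,3,1,2],
  [2,2,1,1,2,2,2,2,5,5,5,3,4,3,2,1,1,1,3,4,2,5,4,2,3,1,4,3,1,2,1,1,1,1,2,2,3,4,3,5,5,5,5,5,5,5,5,5,2,2,2,2,2,2,2,2,1,1,1,1,2,2,2,2,1,3,4,2,5,4,2,3,1,4,3,1,2],
  [1,1,5,5,5,3,5,5,5,2,2,1,4,3,5,2,1,3,4,2,5,4,2,3,1,4,3,1,2,2,2,5,5,5,3,4,1,1,2,2,2,2,5,5,5,5,5,5,5,5,5,3,5,5,5,5,5,5,5,5,5,1,1,1,1,1,3,4,2,5,4,2,3,1,4,3,1,2],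
  [1,1,5,5,5,2,2,2,2,5,5,5,1,3,4,5,3,1,3,4,2,5,4,2,3,1,4,3,1,2,3,5,5,5,4,3,1,1,5,5,5,5,5,5,5,5,5,2,2,2,2,2,2,2,2,5,5,5,5,5,5,5,5,5,1,1,1,1,1,3,4,2,5,4,2,3,1,4,3,1,2],
  [1,1,5,5,5,1,1,4,5,5,5,2,2,1,2,4,2,1,3,4,2,5,4,2,3,1,4,3,1,2,2,2,4,2,2,1,1,2,2,2,2,5,5,5,5,5,5,5,5,5,4,1,1,1,1,5,5,5,5,5,5,5,5,5,1,1,1,1,1,3,4,2,5,4,2,3,1,4,3,1,2],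
  [5,5,5,4,5,5,5,5,5,5,3,4,3,1,4,5,1,1,3,4,2,5,4,2,3,1,4,3,1,2,1,1,5,5,5,4,1,1,3,4,3,5,5,5,5,5,5,5,5,5,5,5,5,5,5,5,5,5,5,4,5,5,5,5,5,5,5,5,5,1,3,4,2,5,4,2,3,1,4,3,1,2],
  [4,3,4,3,4,1,5,1,1,3,4,2,5,4,2,3,1,4,3,1,2,1,1,5,5,5,1,1,4,3,4,3,4,1,3,4,2,5,4,2,3,1,4,3,1,2,4,3,4,3,4,1,5,1,1,3,4,2,5,4,2,3,1,4,3,1,2,1,1,5,5,5,1,1,4,3,4,3,4,1,3,4,2,5,4,2,3,1,4,3,1,2],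
  [2,2,5,5,5,3,2,2,0,5,3,5,0,1,0,1,3,4,2,5,4,2,3,1,4,3,1,2,0,0,0,0,0,0,0,0,0,0,1,1,0,0,0,0,0,0,0,0,0,0,5,5,5,3,5,5,5,0,0,0,0,0,0,0,0,0,0,2,2,2,2,3,5,5,5,5,5,5,5,5,5,2,2,2,2,1,3,4,2,5,4,2,3,1,4,3,1,2],
  [2,2,4,1,1,4,2,5,2,5,1,3,4,2,5,4,2,3,1,4,3,1,2,5,5,5,2,2,5,5,5,2,2,4,1,1,1,1,4,2,2,2,2,1,3,4,2,5,4,2,3,1,4,3,1,2,2,2,4,1,1,4,2,5,2,5,1,3,4,2,5,4,2,3,1,4,3,1,2,5,5,5,2,2,5,5,5,2,2,4,1,1,1,1,4,2,2,2,2,1,3,4,2,5,4,2,3,1,4,3,1,2],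
  [3,4,2,2,4,1,1,2,1,5,1,1,3,4,2,5,4,2,3,1,4,3,1,2,1,1,5,5,5,1,1,2,2,1,1,1,1,4,2,2,2,2,4,3,1,3,4,2,5,4,2,3,1,4,3,1,2,3,4,2,2,4,1,1,2,1,5,1,1,3,4,2,5,4,2,3,1,4,3,1,2,1,1,5,5,5,1,1,2,2,1,1,1,1,4,2,2,2,2,4,3,1,3,4,2,5,4,2,3,1,4,3,1,2],
  [5,5,5,5,5,5,1,1,4,0,3,0,4,0,0,0,1,3,4,2,5,4,2,3,1,4,3,1,2,0,0,0,0,0,0,0,0,0,0,0,0,0,0,0,0,0,0,0,0,0,0,0,0,0,0,0,0,0,0,4,0,0,0,0,0,0,0,0,0,0,3,0,0,0,0,0,0,0,0,0,0,4,1,1,1,1,5,5,5,5,5,5,5,5,5,5,5,5,5,5,5,5,5,5,1,3,4,2,5,4,2,3,1,4,3,1,2],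
  [1,1,5,5,5,1,1,4,3,4,3,4,1,3,4,2,5,4,2,3,1,4,3,1,2,4,3,4,3,4,1,1,1,1,5,5,5,5,5,5,5,5,5,1,1,1,1,1,3,4,2,5,4,2,3,1,4,3,1,2,1,1,5,5,5,1,1,4,3,4,3,4,1,3,4,2,5,4,2,3,1,4,3,1,2,4,3,4,3,4,1,1,1,1,5,5,5,5,5,5,5,5,5,1,1,1,1,1,3,4,2,5,4,2,3,1,4,3,1,2],
  [3,2,2,5,5,5,3,1,5,4,1,3,1,3,4,2,5,4,2,3,1,4,3,1,2,3,1,1,4,5,5,5,1,1,3,5,5,5,5,5,5,5,5,5,2,2,2,2,3,1,3,4,2,5,4,2,3,1,4,3,1,2,3,2,2,5,5,5,3,1,5,4,1,3,1,3,4,2,5,4,2,3,1,4,3,1,2,3,1,1,4,5,5,5,1,1,3,5,5,5,5,5,5,5,5,5,2,2,2,2,3,1,3,4,2,5,4,2,3,1,4,3,1,2],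
  [1,1,3,2,2,2,2,1,2,2,1,2,1,1,3,4,2,5,4,2,3,1,4,3,1,2,1,1,2,2,1,1,2,2,2,2,1,1,2,2,2,2,2,2,2,2,3,1,1,1,1,1,3,4,2,5,4,2,3,1,4,3,1,2,1,1,3,2,2,2,2,1,2,2,1,2,1,1,3,4,2,5,4,2,3,1,4,3,1,2,1,1,2,2,1,1,2,2,2,2,1,1,2,2,2,2,2,2,2,2,3,1,1,1,1,1,3,4,2,5,4,2,3,1,4,3,1,2],
  [3,4,5,5,5,2,2,1,5,2,1,1,1,3,4,2,5,4,2,3,1,4,3,1,2,1,1,1,1,2,2,5,5,5,1,1,2,2,2,2,5,5,5,5,5,5,5,5,5,4,3,1,3,4,2,5,4,2,3,1,4,3,1,2,3,4,5,5,5,2,2,1,5,2,1,1,1,3,4,2,5,4,2,3,1,4,3,1,2,1,1,1,1,2,2,5,5,5,1,1,2,2,2,2,5,5,5,5,5,5,5,5,5,4,3,1,3,4,2,5,4,2,3,1,4,3,1,2],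
  [5,5,5,1,1,2,2,3,4,3,1,2,2,1,3,4,2,5,4,2,3,1,4,3,1,2,2,2,2,2,1,1,3,4,3,2,2,2,2,1,1,1,1,5,5,5,5,5,5,5,5,5,1,3,4,2,5,4,2,3,1,4,3,1,2,5,5,5,1,1,2,2,3,4,3,1,2,2,1,3,4,2,5,4,2,3,1,4,3,1,2,2,2,2,2,1,1,3,4,3,2,2,2,2,1,1,1,1,5,5,5,5,5,5,5,5,5,1,3,4,2,5,4,2,3,1,4,3,1,2],
  [3,5,5,5,1,1,2,2,5,1,1,3,2,1,1,3,4,2,5,4,2,3,1,4,3,1,2,1,1,2,2,3,1,1,1,1,5,5,5,2,2,2,2,1,1,1,1,5,5,5,5,5,5,5,5,5,3,1,3,4,2,5,4,2,3,1,4,3,1,2,3,5,5,5,1,1,2,2,5,1,1,3,2,1,1,3,4,2,5,4,2,3,1,4,3,1,2,1,1,2,2,3,1,1,1,1,5,5,5,2,2,2,2,1,1,1,1,5,5,5,5,5,5,5,5,5,3,1,3,4,2,5,4,2,3,1,4,3,1,2],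
  [5,5,5,1,1,2,2,3,1,5,5,1,4,2,1,3,4,2,5,4,2,3,1,4,3,1,2,2,2,4,1,1,5,5,5,5,5,5,1,1,3,2,2,2,2,1,1,1,1,5,5,5,5,5,5,5,5,5,1,3,4,2,5,4,2,3,1,4,3,1,2,5,5,5,1,1,2,2,3,1,5,5,1,4,2,1,3,4,2,5,4,2,3,1,4,3,1,2,2,2,4,1,1,5,5,5,5,5,5,1,1,3,2,2,2,2,1,1,1,1,5,5,5,5,5,5,5,5,5,1,3,4,2,5,4,2,3,1,4,3,1,2],
  [5,5,5,2,2,5,5,5,2,2,4,1,4,2,1,3,4,2,5,4,2,3,1,4,3,1,2,2,2,4,1,1,4,2,2,2,2,5,5,5,5,5,5,5,5,5,2,2,2,2,5,5,5,5,5,5,5,5,5,1,3,4,2,5,4,2,3,1,4,3,1,2,5,5,5,2,2,5,5,5,2,2,4,1,4,2,1,3,4,2,5,4,2,3,1,4,3,1,2,2,2,4,1,1,4,2,2,2,2,5,5,5,5,5,5,5,5,5,2,2,2,2,5,5,5,5,5,5,5,5,5,1,3,4,2,5,4,2,3,1,4,3,1,2],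
  [4,3,4,3,4,1,5,1,1,3,4,2,5,4,2,3,1,4,3,1,2,1,1,5,5,5,1,1,4,3,4,3,4,1,3,4,2,5,4,2,3,1,4,3,1,2,3,4,2,2,4,1,1,2,1,5,1,1,3,4,2,5,4,2,3,1,4,3,1,2,1,1,5,5,5,1,1,2,2,1,1,1,1,4,2,2,2,2,4,3,1,3,4,2,5,4,2,3,1,4,3,1,2,4,3,4,3,4,1,5,1,1,3,4,2,5,4,2,3,1,4,3,1,2,1,1,5,5,5,1,1,4,3,4,3,4,1,3,4,2,5,4,2,3,1,4,3,1,2],
  [4,3,4,3,4,1,5,1,1,3,4,2,5,4,2,3,1,4,3,1,2,1,1,5,5,5,1,1,4,3,4,3,4,1,3,4,2,5,4,2,3,1,4,3,1,2,1,1,4,5,5,5,4,3,1,4,2,4,1,3,4,2,5,4,2,3,1,4,3,1,2,4,2,2,4,1,1,3,4,5,5,5,5,5,5,5,5,5,4,1,1,1,1,1,3,4,2,5,4,2,3,1,4,3,1,2,4,3,4,3,4,1,5,1,1,3,4,2,5,4,2,3,1,4,3,1,2,1,1,5,5,5,1,1,4,3,4,3,4,1,3,4,2,5,4,2,3,1,4,3,1,2],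
  [4,3,4,3,4,1,5,1,1,3,4,2,5,4,2,3,1,4,3,1,2,1,1,5,5,5,1,1,4,3,4,3,4,1,3,4,2,5,4,2,3,1,4,3,1,2,1,1,3,2,2,2,2,1,2,2,1,2,1,1,3,4,2,5,4,2,3,1,4,3,1,2,1,1,2,2,1,1,2,2,2,2,1,1,2,2,2,2,2,2,2,2,3,1,1,1,1,1,3,4,2,5,4,2,3,1,4,3,1,2,4,3,4,3,4,1,5,1,1,3,4,2,5,4,2,3,1,4,3,1,2,1,1,5,5,5,1,1,4,3,4,3,4,1,3,4,2,5,4,2,3,1,4,3,1,2],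
  [4,3,4,3,4,1,5,1,1,3,4,2,5,4,2,3,1,4,3,1,2,1,1,5,5,5,1,1,4,3,4,3,4,1,3,4,2,5,4,2,3,1,4,3,1,2,1,1,2,2,4,5,5,5,4,2,4,1,4,1,3,4,2,5,4,2,3,1,4,3,1,2,4,1,1,4,2,2,4,5,5,5,5,5,5,5,5,5,4,2,2,2,2,1,1,1,1,1,3,4,2,5,4,2,3,1,4,3,1,2,4,3,4,3,4,1,5,1,1,3,4,2,5,4,2,3,1,4,3,1,2,1,1,5,5,5,1,1,4,3,4,3,4,1,3,4,2,5,4,2,3,1,4,3,1,2],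
  [4,3,4,3,4,1,5,1,1,3,4,2,5,4,2,3,1,4,3,1,2,1,1,5,5,5,1,1,4,3,4,3,4,1,3,4,2,5,4,2,3,1,4,3,1,2,2,2,5,5,5,1,1,3,1,1,5,2,1,3,4,2,5,4,2,3,1,4,3,1,2,2,2,5,5,5,1,1,1,1,3,1,1,1,1,5,5,5,5,5,5,5,5,5,2,2,2,2,1,3,4,2,5,4,2,3,1,4,3,1,2,4,3,4,3,4,1,5,1,1,3,4,2,5,4,2,3,1,4,3,1,2,1,1,5,5,5,1,1,4,3,4,3,4,1,3,4,2,5,4,2,3,1,4,3,1,2],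
  [3,4,2,2,4,1,1,2,1,5,1,1,3,4,2,5,4,2,3,1,4,3,1,2,1,1,5,5,5,1,1,2,2,1,1,1,1,4,2,2,2,2,4,3,1,3,4,2,5,4,2,3,1,4,3,1,2,4,3,4,3,4,1,5,1,1,3,4,2,5,4,2,3,1,4,3,1,2,1,1,5,5,5,1,1,4,3,4,3,4,1,3,4,2,5,4,2,3,1,4,3,1,2,3,4,2,2,4,1,1,2,1,5,1,1,3,4,2,5,4,2,3,1,4,3,1,2,1,1,5,5,5,1,1,2,2,1,1,1,1,4,2,2,2,2,4,3,1,3,4,2,5,4,2,3,1,4,3,1,2],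
  [4,3,4,3,4,1,5,1,1,3,4,2,5,4,2,3,1,4,3,1,2,1,1,5,5,5,1,1,4,3,4,3,4,1,3,4,2,5,4,2,3,1,4,3,1,2,1,1,3,5,5,5,4,1,5,2,5,5,1,1,3,4,2,5,4,2,3,1,4,3,1,2,1,1,5,5,5,5,5,5,2,2,5,5,5,1,1,4,5,5,5,5,5,5,5,5,5,3,1,1,1,1,1,3,4,2,5,4,2,3,1,4,3,1,2,4,3,4,3,4,1,5,1,1,3,4,2,5,4,2,3,1,4,3,1,2,1,1,5,5,5,1,1,4,3,4,3,4,1,3,4,2,5,4,2,3,1,4,3,1,2],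
  [1,1,5,5,5,2,2,2,2,5,5,5,1,3,4,5,3,1,3,4,2,5,4,2,3,1,4,3,1,2,3,5,5,5,4,3,1,1,5,5,5,5,5,5,5,5,5,2,2,2,2,2,2,2,2,5,5,5,5,5,5,5,5,5,1,1,1,1,1,3,4,2,5,4,2,3,1,4,3,1,2,1,1,5,5,5,2,2,2,2,5,5,5,1,3,4,5,3,1,3,4,2,5,4,2,3,1,4,3,1,2,3,5,5,5,4,3,1,1,5,5,5,5,5,5,5,5,5,2,2,2,2,2,2,2,2,5,5,5,5,5,5,5,5,5,1,1,1,1,1,3,4,2,5,4,2,3,1,4,3,1,2],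
  [1,1,5,5,5,1,1,4,5,5,5,2,2,1,2,4,2,1,3,4,2,5,4,2,3,1,4,3,1,2,2,2,4,2,2,1,1,2,2,2,2,5,5,5,5,5,5,5,5,5,4,1,1,1,1,5,5,5,5,5,5,5,5,5,1,1,1,1,1,3,4,2,5,4,2,3,1,4,3,1,2,1,1,5,5,5,1,1,4,5,5,5,2,2,1,2,4,2,1,3,4,2,5,4,2,3,1,4,3,1,2,2,2,4,2,2,1,1,2,2,2,2,5,5,5,5,5,5,5,5,5,4,1,1,1,1,5,5,5,5,5,5,5,5,5,1,1,1,1,1,3,4,2,5,4,2,3,1,4,3,1,2],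
  [4,3,4,3,4,1,5,1,1,3,4,2,5,4,2,3,1,4,3,1,2,1,1,5,5,5,1,1,4,3,4,3,4,1,3,4,2,5,4,2,3,1,4,3,1,2,3,5,5,5,1,1,2,2,5,1,1,3,2,1,1,3,4,2,5,4,2,3,1,4,3,1,2,1,1,2,2,3,1,1,1,1,5,5,5,2,2,2,2,1,1,1,1,5,5,5,5,5,5,5,5,5,3,1,3,4,2,5,4,2,3,1,4,3,1,2,4,3,4,3,4,1,5,1,1,3,4,2,5,4,2,3,1,4,3,1,2,1,1,5,5,5,1,1,4,3,4,3,4,1,3,4,2,5,4,2,3,1,4,3,1,2],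
  [5,5,5,4,5,5,5,5,5,5,3,4,3,1,4,5,1,1,3,4,2,5,4,2,3,1,4,3,1,2,1,1,5,5,5,4,1,1,3,4,3,5,5,5,5,5,5,5,5,5,5,5,5,5,5,5,5,5,5,4,5,5,5,5,5,5,5,5,5,1,3,4,2,5,4,2,3,1,4,3,1,2,5,5,5,4,5,5,5,5,5,5,3,4,3,1,4,5,1,1,3,4,2,5,4,2,3,1,4,3,1,2,1,1,5,5,5,4,1,1,3,4,3,5,5,5,5,5,5,5,5,5,5,5,5,5,5,5,5,5,5,4,5,5,5,5,5,5,5,5,5,1,3,4,2,5,4,2,3,1,4,3,1,2],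
  [1,1,4,5,5,5,4,3,1,4,2,4,1,3,4,2,5,4,2,3,1,4,3,1,2,4,2,2,4,1,1,3,4,5,5,5,5,5,5,5,5,5,4,1,1,1,1,1,3,4,2,5,4,2,3,1,4,3,1,2,4,3,4,3,4,1,5,1,1,3,4,2,5,4,2,3,1,4,3,1,2,1,1,5,5,5,1,1,4,3,4,3,4,1,3,4,2,5,4,2,3,1,4,3,1,2,1,1,4,5,5,5,4,3,1,4,2,4,1,3,4,2,5,4,2,3,1,4,3,1,2,4,2,2,4,1,1,3,4,5,5,5,5,5,5,5,5,5,4,1,1,1,1,1,3,4,2,5,4,2,3,1,4,3,1,2],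
  [4,3,4,3,4,1,5,1,1,3,4,2,5,4,2,3,1,4,3,1,2,1,1,5,5,5,1,1,4,3,4,3,4,1,3,4,2,5,4,2,3,1,4,3,1,2,2,2,1,1,2,2,2,2,5,5,5,3,4,3,2,1,1,1,3,4,2,5,4,2,3,1,4,3,1,2,1,1,1,1,2,2,3,4,3,5,5,5,5,5,5,5,5,5,2,2,2,2,2,2,2,2,1,1,1,1,2,2,2,2,1,3,4,2,5,4,2,3,1,4,3,1,2,4,3,4,3,4,1,5,1,1,3,4,2,5,4,2,3,1,4,3,1,2,1,1,5,5,5,1,1,4,3,4,3,4,1,3,4,2,5,4,2,3,1,4,3,1,2],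
  [2,2,4,1,1,4,2,5,2,5,1,3,4,2,5,4,2,3,1,4,3,1,2,5,5,5,2,2,5,5,5,2,2,4,1,1,1,1,4,2,2,2,2,1,3,4,2,5,4,2,3,1,4,3,1,2,3,4,2,2,4,1,1,2,1,5,1,1,3,4,2,5,4,2,3,1,4,3,1,2,1,1,5,5,5,1,1,2,2,1,1,1,1,4,2,2,2,2,4,3,1,3,4,2,5,4,2,3,1,4,3,1,2,2,2,4,1,1,4,2,5,2,5,1,3,4,2,5,4,2,3,1,4,3,1,2,5,5,5,2,2,5,5,5,2,2,4,1,1,1,1,4,2,2,2,2,1,3,4,2,5,4,2,3,1,4,3,1,2],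
  [4,3,4,3,4,1,5,1,1,3,4,2,5,4,2,3,1,4,3,1,2,1,1,5,5,5,1,1,4,3,4,3,4,1,3,4,2,5,4,2,3,1,4,3,1,2,1,1,5,5,5,3,5,5,5,2,2,1,4,3,5,2,1,3,4,2,5,4,2,3,1,4,3,1,2,2,2,5,5,5,3,4,1,1,2,2,2,2,5,5,5,5,5,5,5,5,5,3,5,5,5,5,5,5,5,5,5,1,1,1,1,1,3,4,2,5,4,2,3,1,4,3,1,2,4,3,4,3,4,1,5,1,1,3,4,2,5,4,2,3,1,4,3,1,2,1,1,5,5,5,1,1,4,3,4,3,4,1,3,4,2,5,4,2,3,1,4,3,1,2],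
  [3,4,2,2,4,1,1,2,1,5,1,1,3,4,2,5,4,2,3,1,4,3,1,2,1,1,5,5,5,1,1,2,2,1,1,1,1,4,2,2,2,2,4,3,1,3,4,2,5,4,2,3,1,4,3,1,2,2,2,4,1,1,4,2,5,2,5,1,3,4,2,5,4,2,3,1,4,3,1,2,5,5,5,2,2,5,5,5,2,2,4,1,1,1,1,4,2,2,2,2,1,3,4,2,5,4,2,3,1,4,3,1,2,3,4,2,2,4,1,1,2,1,5,1,1,3,4,2,5,4,2,3,1,4,3,1,2,1,1,5,5,5,1,1,2,2,1,1,1,1,4,2,2,2,2,4,3,1,3,4,2,5,4,2,3,1,4,3,1,2],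
  [2,2,4,1,1,4,2,5,2,5,1,3,4,2,5,4,2,3,1,4,3,1,2,5,5,5,2,2,5,5,5,2,2,4,1,1,1,1,4,2,2,2,2,1,3,4,2,5,4,2,3,1,4,3,1,2,1,1,5,5,5,1,1,4,3,4,3,4,1,3,4,2,5,4,2,3,1,4,3,1,2,4,3,4,3,4,1,1,1,1,5,5,5,5,5,5,5,5,5,1,1,1,1,1,3,4,2,5,4,2,3,1,4,3,1,2,2,2,4,1,1,4,2,5,2,5,1,3,4,2,5,4,2,3,1,4,3,1,2,5,5,5,2,2,5,5,5,2,2,4,1,1,1,1,4,2,2,2,2,1,3,4,2,5,4,2,3,1,4,3,1,2],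
  [4,3,4,3,4,1,5,1,1,3,4,2,5,4,2,3,1,4,3,1,2,1,1,5,5,5,1,1,4,3,4,3,4,1,3,4,2,5,4,2,3,1,4,3,1,2,1,1,5,5,5,1,1,4,5,5,5,2,2,1,2,4,2,1,3,4,2,5,4,2,3,1,4,3,1,2,2,2,4,2,2,1,1,2,2,2,2,5,5,5,5,5,5,5,5,5,4,1,1,1,1,5,5,5,5,5,5,5,5,5,1,1,1,1,1,3,4,2,5,4,2,3,1,4,3,1,2,4,3,4,3,4,1,5,1,1,3,4,2,5,4,2,3,1,4,3,1,2,1,1,5,5,5,1,1,4,3,4,3,4,1,3,4,2,5,4,2,3,1,4,3,1,2],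
  [3,4,2,2,4,1,1,2,1,5,1,1,3,4,2,5,4,2,3,1,4,3,1,2,1,1,5,5,5,1,1,2,2,1,1,1,1,4,2,2,2,2,4,3,1,3,4,2,5,4,2,3,1,4,3,1,2,1,1,5,5,5,1,1,4,3,4,3,4,1,3,4,2,5,4,2,3,1,4,3,1,2,4,3,4,3,4,1,1,1,1,5,5,5,5,5,5,5,5,5,1,1,1,1,1,3,4,2,5,4,2,3,1,4,3,1,2,3,4,2,2,4,1,1,2,1,5,1,1,3,4,2,5,4,2,3,1,4,3,1,2,1,1,5,5,5,1,1,2,2,1,1,1,1,4,2,2,2,2,4,3,1,3,4,2,5,4,2,3,1,4,3,1,2],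
  [1,1,3,2,2,2,2,1,2,2,1,2,1,1,3,4,2,5,4,2,3,1,4,3,1,2,1,1,2,2,1,1,2,2,2,2,1,1,2,2,2,2,2,2,2,2,3,1,1,1,1,1,3,4,2,5,4,2,3,1,4,3,1,2,4,3,4,3,4,1,5,1,1,3,4,2,5,4,2,3,1,4,3,1,2,1,1,5,5,5,1,1,4,3,4,3,4,1,3,4,2,5,4,2,3,1,4,3,1,2,1,1,3,2,2,2,2,1,2,2,1,2,1,1,3,4,2,5,4,2,3,1,4,3,1,2,1,1,2,2,1,1,2,2,2,2,1,1,2,2,2,2,2,2,2,2,3,1,1,1,1,1,3,4,2,5,4,2,3,1,4,3,1,2],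
  [1,1,2,2,4,5,5,5,4,2,4,1,4,1,3,4,2,5,4,2,3,1,4,3,1,2,4,1,1,4,2,2,4,5,5,5,5,5,5,5,5,5,4,2,2,2,2,1,1,1,1,1,3,4,2,5,4,2,3,1,4,3,1,2,4,3,4,3,4,1,5,1,1,3,4,2,5,4,2,3,1,4,3,1,2,1,1,5,5,5,1,1,4,3,4,3,4,1,3,4,2,5,4,2,3,1,4,3,1,2,1,1,2,2,4,5,5,5,4,2,4,1,4,1,3,4,2,5,4,2,3,1,4,3,1,2,4,1,1,4,2,2,4,5,5,5,5,5,5,5,5,5,4,2,2,2,2,1,1,1,1,1,3,4,2,5,4,2,3,1,4,3,1,2],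
  [3,4,2,2,4,1,1,2,1,5,1,1,3,4,2,5,4,2,3,1,4,3,1,2,1,1,5,5,5,1,1,2,2,1,1,1,1,4,2,2,2,2,4,3,1,3,4,2,5,4,2,3,1,4,3,1,2,1,1,4,5,5,5,4,3,1,4,2,4,1,3,4,2,5,4,2,3,1,4,3,1,2,4,2,2,4,1,1,3,4,5,5,5,5,5,5,5,5,5,4,1,1,1,1,1,3,4,2,5,4,2,3,1,4,3,1,2,3,4,2,2,4,1,1,2,1,5,1,1,3,4,2,5,4,2,3,1,4,3,1,2,1,1,5,5,5,1,1,2,2,1,1,1,1,4,2,2,2,2,4,3,1,3,4,2,5,4,2,3,1,4,3,1,2],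
  [2,2,4,1,1,4,2,5,2,5,1,3,4,2,5,4,2,3,1,4,3,1,2,5,5,5,2,2,5,5,5,2,2,4,1,1,1,1,4,2,2,2,2,1,3,4,2,5,4,2,3,1,4,3,1,2,3,2,2,5,5,5,3,1,5,4,1,3,1,3,4,2,5,4,2,3,1,4,3,1,2,3,1,1,4,5,5,5,1,1,3,5,5,5,5,5,5,5,5,5,2,2,2,2,3,1,3,4,2,5,4,2,3,1,4,3,1,2,2,2,4,1,1,4,2,5,2,5,1,3,4,2,5,4,2,3,1,4,3,1,2,5,5,5,2,2,5,5,5,2,2,4,1,1,1,1,4,2,2,2,2,1,3,4,2,5,4,2,3,1,4,3,1,2],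
  [4,3,4,3,4,1,5,1,1,3,4,2,5,4,2,3,1,4,3,1,2,1,1,5,5,5,1,1,4,3,4,3,4,1,3,4,2,5,4,2,3,1,4,3,1,2,5,5,5,4,5,5,5,5,5,5,3,4,3,1,4,5,1,1,3,4,2,5,4,2,3,1,4,3,1,2,1,1,5,5,5,4,1,1,3,4,3,5,5,5,5,5,5,5,5,5,5,5,5,5,5,5,5,5,5,4,5,5,5,5,5,5,5,5,5,1,3,4,2,5,4,2,3,1,4,3,1,2,4,3,4,3,4,1,5,1,1,3,4,2,5,4,2,3,1,4,3,1,2,1,1,5,5,5,1,1,4,3,4,3,4,1,3,4,2,5,4,2,3,1,4,3,1,2],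
  [0,0,0,0,0,0,0,0,0,0,1,1,4,2,2,3,4,1,2,3,4,0,1,3,4,2,5,4,2,3,1,4,3,1,2,0,0,0,0,0,0,0,0,0,0,4,3,2,2,1,1,4,3,2,2,2,2,4,1,1,1,1,0,0,0,0,0,0,0,0,0,0,0,0,0,0,0,0,0,0,0,0,0,0,0,0,0,0,0,0,0,0,0,0,0,0,0,0,0,0,0,0,0,0,0,0,0,0,0,0,0,0,0,0,0,0,0,0,0,0,0,0,0,0,0,0,0,0,0,0,0,0,0,0,0,0,0,0,0,0,0,0,0,0,0,0,0,0,0,0,0,0,0,0,0,0,0,0,0,0,0,0,1,3,4,2,5,4,2,3,1,4,3,1,2],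
  [2,2,5,5,5,1,1,3,1,1,5,2,1,3,4,2,5,4,2,3,1,4,3,1,2,2,2,5,5,5,1,1,1,1,3,1,1,1,1,5,5,5,5,5,5,5,5,5,2,2,2,2,1,3,4,2,5,4,2,3,1,4,3,1,2,4,3,4,3,4,1,5,1,1,3,4,2,5,4,2,3,1,4,3,1,2,1,1,5,5,5,1,1,4,3,4,3,4,1,3,4,2,5,4,2,3,1,4,3,1,2,2,2,5,5,5,1,1,3,1,1,5,2,1,3,4,2,5,4,2,3,1,4,3,1,2,2,2,5,5,5,1,1,1,1,3,1,1,1,1,5,5,5,5,5,5,5,5,5,2,2,2,2,1,3,4,2,5,4,2,3,1,4,3,1,2],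
  [1,1,5,5,5,1,1,4,3,4,3,4,1,3,4,2,5,4,2,3,1,4,3,1,2,4,3,4,3,4,1,1,1,1,5,5,5,5,5,5,5,5,5,1,1,1,1,1,3,4,2,5,4,2,3,1,4,3,1,2,2,2,4,1,1,4,2,5,2,5,1,3,4,2,5,4,2,3,1,4,3,1,2,5,5,5,2,2,5,5,5,2,2,4,1,1,1,1,4,2,2,2,2,1,3,4,2,5,4,2,3,1,4,3,1,2,1,1,5,5,5,1,1,4,3,4,3,4,1,3,4,2,5,4,2,3,1,4,3,1,2,4,3,4,3,4,1,1,1,1,5,5,5,5,5,5,5,5,5,1,1,1,1,1,3,4,2,5,4,2,3,1,4,3,1,2],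
  [2,2,4,1,1,4,2,5,2,5,1,3,4,2,5,4,2,3,1,4,3,1,2,5,5,5,2,2,5,5,5,2,2,4,1,1,1,1,4,2,2,2,2,1,3,4,2,5,4,2,3,1,4,3,1,2,5,5,5,1,1,2,2,3,4,3,1,2,2,1,3,4,2,5,4,2,3,1,4,3,1,2,2,2,2,2,1,1,3,4,3,2,2,2,2,1,1,1,1,5,5,5,5,5,5,5,5,5,1,3,4,2,5,4,2,3,1,4,3,1,2,2,2,4,1,1,4,2,5,2,5,1,3,4,2,5,4,2,3,1,4,3,1,2,5,5,5,2,2,5,5,5,2,2,4,1,1,1,1,4,2,2,2,2,1,3,4,2,5,4,2,3,1,4,3,1,2],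
  [2,2,4,1,1,4,2,5,2,5,1,3,4,2,5,4,2,3,1,4,3,1,2,5,5,5,2,2,5,5,5,2,2,4,1,1,1,1,4,2,2,2,2,1,3,4,2,5,4,2,3,1,4,3,1,2,2,2,5,5,5,1,1,3,1,1,5,2,1,3,4,2,5,4,2,3,1,4,3,1,2,2,2,5,5,5,1,1,1,1,3,1,1,1,1,5,5,5,5,5,5,5,5,5,2,2,2,2,1,3,4,2,5,4,2,3,1,4,3,1,2,2,2,4,1,1,4,2,5,2,5,1,3,4,2,5,4,2,3,1,4,3,1,2,5,5,5,2,2,5,5,5,2,2,4,1,1,1,1,4,2,2,2,2,1,3,4,2,5,4,2,3,1,4,3,1,2],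
  [1,1,1,1,0,0,0,0,0,0,0,0,0,0,3,4,0,2,3,0,1,3,4,2,5,4,2,3,1,4,3,1,2,0,0,0,0,0,0,0,0,0,0,3,2,2,0,0,0,0,0,0,0,0,0,0,4,3,0,0,0,0,0,0,0,0,0,0,0,0,0,0,0,0,0,0,0,0,0,0,0,0,0,0,0,0,0,0,0,0,0,0,0,0,0,0,0,0,0,0,0,0,0,0,0,0,0,0,0,0,0,0,0,0,0,0,0,0,0,0,0,0,0,0,0,0,0,0,0,0,0,0,0,0,0,0,0,0,0,0,0,0,0,0,0,0,0,0,0,0,0,0,0,0,0,0,0,0,1,1,1,1,1,1,1,1,1,3,4,2,5,4,2,3,1,4,3,1,2],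
  [1,1,3,0,0,0,0,0,0,0,0,0,0,1,1,4,2,5,4,1,4,2,0,1,3,4,2,5,4,2,3,1,4,3,1,2,0,0,0,0,0,0,0,0,0,0,2,2,4,1,1,4,5,5,5,2,2,4,1,1,1,1,0,0,0,0,0,0,0,0,0,0,0,0,0,0,0,0,0,0,0,0,0,0,0,0,0,0,0,0,0,0,0,0,0,0,0,0,0,0,0,0,0,0,0,0,0,0,0,0,0,0,0,0,0,0,0,0,0,0,0,0,0,0,0,0,0,0,0,0,0,0,0,0,0,0,0,0,0,0,0,0,0,0,0,0,0,0,0,0,0,0,0,0,0,0,0,0,0,0,0,0,3,1,1,1,1,1,3,4,2,5,4,2,3,1,4,3,1,2],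
  [2,2,4,1,1,4,2,5,2,5,1,3,4,2,5,4,2,3,1,4,3,1,2,5,5,5,2,2,5,5,5,2,2,4,1,1,1,1,4,2,2,2,2,1,3,4,2,5,4,2,3,1,4,3,1,2,3,5,5,5,1,1,2,2,5,1,1,3,2,1,1,3,4,2,5,4,2,3,1,4,3,1,2,1,1,2,2,3,1,1,1,1,5,5,5,2,2,2,2,1,1,1,1,5,5,5,5,5,5,5,5,5,3,1,3,4,2,5,4,2,3,1,4,3,1,2,2,2,4,1,1,4,2,5,2,5,1,3,4,2,5,4,2,3,1,4,3,1,2,5,5,5,2,2,5,5,5,2,2,4,1,1,1,1,4,2,2,2,2,1,3,4,2,5,4,2,3,1,4,3,1,2],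
  [1,1,3,1,1,4,1,1,5,3,1,1,1,3,4,2,5,4,2,3,1,4,3,1,2,1,1,1,1,3,5,5,5,1,1,1,1,4,1,1,1,1,3,1,1,1,1,1,3,4,2,5,4,2,3,1,4,3,1,2,3,2,2,5,5,5,3,1,5,4,1,3,1,3,4,2,5,4,2,3,1,4,3,1,2,3,1,1,4,5,5,5,1,1,3,5,5,5,5,5,5,5,5,5,2,2,2,2,3,1,3,4,2,5,4,2,3,1,4,3,1,2,1,1,3,1,1,4,1,1,5,3,1,1,1,3,4,2,5,4,2,3,1,4,3,1,2,1,1,1,1,3,5,5,5,1,1,1,1,4,1,1,1,1,3,1,1,1,1,1,3,4,2,5,4,2,3,1,4,3,1,2],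
  [4,2,2,1,1,0,0,0,0,0,0,0,0,0,0,4,0,0,4,3,4,5,1,3,4,2,5,4,2,3,1,4,3,1,2,5,5,5,4,3,4,0,0,0,0,0,0,0,0,0,0,0,0,0,0,0,0,0,0,0,0,4,0,0,0,0,0,0,0,0,0,0,0,0,0,0,0,0,0,0,0,0,0,0,0,0,0,0,0,0,0,0,0,0,0,0,0,0,0,0,0,0,0,0,0,0,0,0,0,0,0,0,0,0,0,0,0,0,0,0,0,0,0,0,0,0,0,0,0,0,0,0,0,0,0,0,0,0,0,0,0,0,0,0,0,0,0,0,0,0,0,0,0,0,0,0,0,0,0,0,0,0,1,1,1,1,2,2,2,2,4,1,3,4,2,5,4,2,3,1,4,3,1,2],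
  [1,1,5,5,5,1,1,4,3,4,3,4,1,3,4,2,5,4,2,3,1,4,3,1,2,4,3,4,3,4,1,1,1,1,5,5,5,5,5,5,5,5,5,1,1,1,1,1,3,4,2,5,4,2,3,1,4,3,1,2,1,1,3,2,2,2,2,1,2,2,1,2,1,1,3,4,2,5,4,2,3,1,4,3,1,2,1,1,2,2,1,1,2,2,2,2,1,1,2,2,2,2,2,2,2,2,3,1,1,1,1,1,3,4,2,5,4,2,3,1,4,3,1,2,1,1,5,5,5,1,1,4,3,4,3,4,1,3,4,2,5,4,2,3,1,4,3,1,2,4,3,4,3,4,1,1,1,1,5,5,5,5,5,5,5,5,5,1,1,1,1,1,3,4,2,5,4,2,3,1,4,3,1,2],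
  [1,1,3,1,1,4,1,1,5,3,1,1,1,3,4,2,5,4,2,3,1,4,3,1,2,1,1,1,1,3,5,5,5,1,1,1,1,4,1,1,1,1,3,1,1,1,1,1,3,4,2,5,4,2,3,1,4,3,1,2,5,5,5,1,1,2,2,3,4,3,1,2,2,1,3,4,2,5,4,2,3,1,4,3,1,2,2,2,2,2,1,1,3,4,3,2,2,2,2,1,1,1,1,5,5,5,5,5,5,5,5,5,1,3,4,2,5,4,2,3,1,4,3,1,2,1,1,3,1,1,4,1,1,5,3,1,1,1,3,4,2,5,4,2,3,1,4,3,1,2,1,1,1,1,3,5,5,5,1,1,1,1,4,1,1,1,1,3,1,1,1,1,1,3,4,2,5,4,2,3,1,4,3,1,2],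
  [1,1,5,5,5,1,1,4,3,4,3,4,1,3,4,2,5,4,2,3,1,4,3,1,2,4,3,4,3,4,1,1,1,1,5,5,5,5,5,5,5,5,5,1,1,1,1,1,3,4,2,5,4,2,3,1,4,3,1,2,2,2,5,5,5,1,1,3,1,1,5,2,1,3,4,2,5,4,2,3,1,4,3,1,2,2,2,5,5,5,1,1,1,1,3,1,1,1,1,5,5,5,5,5,5,5,5,5,2,2,2,2,1,3,4,2,5,4,2,3,1,4,3,1,2,1,1,5,5,5,1,1,4,3,4,3,4,1,3,4,2,5,4,2,3,1,4,3,1,2,4,3,4,3,4,1,1,1,1,5,5,5,5,5,5,5,5,5,1,1,1,1,1,3,4,2,5,4,2,3,1,4,3,1,2],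
  [0,0,0,0,0,0,0,0,0,0,3,4,3,1,1,5,5,5,1,2,2,4,0,5,1,3,4,2,5,4,2,3,1,4,3,1,2,5,5,5,0,0,0,0,0,0,0,0,0,0,4,2,2,2,2,1,1,5,5,5,5,5,5,5,5,5,1,1,1,1,3,4,3,0,0,0,0,0,0,0,0,0,0,0,0,0,0,0,0,0,0,0,0,0,0,0,0,0,0,0,0,0,0,0,0,0,0,0,0,0,0,0,0,0,0,0,0,0,0,0,0,0,0,0,0,0,0,0,0,0,0,0,0,0,0,0,0,0,0,0,0,0,0,0,0,0,0,0,0,0,0,0,0,0,0,0,0,0,0,0,0,0,0,0,0,0,0,0,0,0,0,0,0,1,3,4,2,5,4,2,3,1,4,3,1,2],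
  [3,5,5,5,1,1,2,2,5,1,1,3,2,1,1,3,4,2,5,4,2,3,1,4,3,1,2,1,1,2,2,3,1,1,1,1,5,5,5,2,2,2,2,1,1,1,1,5,5,5,5,5,5,5,5,5,3,1,3,4,2,5,4,2,3,1,4,3,1,2,4,3,4,3,4,1,5,1,1,3,4,2,5,4,2,3,1,4,3,1,2,1,1,5,5,5,1,1,4,3,4,3,4,1,3,4,2,5,4,2,3,1,4,3,1,2,3,5,5,5,1,1,2,2,5,1,1,3,2,1,1,3,4,2,5,4,2,3,1,4,3,1,2,1,1,2,2,3,1,1,1,1,5,5,5,2,2,2,2,1,1,1,1,5,5,5,5,5,5,5,5,5,3,1,3,4,2,5,4,2,3,1,4,3,1,2],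
  [3,2,2,5,5,5,3,1,5,4,1,3,1,3,4,2,5,4,2,3,1,4,3,1,2,3,1,1,4,5,5,5,1,1,3,5,5,5,5,5,5,5,5,5,2,2,2,2,3,1,3,4,2,5,4,2,3,1,4,3,1,2,3,1,1,4,2,2,3,4,5,5,2,1,4,1,3,4,2,5,4,2,3,1,4,3,1,2,4,1,1,2,2,5,5,5,5,5,5,4,3,2,2,2,2,4,1,1,1,1,3,1,3,4,2,5,4,2,3,1,4,3,1,2,3,2,2,5,5,5,3,1,5,4,1,3,1,3,4,2,5,4,2,3,1,4,3,1,2,3,1,1,4,5,5,5,1,1,3,5,5,5,5,5,5,5,5,5,2,2,2,2,3,1,3,4,2,5,4,2,3,1,4,3,1,2],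
  [1,1,3,2,2,2,2,1,2,2,1,2,1,1,3,4,2,5,4,2,3,1,4,3,1,2,1,1,2,2,1,1,2,2,2,2,1,1,2,2,2,2,2,2,2,2,3,1,1,1,1,1,3,4,2,5,4,2,3,1,4,3,1,2,1,1,5,5,5,1,1,4,3,4,3,4,1,3,4,2,5,4,2,3,1,4,3,1,2,4,3,4,3,4,1,1,1,1,5,5,5,5,5,5,5,5,5,1,1,1,1,1,3,4,2,5,4,2,3,1,4,3,1,2,1,1,3,2,2,2,2,1,2,2,1,2,1,1,3,4,2,5,4,2,3,1,4,3,1,2,1,1,2,2,1,1,2,2,2,2,1,1,2,2,2,2,2,2,2,2,3,1,1,1,1,1,3,4,2,5,4,2,3,1,4,3,1,2],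
  [2,2,5,5,5,1,1,3,1,1,5,2,1,3,4,2,5,4,2,3,1,4,3,1,2,2,2,5,5,5,1,1,1,1,3,1,1,1,1,5,5,5,5,5,5,5,5,5,2,2,2,2,1,3,4,2,5,4,2,3,1,4,3,1,2,1,1,5,5,5,1,1,4,3,4,3,4,1,3,4,2,5,4,2,3,1,4,3,1,2,4,3,4,3,4,1,1,1,1,5,5,5,5,5,5,5,5,5,1,1,1,1,1,3,4,2,5,4,2,3,1,4,3,1,2,2,2,5,5,5,1,1,3,1,1,5,2,1,3,4,2,5,4,2,3,1,4,3,1,2,2,2,5,5,5,1,1,1,1,3,1,1,1,1,5,5,5,5,5,5,5,5,5,2,2,2,2,1,3,4,2,5,4,2,3,1,4,3,1,2],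
  [5,5,5,1,1,2,2,3,4,3,1,2,2,1,3,4,2,5,4,2,3,1,4,3,1,2,2,2,2,2,1,1,3,4,3,2,2,2,2,1,1,1,1,5,5,5,5,5,5,5,5,5,1,3,4,2,5,4,2,3,1,4,3,1,2,1,1,2,2,4,5,5,5,4,2,4,1,4,1,3,4,2,5,4,2,3,1,4,3,1,2,4,1,1,4,2,2,4,5,5,5,5,5,5,5,5,5,4,2,2,2,2,1,1,1,1,1,3,4,2,5,4,2,3,1,4,3,1,2,5,5,5,1,1,2,2,3,4,3,1,2,2,1,3,4,2,5,4,2,3,1,4,3,1,2,2,2,2,2,1,1,3,4,3,2,2,2,2,1,1,1,1,5,5,5,5,5,5,5,5,5,1,3,4,2,5,4,2,3,1,4,3,1,2]]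

/-- The checks. -/
noncomputable def chkWit : Bool :=
  eqW (cW ++ (cW ++ cW)) [] && neW cW [] &&
  eqW (fW ++ (fW ++ (fW ++ (fW ++ fW)))) [] && neW fW [] &&
  eqW (fW ++ cW) (cW ++ fW) &&
  eqW (cW ++ McL.Out.tWord) (McL.Out.tWord ++ cW) &&
  eqW (fW ++ McL.Out.tWord) (McL.Out.tWord ++ fW) &&
  distinctW 81 vW &&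
  allBelow 81 (fun i => eqW (vW.getD i [] ++ (vW.getD i [] ++ vW.getD i [])) [] &&
    eqW (vW.getD i [] ++ cW) (cW ++ vW.getD i []) &&
    eqW (McL.Out.tWord ++ (vW.getD i [] ++ (McL.Out.tWord ++ vW.getD i []))) [])

theorem wit_ok : chkWit = true := by decide +kernel

/-- The facts used about the model. -/
theorem wit_facts : ∃ c f : M, c ^ 3 = 1 ∧ c ≠ 1 ∧ f ^ 5 = 1 ∧ f ≠ 1 ∧ f * c = c * f ∧ c ∈ CT ∧ f ∈ CT ∧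
    ∃ v : Fin 81 → M, Function.Injective v ∧
      ∀ i, v i ^ 3 = 1 ∧ v i * c = c * v i ∧ t₀ * v i * t₀ * v i = 1 := by
  have h := wit_ok
  simp only [chkWit, Bool.and_eq_true] at h
  obtain ⟨⟨⟨⟨⟨⟨⟨⟨h1, h2⟩, h3⟩, h4⟩, h5⟩, h6⟩, h7⟩, h8⟩, h9⟩ := h
  refine ⟨W cW, W fW, ?_, ?_, ?_, ?_, ?_, ?_, ?_, fun i => W (vW.getD i []), distinctW_spec h8,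
    fun i => ?_⟩
  · have := W_eq h1
    rw [W_append, W_append, W_nil] at this
    rw [pow_three]; exact this
  · exact fun e => W_ne h2 (e.trans W_nil.symm)
  · have := W_eq h3
    simp only [W_append, W_nil] at this
    rw [pow_succ', pow_succ', pow_succ', pow_succ', pow_one]; exact this
  · exact fun e => W_ne h4 (e.trans W_nil.symm)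
  · have := W_eq h5
    rwa [W_append, W_append] at this
  · have := W_eq h6
    rw [W_append, W_append, t₀_eq] at this
    exact mem_CT.2 this
  · have := W_eq h7
    rw [W_append, W_append, t₀_eq] at this
    exact mem_CT.2 this
  · have hi := allBelow_eq_true.mp h9 i i.2
    simp only [Bool.and_eq_true] at hi
    refine ⟨?_, ?_, ?_⟩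
    · have := W_eq hi.1.1
      simp only [W_append, W_nil] at this
      rw [pow_three]; exact this
    · have := W_eq hi.1.2
      rwa [W_append, W_append] at this
    · have := W_eq hi.2
      simp only [W_append, W_nil, t₀_eq] at this
      simpa [mul_assoc] using this

end Cfsg.Agent.CoverDegree
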