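import Cfsg.Agent.CoverDegree.Sub
import Cfsg.Agent.CoverDegree.ThreeBound
import Cfsg.Agent.CoverDegree.Witness
import Mathlib.GroupTheory.FixedPointFree

/-!
Degrees nine and ten: the model's three-local structure does not fit.
-/

set_option autoImplicit false
set_option linter.unusedSectionVars false
set_option maxHeartbeats 1000000

namespace Cfsg.Agent.CoverDegree

open Equiv Equiv.Perm Cfsg.Agent.McLRecog

universe u

variable {G : Type u} [Group G] [Finite G] {n : ℕ} (X : Ctx G n)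

theorem not_two_dvd_oddCore (D : Type u) [Group D] [Finite D] : ¬ 2 ∣ Nat.card (Cfsg.oddCore D) := by
  intro h
  have h1 : (Nat.card (Cfsg.oddCore D)).Coprime 2 := Core.coprime_card_pPrimeCore (p := 2)
  rw [Nat.coprime_two_right] at h1
  exact Nat.not_even_iff_odd.2 h1 (even_iff_two_dvd.2 h)

theorem not_mem_oddCore {D : Type u} [Group D] [Finite D] {x : D} (hx : orderOf x = 2) : x ∉ Cfsg.oddCore D :=
  fun h => not_two_dvd_oddCore D (hx ▸ Subgroup.orderOf_dvd_natCard _ h)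

/-- Elements commuting with a three cycle lift, of cube one, inverted by the involution. -/
def invSet (c : G) : Set G := {x | Commute x c ∧ x ^ 3 = 1 ∧ X.z * x * X.z * x = 1}

/-- The involution swaps the inverted elements with their inverses. -/
theorem invSet.conj_z {c x : G} (hx : x ∈ invSet X c) : X.z * x * X.z = x⁻¹ :=
  eq_inv_of_mul_eq_one_left hx.2.2

theorem invSet.inv_mem {c x : G} (hx : x ∈ invSet X c) : x⁻¹ ∈ invSet X c := by
  refine ⟨hx.1.inv_left, by rw [inv_pow, hx.2.1, inv_one], ?_⟩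
  calc X.z * x⁻¹ * X.z * x⁻¹ = X.z * (X.z * x * X.z) * X.z * x⁻¹ := by rw [invSet.conj_z X hx]
    _ = (X.z * X.z) * x * (X.z * X.z) * x⁻¹ := by group
    _ = 1 := by rw [X.z_sq]; group

theorem invSet.conj_mem {c x u : G} (hu : u * X.z = X.z * u) (hc : u * c * u⁻¹ = c ∨ u * c * u⁻¹ = c⁻¹)
    (hx : x ∈ invSet X c) : u * x * u⁻¹ ∈ invSet X c := by
  refine ⟨?_, by rw [conj_pow, hx.2.1, mul_one, mul_inv_cancel], ?_⟩
  · have h : Commute (u * x * u⁻¹) (u * c * u⁻¹) := (Commute.conj_iff u).2 hx.1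
    rcases hc with e | e <;> rw [e] at h
    · exact h
    · simpa using h.inv_right
  · calc X.z * (u * x * u⁻¹) * X.z * (u * x * u⁻¹) = (X.z * u) * x * (u⁻¹ * X.z * u) * x * u⁻¹ := by group
      _ = u * (X.z * x * X.z * x) * u⁻¹ := by
        rw [← hu, show u⁻¹ * X.z * u = X.z by rw [mul_assoc, ← hu, inv_mul_cancel_left]]; group
      _ = 1 := by rw [hx.2.2]; group

/-- There are at most eighty-one of them. -/
theorem card_invSet_le (hn : 9 ≤ n ∧ n ≤ 10) (hall : ∀ i : G, orderOf i = 2 → IsConj X.z i)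
    {cH : HC X.z} (h3 : cH ^ 3 = 1) (hσ : (X.C.p cH).IsThreeCycle) :
    Nat.card (invSet X (cH : G)) ≤ 81 := by
  classical
  set cG : G := (cH : G) with hcG
  have hcz : cG * X.z = X.z * cG := Subgroup.mem_centralizer_singleton_iff.1 cH.2
  let Xc : Subgroup G := Subgroup.centralizer ({cG} : Set G)
  have memX : ∀ {g : G}, Commute g cG → g ∈ Xc := fun h => Subgroup.mem_centralizer_singleton_iff.2 h.eq
  let zX : Xc := ⟨X.z, memX hcz.symm⟩
  let cX : Xc := ⟨cG, memX (Commute.refl cG)⟩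
  have hcX3 : cX ^ 3 = 1 := Subtype.ext (by
    rw [SubgroupClass.coe_pow, OneMemClass.coe_one]; exact congrArg Subtype.val h3)
  have hiso : Cfsg.IsIsolatedInvolution zX := by
    refine ⟨by rw [Subgroup.orderOf_mk, X.order], fun g hc => ?_⟩
    by_contra hne
    have hc' : Commute X.z ((g * zX * g⁻¹ : Xc) : G) := hc.map Xc.subtype
    let w : HC X.z := ⟨((g * zX * g⁻¹ : Xc) : G), X.mem_HC hc'⟩
    let T : NInv X.C := ⟨w, Subtype.ext (by
        show ((g * zX * g⁻¹ : Xc) : G) * ((g * zX * g⁻¹ : Xc) : G) = 1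
        rw [← Subgroup.coe_mul, show g * zX * g⁻¹ * (g * zX * g⁻¹) = g * (zX * zX) * g⁻¹ by group,
          show zX * zX = 1 from Subtype.ext X.z_sq, mul_one, mul_inv_cancel, OneMemClass.coe_one]),
      fun e => X.z_ne (by
        have e' : (w : G) = 1 := congrArg Subtype.val e
        exact congrArg Subtype.val (conj_eq_one_iff.1 (Subtype.ext e' : g * zX * g⁻¹ = 1))),
      fun e => hne (Subtype.ext ((congrArg Subtype.val e).trans X.z_eq))⟩
    refine T.not_comm_three hn hσ ?_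
    have : Commute cH w := Subtype.ext (Subgroup.mem_centralizer_singleton_iff.1 (g * zX * g⁻¹ : Xc).2).symm
    exact this.map X.C.p
  set Nc := Cfsg.oddCore Xc with hNc
  have hNn : Nc.Normal := (inferInstance : (Cfsg.pPrimeCore 2 Xc).Normal)
  have hzst := fun g => Invol.zstar hiso g
  have hcent : ∀ g : Xc, g * cX = cX * g := fun g =>
    Subtype.ext (Subgroup.mem_centralizer_singleton_iff.1 g.2)
  let Zc : Subgroup Xc := Subgroup.zpowers cX
  have hZn : Zc.Normal := ⟨fun a ha g => by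
    obtain ⟨i, rfl⟩ := Subgroup.mem_zpowers_iff.1 ha
    rw [((show Commute g cX from hcent g).zpow_right i).eq, mul_inv_cancel_right]
    exact ha⟩
  have hcN : cX ∈ Nc := by
    have hle : Zc ≤ Nc := Core.le_pPrimeCore (p := 2) (by
      rw [Nat.card_zpowers]
      exact Nat.Coprime.coprime_dvd_left (orderOf_dvd_of_pow_eq_one hcX3) (by decide))
    exact hle (Subgroup.mem_zpowers cX)
  -- the fixed points of the involution in the core
  have hNH : ∀ w ∈ Nc, Commute X.z (w : G) → w ∈ Zc := by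
    intro w hw hcw
    let R : Subgroup (HC X.z) := (Nc.map Xc.subtype).comap (HC X.z).subtype
    have hmemR : ∀ {a : HC X.z}, a ∈ R → ∃ b : Xc, b ∈ Nc ∧ (b : G) = (a : G) :=
      fun ⟨b, hb, e⟩ => ⟨b, hb, e⟩
    have hwR : (⟨(w : G), X.mem_HC hcw⟩ : HC X.z) ∈ R := ⟨w, hw, rfl⟩
    have hzR : X.C.z ∉ R := fun h => by
      obtain ⟨b, hb, e⟩ := hmemR h
      rw [X.z_eq] at e
      exact not_mem_oddCore (show orderOf b = 2 by rw [← Subgroup.orderOf_coe, e, X.order]) hb
    have hcR : cH ∈ R := ⟨cX, hcN, rfl⟩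
    set σ := X.C.p cH with hσdef
    have hq : 5 ≤ σ.supportᶜ.card := by
      rw [Finset.card_compl, Fintype.card_fin, hσ.card_support]; omega
    have hdi := (dichotomy X.C σ.supportᶜ hq (R := R) fun y hy x hx => by
      have hyc : Commute y cH := X.C.commute_of_disjoint fun i => by
        by_cases hi : i ∈ σ.support
        · exact Or.inl (hy i (fun h => Finset.mem_compl.1 h hi))
        · exact Or.inr (not_not.1 fun h => hi (mem_support.2 h))
      obtain ⟨b, hb, e⟩ := hmemR hx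
      refine ⟨⟨(y : G), memX (hyc.map (HC X.z).subtype)⟩ * b * ⟨(y : G), memX (hyc.map (HC X.z).subtype)⟩⁻¹,
        hNn.conj_mem _ hb _, ?_⟩
      show (y : G) * (b : G) * (y : G)⁻¹ = _
      rw [e]; rfl).resolve_left hzR
    set x : HC X.z := ⟨(w : G), X.mem_HC hcw⟩ with hx
    have hxc : Commute x cH := Subtype.ext (Subgroup.mem_centralizer_singleton_iff.1 w.2)
    have hπσ : Commute (X.C.p x) σ := hxc.map X.C.p
    have hpres : ∀ i, X.C.p x i ∈ σ.support ↔ i ∈ σ.support := fun i => by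
      rw [mem_support, mem_support, ← Perm.mul_apply, ← hπσ.eq, Perm.mul_apply]
      exact (X.C.p x).injective.ne_iff
    have hout := hdi x hwR fun i => by rw [Finset.mem_compl, Finset.mem_compl, hpres]
    obtain ⟨a, ha⟩ : σ.support.Nonempty := Finset.card_pos.1 (by rw [hσ.card_support]; norm_num)
    obtain ⟨i, hi⟩ := hσ.isCycle.exists_pow_eq (mem_support.1 ha) (mem_support.1 ((hpres a).2 ha))
    have heq : X.C.p x = X.C.p (cH ^ i) := by
      refine Equiv.ext fun k => ?_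
      rw [map_pow]
      by_cases hk : k ∈ σ.support
      · obtain ⟨j, rfl⟩ := hσ.isCycle.exists_pow_eq (mem_support.1 ha) (mem_support.1 hk)
        rw [← Perm.mul_apply, (hπσ.pow_right j).eq, Perm.mul_apply, ← hi, ← Perm.mul_apply, ← pow_add, add_comm,
          pow_add, Perm.mul_apply]
      · rw [hout k (Finset.mem_compl.2 hk)]
        have : σ k = k := not_not.1 fun h => hk (mem_support.2 h)
        exact (Equiv.Perm.pow_apply_eq_self_of_apply_eq_self this i).symm
    rcases X.C.p_eq heq with h | h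
    · refine Subgroup.mem_zpowers_iff.2 ⟨(i : ℤ), Subtype.ext ?_⟩
      rw [zpow_natCast, SubgroupClass.coe_pow]
      exact ((congrArg Subtype.val h).trans (SubgroupClass.coe_pow cH i)).symm
    · exfalso
      refine hzR ?_
      rw [show X.C.z = (cH ^ i)⁻¹ * x by rw [h, inv_mul_cancel_left]]
      exact mul_mem (inv_mem (pow_mem hcR i)) hwR
  let Q := Xc ⧸ Zc
  let qh : Xc →* Q := QuotientGroup.mk' Zc
  have hq1 : ∀ a ∈ Zc, qh a = 1 := fun a ha => (QuotientGroup.eq_one_iff a).2 ha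
  let Nb : Subgroup Q := Nc.map qh
  have hNbn : Nb.Normal := Subgroup.Normal.map hNn qh (QuotientGroup.mk'_surjective Zc)
  have hzq : qh zX * qh zX = 1 := by rw [← map_mul, show zX * zX = 1 from Subtype.ext X.z_sq, map_one]
  have hNcomm : ∀ a ∈ Nb, ∀ b ∈ Nb, a * b = b * a := by
    let φ : Nb →* Nb := (MulAut.conjNormal (qh zX)).toMonoidHom
    have hfp : MonoidHom.FixedPointFree φ := fun a ha => by
      obtain ⟨w, hw, hwe⟩ := a.2
      refine Subtype.ext ?_
      have e : qh zX * (a : Q) * (qh zX)⁻¹ = a := congrArg Subtype.val ha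
      rw [← hwe, ← map_inv, ← map_mul, ← map_mul] at e
      obtain ⟨k, hk⟩ := Subgroup.mem_zpowers_iff.1 ((QuotientGroup.eq).1 e.symm : w⁻¹ * (zX * w * zX⁻¹) ∈ Zc)
      have hk' : zX * w * zX⁻¹ = w * cX ^ k := (eq_mul_of_inv_mul_eq hk.symm)
      have hzc : Commute zX (cX ^ k) := ((show Commute zX cX from hcent zX).zpow_right k)
      have hinv : zX⁻¹ = zX := inv_eq_of_mul_eq_one_right (Subtype.ext X.z_sq)
      have h2 : w = w * cX ^ k * cX ^ k := by
        calc w = zX * (zX * w * zX⁻¹) * zX⁻¹ := by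
              rw [hinv, ← mul_assoc, ← mul_assoc, show zX * zX = 1 from Subtype.ext X.z_sq, one_mul, mul_assoc,
                show zX * zX = 1 from Subtype.ext X.z_sq, mul_one]
          _ = zX * (w * cX ^ k) * zX⁻¹ := by rw [hk']
          _ = zX * w * zX⁻¹ * (zX * cX ^ k * zX⁻¹) := by group
          _ = w * cX ^ k * cX ^ k := by rw [hk', hzc.eq, mul_inv_cancel_right]
      have hk1 : cX ^ k = 1 := by
        refine eq_one_of_two_three ?_ ?_
        · rw [mul_assoc] at h2; exact (left_eq_mul.1 h2)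
        · rw [← zpow_natCast, ← zpow_mul, mul_comm, zpow_mul, zpow_natCast, hcX3, one_zpow]
      rw [hk1, mul_one] at hk'
      have hcw : Commute X.z (w : G) := congrArg Subtype.val (mul_inv_eq_iff_eq_mul.1 hk')
      rw [← hwe, hq1 w (hNH w hw hcw)]; rfl
    have hinvol : Function.Involutive φ := fun a => Subtype.ext (by
      show qh zX * (qh zX * (a : Q) * (qh zX)⁻¹) * (qh zX)⁻¹ = a
      rw [inv_eq_of_mul_eq_one_right hzq, ← mul_assoc, ← mul_assoc, hzq, one_mul, mul_assoc, hzq, mul_one])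
    intro a ha b hb
    exact congrArg Subtype.val (hfp.commute_all_of_involutive hinvol ⟨a, ha⟩ ⟨b, hb⟩).eq
  let toX : invSet X cG → Xc := fun y => ⟨y, memX y.2.1⟩
  have hYN : ∀ y, toX y ∈ Nc := fun y => by
    have h := hzst (toX y)
    rwa [show zX * toX y * zX⁻¹ * (toX y)⁻¹ = toX y from Subtype.ext (by
      show X.z * (y : G) * X.z⁻¹ * (y : G)⁻¹ = y
      rw [inv_eq_of_mul_eq_one_right X.z_sq, invSet.conj_z X y.2]
      have := y.2.2.1
      rw [pow_succ, pow_two, mul_assoc] at this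
      rw [← mul_inv_rev]; exact inv_eq_of_mul_eq_one_left this)] at h
  let Φ : invSet X cG → Q := fun y => qh (toX y)
  have hΦN : ∀ y, Φ y ∈ Nb := fun y => ⟨toX y, hYN y, rfl⟩
  have hΦc : ∀ a b, Φ a * Φ b = Φ b * Φ a := fun a b => hNcomm _ (hΦN a) _ (hΦN b)
  have hΦ3 : ∀ a, Φ a ^ 3 = 1 := fun a => by
    rw [← map_pow, show toX a ^ 3 = 1 from Subtype.ext (by rw [SubgroupClass.coe_pow]; exact a.2.2.1), map_one]
  have hcomm_rep : ∀ a b : invSet X cG, ∃ i : ℤ, (b : G) * a = a * b * cG ^ i := fun a b => by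
    have e := hΦc a b
    simp only [Φ, ← map_mul] at e
    obtain ⟨i, hi⟩ := Subgroup.mem_zpowers_iff.1 ((QuotientGroup.eq).1 e)
    refine ⟨i, ?_⟩
    have h' := congrArg Subtype.val (eq_mul_of_inv_mul_eq hi.symm)
    simpa [toX, cX] using h'
  have hczk : ∀ k : ℤ, Commute X.z (cG ^ k) := fun k => (show Commute X.z cG from hcz.symm).zpow_right k
  have hc3k : ∀ k : ℤ, (cG ^ k) ^ 3 = 1 := fun k => by
    rw [← zpow_natCast, ← zpow_mul, mul_comm, zpow_mul, zpow_natCast,
      show cG ^ 3 = 1 from congrArg Subtype.val h3, one_zpow]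
  have huniq : Function.Injective Φ := fun a b e => by
    obtain ⟨i, hi⟩ := Subgroup.mem_zpowers_iff.1 ((QuotientGroup.eq).1 e)
    have hb : (b : G) = a * cG ^ i := by
      have h' := congrArg Subtype.val (eq_mul_of_inv_mul_eq hi.symm)
      simpa [toX, cX] using h'
    have hcy : Commute (a : G) (cG ^ i) := (a.2.1).zpow_right i
    have h2 : (a : G)⁻¹ * (cG ^ i)⁻¹ = (a : G)⁻¹ * cG ^ i := by
      calc (a : G)⁻¹ * (cG ^ i)⁻¹ = (b : G)⁻¹ := by rw [hb, hcy.eq, mul_inv_rev]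
        _ = X.z * (a * cG ^ i) * X.z := by rw [← invSet.conj_z X b.2, hb]
        _ = X.z * a * X.z * (cG ^ i) := by
          rw [mul_assoc _ X.z (cG ^ i), (hczk i).eq]; group
        _ = (a : G)⁻¹ * cG ^ i := by rw [invSet.conj_z X a.2]
    have h1 : cG ^ i = 1 := eq_one_of_two_three (eq_inv_iff_mul_eq_one.1 (mul_left_cancel h2).symm) (hc3k i)
    rw [h1, mul_one] at hb
    exact Subtype.ext hb.symm
  have hrep : ∀ a b : invSet X cG, ∃ w : invSet X cG, ∃ k : ℤ, (w : G) = a * b * cG ^ k := fun a b => by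
    obtain ⟨i, hi⟩ := hcomm_rep a b
    have hcab : Commute ((a : G) * b) cG := a.2.1.mul_left b.2.1
    set e := cG ^ i * cG ^ i with he
    have hek : e = cG ^ (i + i) := (zpow_add cG i i).symm
    have hce : Commute ((a : G) * b) e := hek ▸ hcab.zpow_right _
    have hze : Commute X.z e := hek ▸ hczk _
    set w := (a : G) * b * e with hw
    have hinvw : X.z * w * X.z * w = 1 := by
      calc X.z * w * X.z * w = X.z * a * b * (e * X.z) * w := by rw [hw]; group
        _ = X.z * a * (X.z * X.z) * b * (X.z * e) * w := by rw [X.z_sq, hze.eq, mul_one]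
        _ = (X.z * a * X.z) * (X.z * b * X.z) * e * w := by group
        _ = ((b : G) * a)⁻¹ * e * (a * b * e) := by
            rw [invSet.conj_z X a.2, invSet.conj_z X b.2, mul_inv_rev, hw]
        _ = (cG ^ i)⁻¹ * ((a : G) * b)⁻¹ * (e * (a * b)) * e := by rw [hi]; group
        _ = (cG ^ i) ^ 3 := by rw [← hce.eq, he]; group
        _ = 1 := hc3k i
    refine ⟨⟨w, (hcab.mul_left (hek ▸ (Commute.refl cG).zpow_left _)), ?_, hinvw⟩, i + i, by show w = _; rw [hw, hek]⟩
    have hwc : Commute w cG := hcab.mul_left (hek ▸ (Commute.refl cG).zpow_left _)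
    have hw3 : qh ((⟨w, memX hwc⟩ : Xc) ^ 3) = 1 := by
      rw [map_pow, show (⟨w, memX hwc⟩ : Xc) = toX a * toX b * cX ^ (i + i) from Subtype.ext (by
        simp [toX, cX, hw, hek]), map_mul, map_mul, hq1 _ (Subgroup.zpow_mem _ (Subgroup.mem_zpowers cX) _),
        mul_one, (show Commute (qh (toX a)) (qh (toX b)) from hΦc a b).mul_pow]
      show Φ a ^ 3 * Φ b ^ 3 = 1
      rw [hΦ3, hΦ3, one_mul]
    obtain ⟨j, hj⟩ := Subgroup.mem_zpowers_iff.1 ((QuotientGroup.eq_one_iff _).1 hw3)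
    have hj' : w ^ 3 = cG ^ j := by
      have := congrArg Subtype.val hj
      simpa [cX] using this.symm
    rw [hj']
    refine eq_one_of_two_three ?_ (hc3k j)
    rw [← eq_inv_iff_mul_eq_one]
    calc cG ^ j = X.z * cG ^ j * X.z⁻¹ := by rw [(hczk j).eq, mul_inv_cancel_right]
      _ = (X.z * w * X.z⁻¹) ^ 3 := by rw [conj_pow, hj']
      _ = (w⁻¹) ^ 3 := by
        rw [inv_eq_of_mul_eq_one_right X.z_sq, eq_inv_of_mul_eq_one_left hinvw]
      _ = (cG ^ j)⁻¹ := by rw [inv_pow, hj']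
  have hA : ∀ u : HC X.z, u * u = 1 → u ≠ 1 → u ≠ X.C.z → u * cH * u = cH⁻¹ →
      Nat.card {y : invSet X cG // (u : G) * y * u = y} ≤ 9 := by
    intro u hu2 hu1 huz huc
    have hu2' : (u : G) * u = 1 := congrArg Subtype.val hu2
    have huinv : (u : G)⁻¹ = u := inv_eq_of_mul_eq_one_right hu2'
    have huo : orderOf (u : G) = 2 := orderOf_eq_prime (by rw [pow_two, hu2']) fun e => hu1 (Subtype.ext e)
    obtain ⟨h, hh⟩ := isConj_iff.1 (hall _ huo)
    have hH : ∀ y : {y : invSet X cG // (u : G) * y * u = y}, h⁻¹ * (y.1 : G) * h ∈ HC X.z := fun y => by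
      refine X.mem_HC ?_
      rw [← Commute.conj_iff h, hh, show h * (h⁻¹ * (y.1 : G) * h) * h⁻¹ = (y.1 : G) by group]
      show (u : G) * y.1 = y.1 * u
      calc (u : G) * y.1 = (u : G) * y.1 * u * u := by rw [mul_assoc _ (u : G) u, hu2', mul_one]
        _ = y.1 * u := by rw [y.2]
    have htH : h⁻¹ * X.z * h ∈ HC X.z := by
      refine X.mem_HC ?_
      rw [← Commute.conj_iff h, hh, show h * (h⁻¹ * X.z * h) * h⁻¹ = X.z by group]
      exact Subgroup.mem_centralizer_singleton_iff.1 u.2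
    let T : NInv X.C := ⟨⟨h⁻¹ * X.z * h, htH⟩, Subtype.ext (by
        show h⁻¹ * X.z * h * (h⁻¹ * X.z * h) = 1
        rw [show h⁻¹ * X.z * h * (h⁻¹ * X.z * h) = h⁻¹ * (X.z * X.z) * h by group, X.z_sq]; group),
      fun e => X.z_ne (by
        have e' : h⁻¹ * X.z * h = 1 := congrArg Subtype.val e
        calc X.z = h * (h⁻¹ * X.z * h) * h⁻¹ := by group
          _ = 1 := by rw [e']; group),
      fun e => huz (Subtype.ext (by
        have e' : h⁻¹ * X.z * h = X.z := (congrArg Subtype.val e).trans X.z_eq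
        rw [X.z_eq, ← hh]
        conv_lhs => rw [← e']
        group))⟩
    let f : {y : invSet X cG // (u : G) * y * u = y} → HC X.z := fun y => ⟨_, hH y⟩
    have hf : Function.Injective f := fun a b e => Subtype.ext (Subtype.ext
      (mul_left_cancel (mul_right_cancel (congrArg Subtype.val e))))
    rw [Nat.card_congr (Equiv.ofInjective f hf)]
    refine T.card_inverted_le hn _ ?_ ?_ ?_
    · rintro _ ⟨a, rfl⟩ _ ⟨b, rfl⟩
      obtain ⟨i, hi⟩ := hcomm_rep a.1 b.1
      have hab : (u : G) * (a.1 * b.1) * u = a.1 * b.1 := by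
        calc (u : G) * (a.1 * b.1) * u = (u * a.1 * u) * (u * b.1 * u) := by
              rw [show (u : G) * a.1 * u * (u * b.1 * u) = u * a.1 * (u * u) * b.1 * u by group, hu2']; group
          _ = _ := by rw [a.2, b.2]
      have hba : (u : G) * (b.1 * a.1) * u = b.1 * a.1 := by
        calc (u : G) * (b.1 * a.1) * u = (u * b.1 * u) * (u * a.1 * u) := by
              rw [show (u : G) * b.1 * u * (u * a.1 * u) = u * b.1 * (u * u) * a.1 * u by group, hu2']; group
          _ = _ := by rw [a.2, b.2]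
      have huc' : (u : G) * cG ^ i * u = (cG ^ i)⁻¹ := by
        have e : (u : G) * cG * u = cG⁻¹ := congrArg Subtype.val huc
        conv_lhs => rw [show (u : G) * cG ^ i * u = u * cG ^ i * (u : G)⁻¹ by rw [huinv]]
        rw [← conj_zpow, huinv, e, inv_zpow]
      have h1 : cG ^ i = 1 := by
        refine eq_one_of_two_three (eq_inv_iff_mul_eq_one.1 ?_) (hc3k i)
        refine mul_left_cancel (a := (a.1 : G) * b.1) ?_
        calc (a.1 : G) * b.1 * cG ^ i = u * (b.1 * a.1) * u := by rw [hba, hi]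
          _ = (u * (a.1 * b.1) * u) * (u * cG ^ i * u) := by
              rw [show (u : G) * (a.1 * b.1) * u * (u * cG ^ i * u) = u * (a.1 * b.1) * (u * u) * cG ^ i * u by group,
                hu2', hi]; group
          _ = _ := by rw [hab, huc']
      rw [h1, mul_one] at hi
      refine Subtype.ext ?_
      show h⁻¹ * (a.1 : G) * h * (h⁻¹ * b.1 * h) = h⁻¹ * b.1 * h * (h⁻¹ * a.1 * h)
      rw [show h⁻¹ * (a.1 : G) * h * (h⁻¹ * b.1 * h) = h⁻¹ * (a.1 * b.1) * h by group, ← hi]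
      group
    · rintro _ ⟨a, rfl⟩
      refine Subtype.ext ?_
      show (h⁻¹ * (a.1 : G) * h) ^ 3 = 1
      rw [show h⁻¹ * (a.1 : G) * h = h⁻¹ * a.1 * h⁻¹⁻¹ by rw [inv_inv], conj_pow, a.1.2.2.1]
      group
    · rintro _ ⟨a, rfl⟩
      refine Subtype.ext ?_
      show h⁻¹ * X.z * h * (h⁻¹ * a.1 * h) * (h⁻¹ * X.z * h) * (h⁻¹ * a.1 * h) = 1
      rw [show h⁻¹ * X.z * h * (h⁻¹ * (a.1 : G) * h) * (h⁻¹ * X.z * h) * (h⁻¹ * a.1 * h)
        = h⁻¹ * (X.z * a.1 * X.z * a.1) * h by group, a.1.2.2.2]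
      group
  obtain ⟨T, hT⟩ := exists_inverter (C := X.C) hn h3 hσ
  set τ : G := (T.t : G) with hτdef
  have hτ2 : τ * τ = 1 := congrArg Subtype.val T.sq
  have hτinv : τ⁻¹ = τ := inv_eq_of_mul_eq_one_right hτ2
  have hτz : τ * X.z = X.z * τ := Subgroup.mem_centralizer_singleton_iff.1 T.t.2
  have hτc : τ * cG * τ = cG⁻¹ := congrArg Subtype.val hT
  let σy : invSet X cG → invSet X cG := fun y => ⟨τ * y * τ⁻¹,
    invSet.conj_mem X hτz (Or.inr (by rw [hτinv]; exact hτc)) y.2⟩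
  let iy : invSet X cG → invSet X cG := fun y => ⟨(y : G)⁻¹, invSet.inv_mem X y.2⟩
  choose w k hw using hrep
  have hτck : ∀ i : ℤ, τ * cG ^ i * τ⁻¹ = cG ^ (-i) := fun i => by
    rw [← conj_zpow, hτinv, hτc, zpow_neg, inv_zpow]
  have hq_c : ∀ i : ℤ, qh (cX ^ i) = 1 := fun i => hq1 _ (Subgroup.zpow_mem _ (Subgroup.mem_zpowers cX) _)
  have hΦw : ∀ a b, Φ (w a b) = Φ a * Φ b := fun a b => by
    show qh _ = qh _ * qh _
    rw [show toX (w a b) = toX a * toX b * cX ^ (k a b) from Subtype.ext (by simp [toX, cX, hw]), map_mul,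
      map_mul, hq_c, mul_one]
  have hΦσw : ∀ a b, Φ (σy (w a b)) = Φ (σy a) * Φ (σy b) := fun a b => by
    show qh _ = qh _ * qh _
    rw [show toX (σy (w a b)) = toX (σy a) * toX (σy b) * cX ^ (-(k a b)) from Subtype.ext (by
      show τ * (w a b : G) * τ⁻¹ = ((toX (σy a) * toX (σy b) * cX ^ (-(k a b)) : Xc) : G)
      rw [Subgroup.coe_mul, Subgroup.coe_mul, SubgroupClass.coe_zpow, ← hτck, hw]
      show _ = τ * (a : G) * τ⁻¹ * (τ * b * τ⁻¹) * (τ * cG ^ k a b * τ⁻¹)
      group), map_mul, map_mul, hq_c, mul_one]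
  have hΦinv : ∀ a, Φ (iy a) = (Φ a)⁻¹ := fun a => by
    show qh _ = (qh _)⁻¹
    rw [← map_inv]
    exact congrArg qh (Subtype.ext rfl)
  have hσσ : ∀ a, σy (σy a) = a := fun a => Subtype.ext (by
    show τ * (τ * a * τ⁻¹) * τ⁻¹ = a
    rw [hτinv, ← mul_assoc, ← mul_assoc, hτ2, one_mul, mul_assoc, hτ2, mul_one])
  have hσi : ∀ a, σy (iy a) = iy (σy a) := fun a => Subtype.ext (by
    show τ * (a : G)⁻¹ * τ⁻¹ = (τ * a * τ⁻¹)⁻¹
    group)
  have h1 : ∀ y, τ * (w y (σy y) : G) * τ = w y (σy y) := fun y => by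
    have := huniq (show Φ (σy (w y (σy y))) = Φ (w y (σy y)) by rw [hΦσw, hσσ, hΦw, hΦc])
    have e : τ * (w y (σy y) : G) * τ⁻¹ = w y (σy y) := congrArg Subtype.val this
    rwa [hτinv] at e
  have h2 : ∀ y, τ * X.z * (w y (iy (σy y)) : G) * (τ * X.z) = w y (iy (σy y)) := fun y => by
    set v := w y (iy (σy y)) with hv
    have := huniq (show Φ (σy v) = Φ (iy v) by
      rw [hΦσw, hσi, hσσ, hΦinv, hΦinv, hΦw, hΦinv, mul_inv_rev, inv_inv])
    have e : τ * (v : G) * τ⁻¹ = (v : G)⁻¹ := congrArg Subtype.val this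
    calc τ * X.z * (v : G) * (τ * X.z) = τ * X.z * (v : G) * (X.z * τ) := congrArg _ hτz
      _ = τ * (X.z * v * X.z) * τ := by group
      _ = (τ * v * τ⁻¹)⁻¹ := by rw [invSet.conj_z X v.2, hτinv, mul_inv_rev, mul_inv_rev, hτinv, mul_assoc]
      _ = v := by rw [e, inv_inv]
  have hTz : T.t * X.C.z * (T.t * X.C.z) = 1 := by
    rw [mul_assoc, ← mul_assoc X.C.z, ← X.C.z_comm T.t, mul_assoc T.t X.C.z X.C.z, X.C.z_sq, mul_one, T.sq]
  have hb1 := hA T.t T.sq T.ne_one T.ne_z hT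
  have hb2 := hA (T.t * X.C.z) hTz
    (fun e => T.ne_z (by rw [eq_inv_of_mul_eq_one_left e, inv_eq_of_mul_eq_one_right X.C.z_sq]))
    (fun e => T.ne_one (mul_eq_right.1 e))
    (by calc T.t * X.C.z * cH * (T.t * X.C.z) = T.t * (X.C.z * cH) * (T.t * X.C.z) := by group
          _ = T.t * (cH * X.C.z) * (T.t * X.C.z) := by rw [X.C.z_comm cH]
          _ = T.t * cH * (X.C.z * T.t) * X.C.z := by group
          _ = T.t * cH * (T.t * X.C.z) * X.C.z := by rw [X.C.z_comm T.t]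
          _ = T.t * cH * T.t * (X.C.z * X.C.z) := by group
          _ = cH⁻¹ := by rw [hT, X.C.z_sq, mul_one])
  let F : invSet X cG → {y : invSet X cG // τ * y * τ = y} ×
      {y : invSet X cG // ((T.t * X.C.z : HC X.z) : G) * y * ((T.t * X.C.z : HC X.z) : G) = y} :=
    fun y => (⟨w y (σy y), h1 y⟩, ⟨w y (iy (σy y)), by
      rw [Subgroup.coe_mul, X.z_eq]; exact h2 y⟩)
  have hF : Function.Injective F := fun a b e => by
    have e1 : Φ (w a (σy a)) = Φ (w b (σy b)) := by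
      rw [show w a (σy a) = w b (σy b) from congrArg (fun p => p.1.1) e]
    have e2 : Φ (w a (iy (σy a))) = Φ (w b (iy (σy b))) := by
      rw [show w a (iy (σy a)) = w b (iy (σy b)) from congrArg (fun p => p.2.1) e]
    rw [hΦw, hΦw] at e1
    rw [hΦw, hΦw, hΦinv, hΦinv] at e2
    have hsq : ∀ y, Φ y * Φ (σy y) * (Φ y * (Φ (σy y))⁻¹) = Φ y * Φ y := fun y => by
      rw [← mul_assoc, mul_assoc (Φ y) (Φ (σy y)), hΦc (σy y) y, ← mul_assoc, mul_inv_cancel_right]
    have h22 : Φ a * Φ a = Φ b * Φ b := by rw [← hsq a, ← hsq b, e1, e2]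
    apply huniq
    calc Φ a = (Φ a * Φ a) * (Φ a * Φ a) * (Φ a ^ 3)⁻¹ := by group
      _ = (Φ b * Φ b) * (Φ b * Φ b) * (Φ b ^ 3)⁻¹ := by rw [h22, hΦ3, hΦ3]
      _ = Φ b := by group
  have := Nat.card_le_card_of_injective F hF
  rw [Nat.card_prod] at this
  exact this.trans (Nat.mul_le_mul hb1 hb2)

/-- Degrees nine and ten do not occur. -/
theorem not_nine_ten (hn : 9 ≤ n ∧ n ≤ 10) {g₀ : G} (hg : Commute X.z (g₀ * X.z * g₀⁻¹))
    (hne : g₀ * X.z * g₀⁻¹ ≠ X.z) : False := by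
  classical
  obtain ⟨L, θ, hinj, hθ⟩ := exists_model hn hg hne
  obtain ⟨c, f, hc3, hc1, hf5, hf1, hfc, hcT, hfT, v, hvinj, hv⟩ := wit_facts
  set cH : HC X.z := L.φ ⟨c, hcT⟩ with hcH
  have hθc : θ c = (cH : G) := hθ ⟨c, hcT⟩
  have hθt : θ t₀ = X.z := by
    rw [show θ t₀ = L.f ⟨t₀, mem_CT.mpr rfl⟩ from hθ ⟨t₀, mem_CT.mpr rfl⟩]
    show ((L.φ ⟨t₀, mem_CT.mpr rfl⟩ : HC X.z) : G) = X.z
    rw [L.map_t, X.z_eq]
  have hcH3 : cH ^ 3 = 1 := by rw [← map_pow, show (⟨c, hcT⟩ : CT) ^ 3 = 1 from Subtype.ext hc3, map_one]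
  have hφne : ∀ {x : M} (hx : x ∈ CT), x ≠ 1 → L.φ ⟨x, hx⟩ ≠ 1 := fun hx h e =>
    h (congrArg Subtype.val (L.inj (e.trans (map_one L.φ).symm)))
  have hσ : (X.C.p cH).IsThreeCycle := by
    refine three_cycle_low hn (L.φ_low _) (L.φ_low ⟨f, hfT⟩) hcH3 (hφne hcT hc1) ?_ (hφne hfT hf1) ?_
    · rw [← map_pow, show (⟨f, hfT⟩ : CT) ^ 5 = 1 from Subtype.ext hf5, map_one]
    · exact (show Commute (⟨f, hfT⟩ : CT) ⟨c, hcT⟩ from Subtype.ext hfc).map L.φ
  set Y := invSet X (cH : G) with hY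
  have hvY : ∀ i, θ (v i) ∈ Y := fun i => by
    obtain ⟨a, b, e⟩ := hv i
    refine ⟨?_, by rw [← map_pow, a, map_one], by rw [← hθt, ← map_mul, ← map_mul, ← map_mul, e, map_one]⟩
    rw [← hθc]
    exact (show Commute (v i) c from b).map θ
  have hYeq : Y = Set.range fun i => θ (v i) := by
    symm
    refine Set.eq_of_subset_of_ncard_le (by rintro _ ⟨i, rfl⟩; exact hvY i) ?_ (Set.toFinite _)
    rw [Set.ncard_range_of_injective (f := fun i => θ (v i)) (hinj.comp hvinj), Nat.card_fin,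
      ← Nat.card_coe_set_eq]
    exact card_invSet_le X hn (all_conj hn hg hne) hcH3 hσ
  have hlow : ∀ {x : HC X.z}, x ∈ Low X.C → ∀ {i}, i ∈ (X.C.p x).support → i.val < 8 := fun {x} hx {i} hi =>
    lt_of_not_ge fun h => mem_support.1 hi (hx i h)
  obtain ⟨p, hp, hpm⟩ := exists_pts ((high n)ᶜ \ (X.C.p cH).support) (k := 5) (by
    have h1 := Finset.le_card_sdiff (X.C.p cH).support (high n)ᶜ
    rw [hσ.card_support, Finset.card_compl, Fintype.card_fin, card_high hn] at h1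
    omega)
  simp only [Finset.mem_sdiff, Finset.mem_compl, mem_high] at hpm
  let h8 : Fin n := ⟨8, by omega⟩
  have h8v : h8.val = 8 := rfl
  have hp8 : ∀ i, p i ≠ h8 := fun i e => (hpm i).1 (by rw [e])
  have h8σ : h8 ∉ (X.C.p cH).support := fun h => by
    have := hlow (L.φ_low _) h
    omega
  have hpp : ∀ {i j}, i ≠ j → p i ≠ p j := fun h => hp.ne h
  obtain ⟨gH, hgH⟩ := X.C.exists_lift
    (sign_double (a := h8) (b := p 0) (c := p 1) (d := p 2) (hp8 0).symm (hpp (by decide)))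
  set γ := X.C.p gH with hγdef
  have hγ0 : γ (p 0) = h8 := by
    rw [hgH, Perm.mul_apply, swap_apply_of_ne_of_ne (hpp (by decide)) (hpp (by decide)), swap_apply_right]
  have hγinv8 : γ⁻¹ h8 = p 0 := by rw [← hγ0]; exact γ.symm_apply_apply _
  have hγfix : ∀ i : Fin n, i ≠ h8 → i ≠ p 0 → i ≠ p 1 → i ≠ p 2 → γ i = i := fun i a b d e => by
    rw [hgH, Perm.mul_apply, swap_apply_of_ne_of_ne d e, swap_apply_of_ne_of_ne a b]
  have hgc : Commute gH cH := X.C.commute_of_disjoint fun i => by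
    by_cases hi : i ∈ (X.C.p cH).support
    · exact Or.inl (hγfix i (fun e => h8σ (e ▸ hi)) (fun e => (hpm 0).2 (e ▸ hi)) (fun e => (hpm 1).2 (e ▸ hi))
        (fun e => (hpm 2).2 (e ▸ hi)))
    · exact Or.inr (not_not.1 fun h => hi (mem_support.2 h))
  set g : G := (gH : G) with hgdef
  have hgz : g * X.z = X.z * g := Subgroup.mem_centralizer_singleton_iff.1 gH.2
  have hgc' : g * (cH : G) * g⁻¹ = cH := by
    rw [show g * (cH : G) = (cH : G) * g from congrArg Subtype.val hgc.eq, mul_inv_cancel_right]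
  let D : Subgroup G := θ.range ⊓ θ.range.comap (MulAut.conj g).toMonoidHom
  have memD : ∀ {x : G}, x ∈ D ↔ x ∈ θ.range ∧ g * x * g⁻¹ ∈ θ.range := fun {x} => Iff.rfl
  let Fix : Finset (Fin n) := insert (p 0) (high n)
  let K : Subgroup (HC X.z) :=
    { carrier := {x | ∀ i ∈ Fix, X.C.p x i = i}
      one_mem' := fun i _ => by rw [map_one, Perm.one_apply]
      mul_mem' := fun ha hb i hi => by rw [map_mul, Perm.mul_apply, hb i hi, ha i hi]
      inv_mem' := fun {a} ha i hi => by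
        rw [map_inv]; conv_lhs => rw [← ha i hi]
        exact (X.C.p a).symm_apply_apply i }
  have hKlow : ∀ {x}, x ∈ K → x ∈ Low X.C := fun hx i hi => hx i (Finset.mem_insert_of_mem (mem_high.2 hi))
  have hrange : ∀ {x : HC X.z}, (x : G) ∈ θ.range → x ∈ Low X.C := fun {x} ⟨m, hm⟩ => by
    have hmT : m ∈ CT := mem_CT.2 (hinj (by
      rw [map_mul, map_mul, hθt, hm]; exact Subgroup.mem_centralizer_singleton_iff.1 x.2))
    exact (L.mem_range x.2).1 ⟨⟨m, hmT⟩, (hθ ⟨m, hmT⟩).symm.trans hm⟩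
  have hrange' : ∀ {x : HC X.z}, x ∈ Low X.C → (x : G) ∈ θ.range := fun {x} hx => by
    obtain ⟨m, hm⟩ := (L.mem_range x.2).2 hx
    exact ⟨m, (hθ m).trans hm⟩
  have hDK : ∀ {x : HC X.z}, (x : G) ∈ D → x ∈ K := fun {x} hx i hi => by
    have h1 := hrange (memD.1 hx).1
    have h2 : gH * x * gH⁻¹ ∈ Low X.C := hrange (memD.1 hx).2
    rcases Finset.mem_insert.1 hi with rfl | hi
    · have h3 := h2 h8 (le_of_eq h8v.symm)
      rw [map_mul, map_mul, map_inv, Perm.mul_apply, Perm.mul_apply, hγinv8, ← hγ0] at h3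
      exact γ.injective h3
    · exact h1 i (mem_high.1 hi)
  have hKD : ∀ {x : HC X.z}, x ∈ K → (x : G) ∈ D := fun {x} hx => by
    refine memD.2 ⟨hrange' (hKlow hx), hrange' (x := gH * x * gH⁻¹) fun i hi => ?_⟩
    have hfx : X.C.p x (γ⁻¹ i) = γ⁻¹ i := by
      refine hx _ ?_
      by_cases hi8 : i = h8
      · rw [hi8, hγinv8]; exact Finset.mem_insert_self _ _
      · have : γ i = i := hγfix i hi8 (fun e => (hpm 0).1 (e ▸ hi)) (fun e => (hpm 1).1 (e ▸ hi))
          (fun e => (hpm 2).1 (e ▸ hi))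
        have h' : γ⁻¹ i = i := by conv_lhs => rw [← this]; exact γ.symm_apply_apply i
        rw [h']; exact Finset.mem_insert_of_mem (mem_high.2 hi)
    rw [map_mul, map_mul, map_inv, Perm.mul_apply, Perm.mul_apply, hfx]
    exact γ.apply_symm_apply i
  have hzD : X.z ∈ D := memD.2 ⟨⟨t₀, hθt⟩, by rw [hgz, mul_inv_cancel_right]; exact ⟨t₀, hθt⟩⟩
  let zD : D := ⟨X.z, hzD⟩
  have hiso : Cfsg.IsIsolatedInvolution zD := by
    refine ⟨by rw [Subgroup.orderOf_mk, X.order], fun a hca => ?_⟩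
    by_contra hne'
    let w : HC X.z := ⟨((a * zD * a⁻¹ : D) : G), X.mem_HC (hca.map D.subtype)⟩
    let T : NInv X.C := ⟨w, Subtype.ext (by
        show ((a * zD * a⁻¹ : D) : G) * ((a * zD * a⁻¹ : D) : G) = 1
        rw [← Subgroup.coe_mul, show a * zD * a⁻¹ * (a * zD * a⁻¹) = a * (zD * zD) * a⁻¹ by group,
          show zD * zD = 1 from Subtype.ext X.z_sq, mul_one, mul_inv_cancel, OneMemClass.coe_one]),
      fun e => X.z_ne (by
        have e' : (w : G) = 1 := congrArg Subtype.val e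
        exact congrArg Subtype.val (conj_eq_one_iff.1 (Subtype.ext e' : a * zD * a⁻¹ = 1))),
      fun e => hne' (Subtype.ext ((congrArg Subtype.val e).trans X.z_eq))⟩
    have hwK : w ∈ K := hDK (x := w) (a * zD * a⁻¹ : D).2
    exact (hpm 0).1 ((T.fixed_iff hn (hKlow hwK) (p 0)).1 (hwK _ (Finset.mem_insert_self _ _)))
  set O := Cfsg.oddCore D with hO
  have hOn : O.Normal := (inferInstance : (Cfsg.pPrimeCore 2 D).Normal)
  have hq7 : 5 ≤ (Fixᶜ : Finset (Fin n)).card := by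
    rw [Finset.card_compl, Fintype.card_fin]
    have := Finset.card_insert_le (p 0) (high n)
    have := card_high hn
    show 5 ≤ n - (insert (p 0) (high n)).card
    omega
  have hyK : ∀ {y : HC X.z}, (∀ i, i ∉ Fixᶜ → X.C.p y i = i) → y ∈ K := fun h i hi =>
    h i (fun h' => Finset.mem_compl.1 h' hi)
  have hKq : ∀ {x}, x ∈ K → ∀ i, X.C.p x i ∈ Fixᶜ ↔ i ∈ Fixᶜ := fun {x} hx i => by
    rw [Finset.mem_compl, Finset.mem_compl, not_iff_not]
    exact ⟨fun h => by rw [← (X.C.p x).injective (hx _ h)]; exact h, fun h => by rw [hx i h]; exact h⟩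
  have hOH : ∀ {x : HC X.z} (h : (x : G) ∈ D), (⟨(x : G), h⟩ : D) ∈ O → x = 1 := by
    intro x hxD hxO
    let R : Subgroup (HC X.z) := (O.map D.subtype).comap (HC X.z).subtype
    have hmemR : ∀ {a : HC X.z}, a ∈ R → ∃ b : D, b ∈ O ∧ (b : G) = (a : G) := fun ⟨b, hb, e⟩ => ⟨b, hb, e⟩
    have hzR : X.C.z ∉ R := fun h => by
      obtain ⟨b, hb, e⟩ := hmemR h
      rw [X.z_eq] at e
      exact not_mem_oddCore (show orderOf b = 2 by rw [← Subgroup.orderOf_coe, e, X.order]) hb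
    have hdi := (dichotomy X.C Fixᶜ hq7 (R := R) fun y hy a ha => by
      obtain ⟨b, hb, e⟩ := hmemR ha
      refine ⟨⟨(y : G), hKD (hyK hy)⟩ * b * ⟨(y : G), hKD (hyK hy)⟩⁻¹, hOn.conj_mem _ hb _, ?_⟩
      show (y : G) * (b : G) * (y : G)⁻¹ = _
      rw [e]; rfl).resolve_left hzR
    have hxR : x ∈ R := ⟨⟨(x : G), hxD⟩, hxO, rfl⟩
    have hxK := hDK hxD
    have h1 : X.C.p x = 1 := Equiv.ext fun i => by
      rw [Perm.one_apply]
      by_cases hi : i ∈ Fix
      · exact hxK i hi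
      · exact hdi x hxR (hKq hxK) i (Finset.mem_compl.2 hi)
    exact (X.C.p_eq_one h1).resolve_right fun e => hzR (e ▸ hxR)
  have hOcomm : ∀ a ∈ O, ∀ b ∈ O, a * b = b * a := by
    let φ : O →* O := (MulAut.conjNormal zD).toMonoidHom
    have hfp : MonoidHom.FixedPointFree φ := fun a ha => by
      have e : zD * (a : D) * zD⁻¹ = a := congrArg Subtype.val ha
      have hcm : Commute X.z ((a : D) : G) := congrArg Subtype.val (mul_inv_eq_iff_eq_mul.1 e)
      have e1 : ((a : D) : G) = 1 :=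
        congrArg Subtype.val (hOH (x := ⟨((a : D) : G), X.mem_HC hcm⟩) (a : D).2 a.2)
      exact Subtype.ext (Subtype.ext e1)
    have hinvol : Function.Involutive φ := fun a => Subtype.ext (by
      show zD * (zD * (a : D) * zD⁻¹) * zD⁻¹ = a
      rw [inv_eq_of_mul_eq_one_right (show zD * zD = 1 from Subtype.ext X.z_sq), ← mul_assoc, ← mul_assoc,
        show zD * zD = 1 from Subtype.ext X.z_sq, one_mul, mul_assoc, show zD * zD = 1 from Subtype.ext X.z_sq,
        mul_one])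
    intro a ha b hb
    exact congrArg Subtype.val (hfp.commute_all_of_involutive hinvol ⟨a, ha⟩ ⟨b, hb⟩).eq
  let O3 : Subgroup G :=
    { carrier := {x | x ^ 3 = 1 ∧ ∃ h : x ∈ D, (⟨x, h⟩ : D) ∈ O}
      one_mem' := ⟨one_pow 3, D.one_mem, O.one_mem⟩
      mul_mem' := fun {a b} ⟨ha, hA, hA'⟩ ⟨hb, hB, hB'⟩ => ⟨by
          rw [(show Commute a b from congrArg Subtype.val (hOcomm _ hA' _ hB')).mul_pow, ha, hb, one_mul],
        D.mul_mem hA hB, O.mul_mem hA' hB'⟩
      inv_mem' := fun {a} ⟨ha, hA, hA'⟩ => ⟨by rw [inv_pow, ha, inv_one], D.inv_mem hA, O.inv_mem hA'⟩ }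
  have hvO : ∀ i, θ (v i) ∈ O3 := fun i => by
    have hYi := hvY i
    have hgY : g * θ (v i) * g⁻¹ ∈ Y := invSet.conj_mem X hgz (Or.inl hgc') hYi
    rw [hYeq] at hgY
    obtain ⟨j, hj⟩ := hgY
    have hD : θ (v i) ∈ D := memD.2 ⟨⟨v i, rfl⟩, ⟨v j, hj⟩⟩
    refine ⟨hYi.2.1, hD, ?_⟩
    have h := Invol.zstar hiso (⟨θ (v i), hD⟩ : D)
    rwa [show zD * (⟨θ (v i), hD⟩ : D) * zD⁻¹ * (⟨θ (v i), hD⟩ : D)⁻¹ = ⟨θ (v i), hD⟩ from Subtype.ext (by
      show X.z * θ (v i) * X.z⁻¹ * (θ (v i))⁻¹ = θ (v i)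
      rw [inv_eq_of_mul_eq_one_right X.z_sq, invSet.conj_z X hYi]
      have := hYi.2.1
      rw [pow_succ, pow_two, mul_assoc] at this
      rw [← mul_inv_rev]; exact inv_eq_of_mul_eq_one_left this)] at h
  have hKO : ∀ {y : HC X.z}, y ∈ K → ∀ {o : G}, o ∈ O3 → (y : G) * o * (y : G)⁻¹ ∈ O3 :=
    fun {y} hy {o} ⟨ho, hD, hO'⟩ => ⟨by rw [conj_pow, ho, mul_one, mul_inv_cancel],
      D.mul_mem (D.mul_mem (hKD hy) hD) (D.inv_mem (hKD hy)), hOn.conj_mem _ hO' ⟨(y : G), hKD hy⟩⟩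
  have hcK : cH ∈ K := fun i hi => by
    rcases Finset.mem_insert.1 hi with rfl | hi
    · exact not_not.1 fun h => (hpm 0).2 (mem_support.2 h)
    · exact L.φ_low _ i (mem_high.1 hi)
  -- some three-element is not centralised
  obtain ⟨o, ho, hoc⟩ : ∃ o ∈ O3, ¬ Commute o (cH : G) := by
    by_contra! hall
    let R : Subgroup (HC X.z) :=
      K ⊓ (Subgroup.centralizer (O3 : Set G)).comap (HC X.z).subtype
    have hR : ∀ y : HC X.z, (∀ i, i ∉ Fixᶜ → X.C.p y i = i) → ∀ a ∈ R, y * a * y⁻¹ ∈ R := fun y hy a ha => by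
      refine ⟨K.mul_mem (K.mul_mem (hyK hy) ha.1) (K.inv_mem (hyK hy)), ?_⟩
      show ((y * a * y⁻¹ : HC X.z) : G) ∈ Subgroup.centralizer (O3 : Set G)
      rw [Subgroup.mem_centralizer_iff]
      intro o ho
      have h' := Subgroup.mem_centralizer_iff.1 ha.2 _ (hKO (K.inv_mem (hyK hy)) ho)
      simp only [Subgroup.coe_inv, inv_inv, Subgroup.subtype_apply] at h'
      show o * ((y : G) * a * (y : G)⁻¹) = (y : G) * a * (y : G)⁻¹ * o
      calc o * ((y : G) * a * (y : G)⁻¹) = (y : G) * ((y : G)⁻¹ * o * y * a) * (y : G)⁻¹ := by group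
        _ = (y : G) * a * (y : G)⁻¹ * o := by rw [h']; group
    have hcR : cH ∈ R := ⟨hcK, Subgroup.mem_centralizer_iff.2 fun o ho => (hall o ho).eq⟩
    rcases dichotomy X.C Fixᶜ hq7 hR with h | h
    · have hv1 : ∀ i, v i = 1 := fun i => by
        refine hinj ?_
        rw [map_one]
        have e := Subgroup.mem_centralizer_iff.1 h.2 _ (hvO i)
        simp only [Subgroup.subtype_apply, X.z_eq] at e
        refine eq_one_of_two_three ?_ (hvY i).2.1
        calc θ (v i) * θ (v i) = θ (v i) * (X.z * X.z) * θ (v i) := by rw [X.z_sq, mul_one]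
          _ = X.z * θ (v i) * X.z * θ (v i) := by rw [← mul_assoc, e]
          _ = 1 := (hvY i).2.2
      exact absurd (hvinj ((hv1 0).trans (hv1 1).symm)) (by decide)
    · obtain ⟨a, ha⟩ : (X.C.p cH).support.Nonempty := Finset.card_pos.1 (by rw [hσ.card_support]; norm_num)
      refine mem_support.1 ha (h cH hcR (hKq hcK) a (Finset.mem_compl.2 fun hF => ?_))
      exact mem_support.1 ha (hcK a hF)
  have : Fact (Nat.Prime 3) := ⟨Nat.prime_three⟩
  have hO3p : IsPGroup 3 O3 := fun a => ⟨1, Subtype.ext (by simpa using a.2.1)⟩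
  have hbig : 243 ≤ Nat.card O3 := by
    have h81 : 81 < Nat.card O3 := by
      have hlt : Nat.card Y < Nat.card (O3 : Set G) := by
        rw [Nat.card_coe_set_eq, Nat.card_coe_set_eq]
        refine Set.ncard_lt_ncard ⟨by rw [hYeq]; rintro _ ⟨i, rfl⟩; exact hvO i, fun h => hoc (h ho).1⟩
          (Set.toFinite _)
      have hY81 : Nat.card Y = 81 := by
        rw [hYeq, Nat.card_coe_set_eq,
          Set.ncard_range_of_injective (f := fun i => θ (v i)) (hinj.comp hvinj), Nat.card_fin]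
      rw [hY81] at hlt
      exact hlt
    obtain ⟨k, hk⟩ := hO3p.exists_card_eq
    rw [hk] at h81 ⊢
    have : 5 ≤ k := by
      by_contra h
      have := Nat.pow_le_pow_right (show 0 < 3 by norm_num) (show k ≤ 4 by omega)
      omega
    exact Nat.pow_le_pow_right (show 0 < 3 by norm_num) this
  -- a second three cycle
  have h13 : p 1 ≠ p 3 := hpp (by decide)
  have h14 : p 1 ≠ p 4 := hpp (by decide)
  have h34 : p 3 ≠ p 4 := hpp (by decide)
  set κ : Perm (Fin n) := swap (p 1) (p 3) * swap (p 1) (p 4) with hκdef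
  have hκ3 : κ.IsThreeCycle := isThreeCycle_swap_mul_swap_same h13 h14 h34
  obtain ⟨d₀, hd₀⟩ := X.C.exists_lift hκ3.mem_alternatingGroup
  set dH := d₀ ^ 4 with hdH
  have hκp : κ ^ 3 = 1 := by rw [← hκ3.orderOf, pow_orderOf_eq_one]
  have hdp : X.C.p dH = κ := by rw [map_pow, hd₀, pow_succ, hκp, one_mul]
  have hd3 : dH ^ 3 = 1 := by
    rw [hdH, ← pow_mul, show 4 * 3 = 3 * 4 by rfl, pow_mul]
    rcases X.C.p_eq_one (g := d₀ ^ 3) (by rw [map_pow, hd₀, hκp]) with h | h
    · rw [h, one_pow]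
    · rw [h, show (4 : ℕ) = 2 + 2 by rfl, pow_add, pow_two, X.C.z_sq, one_mul]
  have hκfix : ∀ i, i ≠ p 1 → i ≠ p 3 → i ≠ p 4 → κ i = i := fun i a b e => by
    rw [hκdef, Perm.mul_apply, swap_apply_of_ne_of_ne a e, swap_apply_of_ne_of_ne a b]
  have hdK : dH ∈ K := fun i hi => by
    rw [hdp]
    rcases Finset.mem_insert.1 hi with rfl | hi
    · exact hκfix _ (hpp (by decide)) (hpp (by decide)) (hpp (by decide))
    · rw [mem_high] at hi
      exact hκfix _ (fun e => (hpm 1).1 (e ▸ hi)) (fun e => (hpm 3).1 (e ▸ hi)) (fun e => (hpm 4).1 (e ▸ hi))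
  have hdisj : Disjoint (X.C.p cH) κ := fun i => by
    by_cases hi : i ∈ (X.C.p cH).support
    · exact Or.inr (hκfix i (fun e => (hpm 1).2 (e ▸ hi)) (fun e => (hpm 3).2 (e ▸ hi)) (fun e => (hpm 4).2 (e ▸ hi)))
    · exact Or.inl (not_not.1 fun h => hi (mem_support.2 h))
  have hcd : Commute cH dH := X.C.commute_of_disjoint (by rw [hdp]; exact hdisj)
  have hzp : ∀ {x : HC X.z}, x ^ 3 = 1 → IsPGroup 3 (Subgroup.zpowers (x : G)) := fun {x} hx a => by
    obtain ⟨i, hi⟩ := Subgroup.mem_zpowers_iff.1 a.2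
    refine ⟨1, Subtype.ext ?_⟩
    rw [SubgroupClass.coe_pow, ← hi, pow_one, ← zpow_natCast, ← zpow_mul, mul_comm, zpow_mul, zpow_natCast,
      show (x : G) ^ 3 = 1 from congrArg Subtype.val hx, one_zpow]
    rfl
  set S : Subgroup G := Subgroup.zpowers (cH : G) ⊔ Subgroup.zpowers (dH : G) with hS
  have hSp : IsPGroup 3 S := by
    refine (hzp hcH3).to_sup_of_normal_left' (hzp hd3) ?_
    rw [Subgroup.zpowers_le, Subgroup.mem_normalizer_iff]
    intro x
    have hc' : ∀ y ∈ Subgroup.zpowers (cH : G), (dH : G) * y * (dH : G)⁻¹ = y := fun y hy => by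
      obtain ⟨i, rfl⟩ := Subgroup.mem_zpowers_iff.1 hy
      rw [(((show Commute (dH : G) (cH : G) from congrArg Subtype.val hcd.symm.eq)).zpow_right i).eq,
        mul_inv_cancel_right]
    exact ⟨fun hx => by rw [hc' x hx]; exact hx, fun hx => by
      have := hc' _ hx
      rw [mul_left_inj, mul_right_inj] at this
      rwa [← this]⟩
  have hSK : S ≤ K.map (HC X.z).subtype := sup_le (Subgroup.zpowers_le.2 ⟨cH, hcK, rfl⟩)
    (Subgroup.zpowers_le.2 ⟨dH, hdK, rfl⟩)
  have hSn : S ≤ Subgroup.normalizer (O3 : Set G) := fun s hs => by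
    obtain ⟨y, hy, rfl⟩ := hSK hs
    rw [Subgroup.mem_normalizer_iff]
    intro x
    refine ⟨fun hx => hKO hy hx, fun hx => ?_⟩
    have := hKO (K.inv_mem hy) hx
    simpa [mul_assoc] using this
  set P := O3 ⊔ S with hP
  have hPp : IsPGroup 3 P := hO3p.to_sup_of_normal_left' hSp hSn
  have hPle : P ≤ θ.range := sup_le (fun x ⟨_, hx, _⟩ => (memD.1 hx).1)
    (sup_le (Subgroup.zpowers_le.2 (hrange' (hKlow hcK))) (Subgroup.zpowers_le.2 (hrange' (hKlow hdK))))
  let Ψ : O3 × Fin 3 × Fin 3 → P := fun q => ⟨(q.1 : G) * (((cH ^ q.2.1.val * dH ^ q.2.2.val : HC X.z)) : G),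
    mul_mem (Subgroup.mem_sup_left q.1.2) (Subgroup.mem_sup_right (by
      rw [Subgroup.coe_mul, SubgroupClass.coe_pow, SubgroupClass.coe_pow]
      exact mul_mem (Subgroup.mem_sup_left (pow_mem (Subgroup.mem_zpowers _) _))
        (Subgroup.mem_sup_right (pow_mem (Subgroup.mem_zpowers _) _))))⟩
  have hΨ : Function.Injective Ψ := by
    rintro ⟨⟨o₁, ho₁⟩, i₁, j₁⟩ ⟨⟨o₂, ho₂⟩, i₂, j₂⟩ e
    set s₁ : HC X.z := cH ^ i₁.val * dH ^ j₁.val with hs₁
    set s₂ : HC X.z := cH ^ i₂.val * dH ^ j₂.val with hs₂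
    have e' : o₁ * (s₁ : G) = o₂ * (s₂ : G) := congrArg Subtype.val e
    obtain ⟨-, hD, hO'⟩ := O3.mul_mem (O3.inv_mem ho₂) ho₁
    have hx : o₂⁻¹ * o₁ = ((s₂ * s₁⁻¹ : HC X.z) : G) := by
      rw [Subgroup.coe_mul, Subgroup.coe_inv, eq_mul_inv_iff_mul_eq, mul_assoc, e', inv_mul_cancel_left]
    have hD' : ((s₂ * s₁⁻¹ : HC X.z) : G) ∈ D := hx ▸ hD
    have h1 : s₂ * s₁⁻¹ = 1 := hOH hD' (by convert hO' using 1; exact Subtype.ext hx.symm)
    have hs : s₂ = s₁ := mul_inv_eq_one.1 h1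
    have ho' : o₁ = o₂ := mul_right_cancel (e'.trans (by rw [hs]))
    have hp' : (X.C.p cH) ^ i₂.val * κ ^ j₂.val = (X.C.p cH) ^ i₁.val * κ ^ j₁.val := by
      have := congrArg X.C.p hs
      have hd : ∀ m, X.C.p (dH ^ m) = κ ^ m := fun m => by rw [map_pow, hdp]
      simp only [hs₁, hs₂, map_mul, hd, map_pow X.C.p cH] at this
      exact this
    have hinj3 : ∀ {π : Perm (Fin n)}, π.IsThreeCycle → ∀ {a}, π a ≠ a → ∀ i j : Fin 3,
        (π ^ i.val) a = (π ^ j.val) a → i = j := fun {π} hπ {a} ha i j h => by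
      have h3 : π ^ 3 = 1 := by rw [← hπ.orderOf, pow_orderOf_eq_one]
      have h3' : π (π (π a)) = a := by
        have e := congrArg (fun f : Perm (Fin n) => f a) h3
        simpa [pow_succ, Perm.mul_apply] using e
      have hne2 : π (π a) ≠ a := fun e => ha (by rw [e] at h3'; exact h3')
      fin_cases i <;> fin_cases j <;>
        simp [pow_succ, Perm.mul_apply, ha, Ne.symm ha, hne2, Ne.symm hne2] at h ⊢
    obtain ⟨a, ha⟩ : (X.C.p cH).support.Nonempty := Finset.card_pos.1 (by rw [hσ.card_support]; norm_num)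
    rw [mem_support] at ha
    have hκa : κ a = a := (hdisj a).resolve_left ha
    have hi : i₁ = i₂ := hinj3 hσ ha _ _ (by
      have := congrArg (fun f : Perm (Fin n) => f a) hp'
      simp only [Perm.mul_apply, Equiv.Perm.pow_apply_eq_self_of_apply_eq_self hκa] at this
      exact this.symm)
    subst hi
    have hj : j₁ = j₂ := hinj3 hκ3 (a := p 1) (by
        rw [hκdef, Perm.mul_apply, swap_apply_left, swap_apply_of_ne_of_ne h14.symm h34.symm]
        exact h14.symm) _ _ (by rw [mul_left_cancel hp'])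
    subst hj ho'
    rfl
  have hPcard : 2187 ≤ Nat.card P := by
    have := Nat.card_le_card_of_injective Ψ hΨ
    rw [Nat.card_prod, Nat.card_prod, Nat.card_fin] at this
    omega
  obtain ⟨k, hk⟩ := hPp.exists_card_eq
  have hdvd : Nat.card P ∣ 898128000 := by
    have := Subgroup.card_dvd_of_le hPle
    rwa [← Nat.card_congr (MonoidHom.ofInjective hinj).toEquiv,
      show Nat.card M = 898128000 from McL.card_mcl] at this
  rw [hk] at hdvd hPcard
  have hk7 : 7 ≤ k := by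
    by_contra h
    have := Nat.pow_le_pow_right (show 0 < 3 by norm_num) (show k ≤ 6 by omega)
    omega
  exact absurd ((pow_dvd_pow 3 hk7).trans hdvd) (by norm_num)

end Cfsg.Agent.CoverDegree
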